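import Cfsg.Agent.Lib.OmegaEightThree.Tables
import Cfsg.Agent.Lib.Geometry.POmegaStd
import Cfsg.Agent.Lib.Classical.OrthStd

/-! Group elements of `O⁺₈(3)` given by concrete matrices. -/

set_option autoImplicit false

namespace CfsgLib.OmegaEightThree

open Matrix CfsgLib.Geometry

instance fact_three : Fact (Nat.Prime 3) := ⟨Nat.prime_three⟩

/-- The form. -/
noncomputable abbrev qf : (I8 → ZMod 3) → ZMod 3 := ⇑(Oct.Q (ZMod 3))

/-- The isometry group. -/
noncomputable abbrev O8p : Subgroup (Matrix.GeneralLinearGroup I8 (ZMod 3)) := Cfsg.isometryGroup (ZMod 3) qf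

/-- The commutator subgroup. -/
noncomputable abbrev Om : Subgroup O8p := Cfsg.Omega (ZMod 3) qf

theorem qf_eq : qf = Cfsg.quadFormPlus 4 (ZMod 3) := coe_matQuad_plus 4

theorem quadForm_eq (v : I8 → ZMod 3) :
    qf v = 2 * dotProduct v (Matrix.mulVec (toMat M8.gramMat) v) := by
  have h4 : (4 : ZMod 3) = 1 := by decide
  rw [qf, Oct.Q8_apply]
  simp [dotProduct, Matrix.mulVec, toMat, M8.gramMat, M8.ofRows, M8.get, V8.dec, V8.get, ix,
    Fintype.sum_sum_type, Fin.sum_univ_four]
  linear_combination -(v (.inl 0) * v (.inr 0) + v (.inl 1) * v (.inr 1) + v (.inl 2) * v (.inr 2) +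
    v (.inl 3) * v (.inr 3)) * h4

/-- Does the matrix preserve the form? -/
def isIso (M : M8) : Bool := M8.beq (M8.mul (M8.mul M.transpose M8.gramMat) M) M8.gramMat

theorem preserves_of_isIso {M : M8} (h : isIso M = true) (v : I8 → ZMod 3) :
    qf (Matrix.mulVec (toMat M) v) = qf v := by
  have e := congrArg toMat (M8.eq_of_beq h)
  rw [toMat_mul, toMat_mul, toMat_transpose] at e
  rw [quadForm_eq, quadForm_eq, Matrix.mulVec_mulVec, Matrix.dotProduct_mulVec,
    Matrix.vecMul_mulVec, ← Matrix.mul_assoc, e, ← Matrix.dotProduct_mulVec]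

/-- Underlying matrix. -/
def mat (g : O8p) : Matrix I8 I8 (ZMod 3) := ((g : Matrix.GeneralLinearGroup I8 (ZMod 3)) : Matrix I8 I8 (ZMod 3))

theorem mat_mul (g h : O8p) : mat (g * h) = mat g * mat h := rfl

theorem mat_one : mat 1 = 1 := rfl

theorem mat_injective : Function.Injective mat := fun _ _ h => Subtype.ext (Units.ext h)

theorem mat_sq (g : O8p) : mat (g ^ 2) = mat g * mat g := by rw [pow_two, mat_mul]

theorem qf_mat (g : O8p) (v : I8 → ZMod 3) : qf (mat g *ᵥ v) = qf v := g.2 v v

theorem mat_inv_mulVec (g : O8p) (v : I8 → ZMod 3) : mat g⁻¹ *ᵥ (mat g *ᵥ v) = v := by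
  rw [Matrix.mulVec_mulVec, ← mat_mul, inv_mul_cancel, mat_one, Matrix.one_mulVec]

theorem mat_mulVec_inv (g : O8p) (v : I8 → ZMod 3) : mat g *ᵥ (mat g⁻¹ *ᵥ v) = v := by
  rw [Matrix.mulVec_mulVec, ← mat_mul, mul_inv_cancel, mat_one, Matrix.one_mulVec]

/-- An isometry from a matrix and an inverse. -/
noncomputable def mkIso (A B : M8) (h : M8.mul A B = M8.one) (h' : M8.mul B A = M8.one) (hi : isIso A = true) : O8p :=
  ⟨⟨toMat A, toMat B, by rw [← toMat_mul, h, toMat_one], by rw [← toMat_mul, h', toMat_one]⟩,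
    fun u _ => preserves_of_isIso hi u⟩

theorem mat_mkIso (A B : M8) (h : M8.mul A B = M8.one) (h' : M8.mul B A = M8.one) (hi : isIso A = true) :
    mat (mkIso A B h h' hi) = toMat A := rfl

theorem omega_index : Om.index = 4 := by
  have h2 : (2 : ZMod 3) ≠ 0 := by decide
  have hQ := (Oct.evenHyp8 (F := ZMod 3)).nondeg
  show (Cfsg.Omega (ZMod 3) ⇑(Oct.Q (ZMod 3))).index = 4
  rw [index_Omega]
  exact index_commutator_orth_odd hQ (by simp) h2 (reflGroup_eq_orth_of_two_ne hQ h2)

theorem card_omega : Nat.card Om = 9904359628800 := by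
  have e : Nat.card O8p = 2 * 3 ^ 12 * (3 ^ 4 - 1) *
      ∏ i ∈ Finset.range 3, (3 ^ (2 * (i + 1)) - 1) := by
    have h := CfsgLib.Classical.card_isometry_plus (F := ZMod 3) 3
    rw [Nat.card_zmod, show (3 + 1) = 4 from rfl, ← qf_eq] at h
    exact h
  have h := Om.card_mul_index
  rw [omega_index, e, Finset.prod_range_succ, Finset.prod_range_succ, Finset.prod_range_succ,
    Finset.prod_range_zero] at h
  omega

/-- A checked matrix of order dividing three preserving the form. -/
def good (A : M8) : Bool := isIso A && M8.beq (M8.mul A (M8.mul A A)) M8.one && M8.beq (M8.mul (M8.mul A A) A) M8.one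

theorem good_one : good M8.one = true := by decide +kernel

/-- The isometry of a checked matrix. -/
noncomputable def ofGood (A : M8) : O8p :=
  if h : good A = true then
    mkIso A (M8.mul A A) (M8.eq_of_beq (by simp only [good, Bool.and_eq_true] at h; exact h.1.2))
      (M8.eq_of_beq (by simp only [good, Bool.and_eq_true] at h; exact h.2))
      (by simp only [good, Bool.and_eq_true] at h; exact h.1.1)
  else 1

theorem mat_ofGood {A : M8} (h : good A = true) : mat (ofGood A) = toMat A := by
  rw [ofGood, dif_pos h, mat_mkIso]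

theorem ofGood_cube (A : M8) : ofGood A ^ 3 = 1 := by
  by_cases h : good A = true
  · refine mat_injective ?_
    simp only [good, Bool.and_eq_true] at h
    rw [pow_succ, pow_two, mat_mul, mat_mul, mat_ofGood (by simp [good, h]), ← toMat_mul, ← toMat_mul,
      M8.eq_of_beq h.2, toMat_one, mat_one]
  · rw [ofGood, dif_neg h, one_pow]

theorem mem_omega_of_cube {g : O8p} (h : g ^ 3 = 1) : g ∈ Om := by
  have h4 := Subgroup.pow_index_mem Om g
  rw [omega_index] at h4
  rwa [pow_succ, h, one_mul] at h4

theorem ofGood_mem (A : M8) : ofGood A ∈ Om := mem_omega_of_cube (ofGood_cube A)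

theorem ofGood_inv (A : M8) : (ofGood A)⁻¹ = ofGood A * ofGood A :=
  inv_eq_of_mul_eq_one_right (by rw [← mul_assoc, ← pow_two, ← pow_succ, ofGood_cube])

def genM (i : ℕ) : M8 := gens.getD i M8.one

theorem gens_check : (List.range 48).all (fun i => good (genM i)) = true := by decide +kernel

theorem genM_good (i : ℕ) : good (genM i) = true := by
  rcases lt_or_ge i 48 with hi | hi
  · exact List.all_eq_true.1 gens_check i (List.mem_range.2 hi)
  · rw [genM, List.getD_eq_default _ _ (show gens.length ≤ i from hi)]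
    exact good_one

noncomputable def genO (i : ℕ) : O8p := ofGood (genM i)

theorem mat_genO (i : ℕ) : mat (genO i) = toMat (genM i) := mat_ofGood (genM_good i)

theorem genO_mem (i : ℕ) : genO i ∈ Om := ofGood_mem _

def wordM : List ℕ → M8
  | [] => M8.one
  | i :: w => M8.mul (genM i) (wordM w)

noncomputable def wordO : List ℕ → O8p
  | [] => 1
  | i :: w => genO i * wordO w

theorem mat_wordO : ∀ w : List ℕ, mat (wordO w) = toMat (wordM w)
  | [] => by rw [wordO, mat_one, wordM, toMat_one]
  | i :: w => by rw [wordO, mat_mul, mat_wordO w, mat_genO, wordM, toMat_mul]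

theorem wordO_mem : ∀ w : List ℕ, wordO w ∈ Om
  | [] => one_mem _
  | i :: w => mul_mem (genO_mem i) (wordO_mem w)

theorem conj_eq_of_mat {g x y : O8p} (h : mat g * mat x = mat y * mat g) : g * x * g⁻¹ = y := by
  rw [mul_inv_eq_iff_eq_mul]
  exact mat_injective h

end CfsgLib.OmegaEightThree
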