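import Cfsg.Agent.Lib.OmegaEightThree.Mat

/-! Automorphisms and their action on the thirteen classes (generated). -/

set_option autoImplicit false
set_option maxRecDepth 100000

namespace CfsgLib.OmegaEightThree

def reflR : M8 := M8.ofRows 1 3 9 4374 81 243 729 54

def multD : M8 := M8.ofRows 2 6 18 54 81 243 729 2187

def triY : List M8 := [
  M8.ofRows 1 3 63 27 81 243 729 2916,
  M8.ofRows 4 3 36 27 81 405 729 3645,
  M8.ofRows 4 3 63 27 81 405 729 2916,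
  M8.ofRows 1 3 2979 1485 81 243 729 2916,
  M8.ofRows 1 3 5895 756 81 243 729 2916,
  M8.ofRows 487 84 63 27 81 243 729 2916,
  M8.ofRows 244 165 63 27 81 243 729 2916,
  M8.ofRows 7 57 9 27 81 324 729 2511,
  M8.ofRows 4 3 3681 1485 81 405 729 3645,
  M8.ofRows 4 3 5139 756 81 405 729 3645,
  M8.ofRows 4 3 2979 1485 81 405 729 2916,
  M8.ofRows 4 3 5895 756 81 405 729 2916,
  M8.ofRows 571 84 5139 756 81 405 729 3645]

def triZ : List M8 := [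
  M8.ofRows 1 3 63 27 81 243 729 2916,
  M8.ofRows 1 3 36 27 87 244 729 3645,
  M8.ofRows 1 3 63 27 87 244 729 2916,
  M8.ofRows 7 3 63 27 81 324 729 2916,
  M8.ofRows 4 3 63 27 81 405 729 2916,
  M8.ofRows 1 3 63 27 81 243 783 2979,
  M8.ofRows 1 3 63 27 81 243 756 2961,
  M8.ofRows 1 57 9 27 84 245 729 2432,
  M8.ofRows 7 3 36 27 87 331 729 3645,
  M8.ofRows 4 3 36 27 87 409 729 3645,
  M8.ofRows 7 3 63 27 87 331 729 2916,
  M8.ofRows 4 3 63 27 87 409 729 2916,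
  M8.ofRows 4 3 36 27 87 409 783 3681]

def certR : List (ℕ × List ℕ × Bool) := [
  (0, [7, 19, 7, 9, 21, 9], false),
  (1, [], false),
  (2, [], true),
  (6, [7, 19, 7, 9, 21, 9], false),
  (5, [7, 19, 7, 9, 21, 9], false),
  (4, [7, 19, 7, 9, 21, 9], false),
  (3, [7, 19, 7, 9, 21, 9], false),
  (7, [8, 20, 8, 46, 10, 46, 10], true),
  (8, [], false),
  (9, [], false),
  (11, [], true),
  (10, [], true),
  (12, [], false)]

def certD : List (ℕ × List ℕ × Bool) := [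
  (0, [], false),
  (2, [], true),
  (1, [], true),
  (3, [], false),
  (4, [], false),
  (6, [], false),
  (5, [], false),
  (7, [9, 47, 11, 47, 11], true),
  (11, [], true),
  (10, [], true),
  (9, [], true),
  (8, [], true),
  (12, [28, 7, 8, 20, 8, 23, 15, 8, 20, 8, 7, 33], false)]

def certT : List (ℕ × List ℕ × Bool) := [
  (0, [], false),
  (3, [], true),
  (4, [], false),
  (1, [], true),
  (2, [], false),
  (5, [], false),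
  (6, [], false),
  (7, [32, 44, 10, 22, 10, 7, 3, 15, 3, 8, 20, 8], false),
  (10, [], true),
  (9, [], false),
  (8, [], true),
  (11, [], false),
  (12, [], false)]

def permR : List ℕ := [0, 1, 2, 6, 5, 4, 3, 7, 8, 9, 11, 10, 12]

def permD : List ℕ := [0, 2, 1, 3, 4, 6, 5, 7, 11, 10, 9, 8, 12]

def permT : List ℕ := [0, 3, 4, 1, 2, 5, 6, 7, 10, 9, 8, 11, 12]

/-- The permutations of the classes, with words in the three automorphisms. -/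
def closedPerms : List (List ℕ × List ℕ) := [
  ([0, 1, 2, 3, 4, 5, 6, 7, 8, 9, 10, 11, 12], []),
  ([0, 1, 2, 6, 5, 4, 3, 7, 8, 9, 11, 10, 12], [0]),
  ([0, 2, 1, 3, 4, 6, 5, 7, 11, 10, 9, 8, 12], [1]),
  ([0, 3, 4, 1, 2, 5, 6, 7, 10, 9, 8, 11, 12], [2]),
  ([0, 2, 1, 5, 6, 4, 3, 7, 11, 10, 8, 9, 12], [1, 0]),
  ([0, 3, 4, 6, 5, 2, 1, 7, 10, 9, 11, 8, 12], [2, 0]),
  ([0, 2, 1, 6, 5, 3, 4, 7, 10, 11, 9, 8, 12], [0, 1]),
  ([0, 4, 3, 1, 2, 6, 5, 7, 11, 8, 9, 10, 12], [2, 1]),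
  ([0, 6, 5, 1, 2, 4, 3, 7, 11, 9, 8, 10, 12], [0, 2]),
  ([0, 3, 4, 2, 1, 6, 5, 7, 9, 10, 11, 8, 12], [1, 2]),
  ([0, 2, 1, 4, 3, 5, 6, 7, 10, 11, 8, 9, 12], [0, 1, 0]),
  ([0, 4, 3, 5, 6, 2, 1, 7, 11, 8, 10, 9, 12], [2, 1, 0]),
  ([0, 6, 5, 3, 4, 2, 1, 7, 11, 9, 10, 8, 12], [0, 2, 0]),
  ([0, 3, 4, 5, 6, 1, 2, 7, 9, 10, 8, 11, 12], [1, 2, 0]),
  ([0, 1, 2, 5, 6, 3, 4, 7, 9, 8, 10, 11, 12], [1, 0, 1]),
  ([0, 4, 3, 6, 5, 1, 2, 7, 8, 11, 9, 10, 12], [2, 0, 1]),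
  ([0, 5, 6, 1, 2, 3, 4, 7, 10, 8, 9, 11, 12], [0, 2, 1]),
  ([0, 4, 3, 2, 1, 5, 6, 7, 8, 11, 10, 9, 12], [1, 2, 1]),
  ([0, 5, 6, 2, 1, 4, 3, 7, 8, 10, 11, 9, 12], [1, 0, 2]),
  ([0, 6, 5, 2, 1, 3, 4, 7, 9, 11, 10, 8, 12], [0, 1, 2]),
  ([0, 1, 2, 4, 3, 6, 5, 7, 9, 8, 11, 10, 12], [2, 1, 2]),
  ([0, 5, 6, 4, 3, 2, 1, 7, 10, 8, 11, 9, 12], [0, 2, 1, 0]),
  ([0, 5, 6, 3, 4, 1, 2, 7, 8, 10, 9, 11, 12], [1, 0, 2, 0]),
  ([0, 6, 5, 4, 3, 1, 2, 7, 9, 11, 8, 10, 12], [0, 1, 2, 0])]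

def invList : List (ℕ × ℕ × ℕ) := [(729, 6561, 0), (729, 2187, 0), (729, 2187, 4374), (81, 6561, 0), (81, 6561, 0), (81, 6561, 0), (81, 6561, 0), (81, 3645, 1458), (81, 2187, 0), (81, 2187, 0), (81, 2187, 4374), (81, 2187, 4374), (81, 729, 2916)]

end CfsgLib.OmegaEightThree
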