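import Cfsg.Agent.Lib.OmegaEightThree.Proj
import Cfsg.Agent.Lib.OmegaEightThree.AutTables

/-! Three automorphisms and their action on the representatives. -/

set_option autoImplicit false
set_option maxHeartbeats 1000000

namespace CfsgLib.OmegaEightThree

open Matrix CfsgLib.Geometry

/-- The octonion product of coded vectors. -/
def omulV (a b : V8) : V8 :=
  ⟨(a.a * b.a + 2 * (a.b * b.f + a.c * b.g + a.d * b.h)) % 3,
   (a.a * b.b + b.e * a.b + 2 * (a.g * b.h) + a.h * b.g) % 3,
   (a.a * b.c + b.e * a.c + 2 * (a.h * b.f) + a.f * b.h) % 3,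
   (a.a * b.d + b.e * a.d + 2 * (a.f * b.g) + a.g * b.f) % 3,
   (a.e * b.e + 2 * (a.f * b.b + a.g * b.c + a.h * b.d)) % 3,
   (b.a * a.f + a.e * b.f + 2 * (a.c * b.d) + a.d * b.c) % 3,
   (b.a * a.g + a.e * b.g + 2 * (a.d * b.b) + a.b * b.d) % 3,
   (b.a * a.h + a.e * b.h + 2 * (a.b * b.c) + a.c * b.b) % 3⟩

theorem toVec_omulV (a b : V8) : toVec (omulV a b) = Oct.mul (toVec a) (toVec b) := by
  have h2 : (2 : ZMod 3) = -1 := by decide
  apply Oct.ext8 <;>
    simp [Oct.mul, omulV, toVec, V8.get, ix, ZMod.natCast_mod, h2] <;> ring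

def unitV (k : ℕ) : V8 := V8.dec (3 ^ k)

theorem toVec_unitV : ∀ k : Fin 8, toVec (unitV k) = Pi.single (ix' k) 1 := by decide +kernel

theorem single_eq (i : I8) : (Pi.single i 1 : I8 → ZMod 3) = toVec (unitV (ix i)) := by
  rw [toVec_unitV]
  congr 1
  exact (ixEquiv.left_inv i).symm

/-- The triple condition on the sixty-four pairs of basis vectors. -/
def tripB (X Y Z : M8) : Bool :=
  (List.range 8).all fun i => (List.range 8).all fun j =>
    (X.mv (omulV (unitV i) (unitV j))).beq (omulV (Y.mv (unitV i)) (Z.mv (unitV j)))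

theorem trip_of_tripB {X Y Z : M8} (h : tripB X Y Z = true) (u v : I8 → ZMod 3) :
    toMat X *ᵥ Oct.mul u v = Oct.mul (toMat Y *ᵥ u) (toMat Z *ᵥ v) := by
  have hbase : ∀ i j : I8, toMat X *ᵥ Oct.mul (Pi.single i 1) (Pi.single j 1) =
      Oct.mul (toMat Y *ᵥ Pi.single i 1) (toMat Z *ᵥ Pi.single j 1) := fun i j => by
    rw [single_eq i, single_eq j, ← toVec_omulV, ← toVec_mv, ← toVec_mv, ← toVec_mv, ← toVec_omulV]
    exact congrArg toVec (V8.eq_of_beq (List.all_eq_true.1 (List.all_eq_true.1 h _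
      (List.mem_range.2 (ix i).2)) _ (List.mem_range.2 (ix j).2)))
  have hu : ∀ (i : I8) (v : I8 → ZMod 3), toMat X *ᵥ Oct.mul (Pi.single i 1) v =
      Oct.mul (toMat Y *ᵥ Pi.single i 1) (toMat Z *ᵥ v) := fun i v => by
    let f : (I8 → ZMod 3) →ₗ[ZMod 3] (I8 → ZMod 3) :=
      { toFun := fun v => toMat X *ᵥ Oct.mul (Pi.single i 1) v
        map_add' := fun a b => by simp only [Oct.mul_add', Matrix.mulVec_add]
        map_smul' := fun r a => by simp only [Oct.mul_smul', Matrix.mulVec_smul, RingHom.id_apply] }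
    let g : (I8 → ZMod 3) →ₗ[ZMod 3] (I8 → ZMod 3) :=
      { toFun := fun v => Oct.mul (toMat Y *ᵥ Pi.single i 1) (toMat Z *ᵥ v)
        map_add' := fun a b => by simp only [Oct.mul_add', Matrix.mulVec_add]
        map_smul' := fun r a => by simp only [Oct.mul_smul', Matrix.mulVec_smul, RingHom.id_apply] }
    have e : f = g := (Pi.basisFun (ZMod 3) I8).ext fun j => by
      rw [Pi.basisFun_apply]; exact hbase i j
    exact LinearMap.congr_fun e v
  let f : (I8 → ZMod 3) →ₗ[ZMod 3] (I8 → ZMod 3) :=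
    { toFun := fun u => toMat X *ᵥ Oct.mul u v
      map_add' := fun a b => by simp only [Oct.add_mul', Matrix.mulVec_add]
      map_smul' := fun r a => by simp only [Oct.smul_mul', Matrix.mulVec_smul, RingHom.id_apply] }
  let g : (I8 → ZMod 3) →ₗ[ZMod 3] (I8 → ZMod 3) :=
    { toFun := fun u => Oct.mul (toMat Y *ᵥ u) (toMat Z *ᵥ v)
      map_add' := fun a b => by simp only [Oct.add_mul', Matrix.mulVec_add]
      map_smul' := fun r a => by simp only [Oct.smul_mul', Matrix.mulVec_smul, RingHom.id_apply] }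
  have e : f = g := (Pi.basisFun (ZMod 3) I8).ext fun i => by
    rw [Pi.basisFun_apply]; exact hu i v
  exact LinearMap.congr_fun e u

theorem theta_proj {x y : Om} (z : O8p) {X Y Z : M8} (hX : mat x.1 = toMat X) (hY : mat y.1 = toMat Y)
    (hZ : mat z = toMat Z) (h : tripB X Y Z = true) : Oct.theta (ZMod 3) (proj x) = proj y := by
  have hmem : ((simIso qf x.1, simIso qf y.1, simIso qf z) :
      Oct.Sim (ZMod 3) × Oct.Sim (ZMod 3) × Oct.Sim (ZMod 3)) ∈ Oct.Trip (ZMod 3) := by
    intro u v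
    show mat x.1 *ᵥ Oct.mul u v = Oct.mul (mat y.1 *ᵥ u) (mat z *ᵥ v)
    rw [hX, hY, hZ]
    exact trip_of_tripB h u v
  refine Oct.conj_injective ?_
  rw [Oct.conj_theta]
  have e : Oct.innIn (ZMod 3) (proj x) = ⟨Oct.pi0 (ZMod 3) ⟨_, hmem⟩, ⟨_, hmem⟩, rfl⟩ :=
    Subtype.ext (simAut_simIso_omega x).symm
  rw [e, Oct.Theta_pi]
  exact simAut_simIso_omega y

theorem simAut_proj (g : Oct.Sim (ZMod 3)) (s s' : Om)
    (h : ((g : Matrix.GeneralLinearGroup I8 (ZMod 3)) : Matrix I8 I8 (ZMod 3)) * mat s.1 =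
      mat s'.1 * ((g : Matrix.GeneralLinearGroup I8 (ZMod 3)) : Matrix I8 I8 (ZMod 3))) :
    simAut qf g (proj s) = proj s' := by
  show QuotientGroup.mk (restrictChar _ (conjIsometry qf _) s) = QuotientGroup.mk s'
  refine congrArg _ (Subtype.ext (Subtype.ext ?_))
  simp only [restrictChar_coe, conjIsometry_coe]
  show (g : Matrix.GeneralLinearGroup I8 (ZMod 3)) * _ *
    (g : Matrix.GeneralLinearGroup I8 (ZMod 3))⁻¹ = _
  simp [simIncl, mul_inv_eq_iff_eq_mul]
  exact Units.ext h

theorem refl_check : (isIso reflR && M8.beq (M8.mul reflR reflR) M8.one && M8.beq (M8.mul multD multD) M8.one) = true := by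
  decide +kernel

/-- The reflection. -/
noncomputable def simR : Oct.Sim (ZMod 3) :=
  simIso qf (mkIso reflR reflR (M8.eq_of_beq (Bool.and_eq_true_iff.1 (Bool.and_eq_true_iff.1 refl_check).1).2)
    (M8.eq_of_beq (Bool.and_eq_true_iff.1 (Bool.and_eq_true_iff.1 refl_check).1).2)
    (Bool.and_eq_true_iff.1 (Bool.and_eq_true_iff.1 refl_check).1).1)

theorem multD_apply (v : I8 → ZMod 3) :
    toMat multD *ᵥ v = Sum.elim (fun i => -v (.inl i)) (fun i => v (.inr i)) := by
  have h2 : (2 : ZMod 3) = -1 := by decide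
  funext i
  rcases i with i | i <;> fin_cases i <;>
    simp [Matrix.mulVec, dotProduct, toMat, multD, M8.ofRows, M8.get, V8.dec, V8.get, ix,
      Fintype.sum_sum_type, Fin.sum_univ_four, h2]

/-- A similarity of multiplier `-1`. -/
noncomputable def simD : Oct.Sim (ZMod 3) :=
  ⟨⟨toMat multD, toMat multD, by rw [← toMat_mul, M8.eq_of_beq (Bool.and_eq_true_iff.1 refl_check).2, toMat_one],
      by rw [← toMat_mul, M8.eq_of_beq (Bool.and_eq_true_iff.1 refl_check).2, toMat_one]⟩,
    ⟨-1, fun v => by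
      show qf (toMat multD *ᵥ v) = _
      rw [multD_apply, qf, Oct.Q8_apply, Oct.Q8_apply]
      simp only [Sum.elim_inl, Sum.elim_inr, Units.val_neg, Units.val_one]
      ring⟩⟩

/-- The three automorphisms. -/
noncomputable def autGen : ℕ → MulAut L8
  | 0 => simAut qf simR
  | 1 => simAut qf simD
  | _ => Oct.theta (ZMod 3)

def cert : ℕ → List (ℕ × List ℕ × Bool)
  | 0 => certR
  | 1 => certD
  | _ => certT

def imgM : ℕ → ℕ → M8
  | 0, i => M8.mul (M8.mul reflR (repM i)) reflR
  | 1, i => M8.mul (M8.mul multD (repM i)) multD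
  | _, i => triY.getD i M8.one

def chkCert (a i : ℕ) : Bool :=
  let c := (cert a).getD i (0, [], false)
  decide (c.1 < 13) && good (imgM a i) &&
    M8.beq (M8.mul (wordM c.2.1) (imgM a i))
      (M8.mul (if c.2.2 then M8.mul (repM c.1) (repM c.1) else repM c.1) (wordM c.2.1))

theorem cert_check : (List.range 3).all (fun a => (List.range 13).all (chkCert a)) = true := by decide +kernel

theorem tri_check : (List.range 13).all (fun i => good (triZ.getD i M8.one) &&
    tripB (repM i) (triY.getD i M8.one) (triZ.getD i M8.one)) = true := by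
  decide +kernel

theorem autGen_rep {a i : ℕ} (ha : a < 3) (hi : i < 13) :
    autGen a (repL i) = proj ⟨ofGood (imgM a i), ofGood_mem _⟩ := by
  have hc := List.all_eq_true.1 (List.all_eq_true.1 cert_check a (List.mem_range.2 ha)) i (List.mem_range.2 hi)
  simp only [chkCert, Bool.and_eq_true] at hc
  have hg := hc.1.2
  have hRR := M8.eq_of_beq (Bool.and_eq_true_iff.1 (Bool.and_eq_true_iff.1 refl_check).1).2
  have hDD := M8.eq_of_beq (Bool.and_eq_true_iff.1 refl_check).2
  rcases a with _ | _ | _ | a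
  · refine simAut_proj _ _ _ ?_
    show toMat reflR * mat (repO i) = mat (ofGood (imgM 0 i)) * toMat reflR
    rw [mat_repO hi, mat_ofGood hg, imgM, toMat_mul, mul_assoc, ← toMat_mul reflR reflR, hRR, toMat_one,
      mul_one, toMat_mul]
  · refine simAut_proj _ _ _ ?_
    show toMat multD * mat (repO i) = mat (ofGood (imgM 1 i)) * toMat multD
    rw [mat_repO hi, mat_ofGood hg, imgM, toMat_mul, mul_assoc, ← toMat_mul multD multD, hDD, toMat_one,
      mul_one, toMat_mul]
  · have ht := List.all_eq_true.1 tri_check i (List.mem_range.2 hi)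
    simp only [Bool.and_eq_true] at ht
    exact theta_proj (ofGood (triZ.getD i M8.one)) (mat_repO hi) (mat_ofGood hg) (mat_ofGood ht.1) ht.2
  · omega

/-- Each generator permutes the classes as tabulated. -/
theorem autGen_conj {a i : ℕ} (ha : a < 3) (hi : i < 13) :
    ((cert a).getD i (0, [], false)).1 < 13 ∧ ∃ l : L8,
      l * autGen a (repL i) * l⁻¹ = repL ((cert a).getD i (0, [], false)).1 ∨
      l * autGen a (repL i) * l⁻¹ = repL ((cert a).getD i (0, [], false)).1 ^ 2 := by
  have hc := List.all_eq_true.1 (List.all_eq_true.1 cert_check a (List.mem_range.2 ha)) i (List.mem_range.2 hi)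
  rw [autGen_rep ha hi]
  obtain ⟨j, w, s, he⟩ : ∃ j w s, (cert a).getD i (0, [], false) = (j, w, s) := ⟨_, _, _, rfl⟩
  rw [chkCert, he] at hc
  rw [he]
  simp only [Bool.and_eq_true, decide_eq_true_eq] at hc ⊢
  obtain ⟨⟨hj, hg⟩, hm⟩ := hc
  refine ⟨hj, proj ⟨wordO w, wordO_mem w⟩, ?_⟩
  rw [← map_inv, ← map_mul, ← map_mul, repL, ← map_pow]
  have hm' := congrArg toMat (M8.eq_of_beq hm)
  rw [toMat_mul, toMat_mul, ← mat_ofGood hg, ← mat_wordO] at hm'
  cases s with
  | false =>
    refine Or.inl (congrArg proj (Subtype.ext ?_))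
    refine conj_eq_of_mat (g := wordO w) ?_
    rw [hm']
    show _ = mat (repO j) * _
    rw [mat_repO hj]
    simp
  | true =>
    refine Or.inr (congrArg proj (Subtype.ext ?_))
    refine conj_eq_of_mat (g := wordO w) ?_
    rw [hm']
    show _ = mat (repO j ^ 2) * _
    rw [mat_sq, mat_repO hj, ← toMat_mul]
    simp

end CfsgLib.OmegaEightThree
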