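import Cfsg.Agent.Lib.OmegaEightThree.Group

/-! The polar form on coded vectors. -/

set_option autoImplicit false

namespace CfsgLib.OmegaEightThree

open Matrix

/-- The polar form. -/
def bil (u v : I8 → ZMod 3) : ZMod 3 := u ⬝ᵥ (toMat M8.gramMat *ᵥ v)

theorem bil_eq (u v : I8 → ZMod 3) : bil u v = qf (u + v) - qf u - qf v := by
  have hs : toMat M8.gramMat = (toMat M8.gramMat)ᵀ := by decide +kernel
  have hsym : v ⬝ᵥ (toMat M8.gramMat *ᵥ u) = u ⬝ᵥ (toMat M8.gramMat *ᵥ v) := by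
    rw [Matrix.dotProduct_mulVec, ← Matrix.mulVec_transpose, ← hs, dotProduct_comm]
  have h4 : (4 : ZMod 3) = 1 := by decide
  rw [quadForm_eq, quadForm_eq, quadForm_eq, Matrix.mulVec_add, dotProduct_add, add_dotProduct,
    add_dotProduct, hsym, bil]
  linear_combination -(u ⬝ᵥ (toMat M8.gramMat *ᵥ v)) * h4

theorem bil_mat (g : O8p) (u v : I8 → ZMod 3) : bil (mat g *ᵥ u) (mat g *ᵥ v) = bil u v := by
  rw [bil_eq, bil_eq, ← Matrix.mulVec_add, qf_mat, qf_mat, qf_mat]

/-- The vector with a given code. -/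
def vecOf (k : Fin 6561) : I8 → ZMod 3 := toVec (V8.dec k)

theorem enc_dec {n : ℕ} (hn : n < 6561) : (V8.dec n).enc = n := by
  simp only [V8.dec, V8.enc]; omega

theorem vecOf_bijective : Function.Bijective vecOf := by
  refine (Fintype.bijective_iff_injective_and_card _).2 ⟨fun a b h => Fin.ext ?_, ?_⟩
  · have := toVec_inj_get h (get_dec_lt a) (get_dec_lt b)
    rw [← enc_dec a.2, ← enc_dec b.2, this]
  · simp [Fintype.card_fun]

end CfsgLib.OmegaEightThree
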