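import Cfsg.Agent.Lib.OmegaEightThree.Mat

/-! Elements of order three over the Levi representatives (generated). -/

set_option autoImplicit false
set_option maxRecDepth 100000

namespace CfsgLib.OmegaEightThree

def entries0 : List (ℕ × ℕ × List ℕ × Bool × ℕ) := [
  (0, 1, [], false, 0),
  (0, 3, [], false, 0),
  (0, 2, [], false, 0),
  (9, 1, [], false, 0),
  (18, 1, [], false, 0),
  (243, 1, [], false, 0),
  (486, 1, [], false, 0),
  (0, 4, [], false, 0),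
  (9, 3, [], false, 0),
  (18, 3, [], false, 0),
  (9, 2, [], false, 0),
  (18, 2, [], false, 0),
  (261, 3, [], false, 0),
  (162, 1, [2], false, 0),
  (1, 1, [4], false, 0),
  (81, 1, [26], false, 0),
  (2, 1, [28], false, 0),
  (81, 3, [2], false, 1),
  (110, 3, [4], false, 1),
  (162, 3, [5], false, 1),
  (217, 3, [28], false, 1),
  (162, 2, [2], false, 2),
  (190, 2, [4], false, 2),
  (81, 2, [26], false, 2),
  (137, 2, [28], false, 2),
  (171, 1, [2], false, 3),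
  (10, 1, [4], false, 3),
  (11, 1, [9], false, 3),
  (90, 1, [26], false, 3),
  (180, 1, [2], false, 4),
  (19, 1, [4], false, 4),
  (99, 1, [6], false, 4),
  (20, 1, [28], false, 4),
  (405, 1, [2], false, 5),
  (244, 1, [4], false, 5),
  (245, 1, [19], false, 5),
  (324, 1, [26], false, 5),
  (648, 1, [2], false, 6),
  (487, 1, [4], false, 6),
  (567, 1, [20], false, 6),
  (488, 1, [28], false, 6),
  (486, 4, [2], false, 7),
  (1, 4, [3], false, 7),
  (297, 4, [4], false, 7),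
  (81, 4, [5], false, 7)]

def entries1 : List (ℕ × ℕ × List ℕ × Bool × ℕ) := [
  (243, 4, [26], false, 7),
  (2, 4, [27], false, 7),
  (513, 4, [28], false, 7),
  (162, 4, [29], false, 7),
  (90, 3, [2], false, 8),
  (119, 3, [4], false, 8),
  (171, 3, [5], false, 8),
  (226, 3, [28], false, 8),
  (99, 3, [2], false, 9),
  (128, 3, [4], false, 9),
  (180, 3, [5], false, 9),
  (235, 3, [28], false, 9),
  (171, 2, [2], false, 10),
  (199, 2, [4], false, 10),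
  (90, 2, [26], false, 10),
  (146, 2, [28], false, 10),
  (180, 2, [2], false, 11),
  (208, 2, [4], false, 11),
  (99, 2, [6], false, 11),
  (155, 2, [28], false, 11),
  (342, 3, [2], false, 12),
  (371, 3, [4], false, 12),
  (423, 3, [5], false, 12),
  (478, 3, [28], false, 12),
  (551, 3, [9, 7], false, 8),
  (289, 3, [9, 7], false, 9),
  (281, 2, [31, 9], false, 10),
  (307, 2, [7, 33], false, 10),
  (559, 2, [31, 9], false, 11),
  (533, 2, [7, 33], false, 11),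
  (532, 3, [9, 7], false, 12),
  (81, 0, [2, 14, 2], true, 0),
  (162, 0, [2, 14, 2], false, 0),
  (1, 0, [4, 16, 4], false, 0),
  (2, 0, [4, 16, 4], true, 0),
  (29, 0, [4, 16, 4], false, 1),
  (55, 0, [4, 16, 4], true, 1),
  (28, 0, [4, 16, 4], false, 2),
  (56, 0, [4, 16, 4], true, 2),
  (324, 0, [8, 2, 14, 2], true, 0),
  (405, 0, [32, 2, 14, 2], false, 0),
  (567, 0, [32, 2, 14, 2], true, 0),
  (648, 0, [8, 2, 14, 2], false, 0),
  (244, 0, [7, 4, 16, 4], false, 0),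
  (245, 0, [31, 4, 16, 4], true, 0)]

def entries2 : List (ℕ × ℕ × List ℕ × Bool × ℕ) := [
  (487, 0, [31, 4, 16, 4], false, 0),
  (488, 0, [7, 4, 16, 4], true, 0),
  (83, 0, [2, 4, 16, 4], true, 0),
  (163, 0, [2, 4, 16, 4], false, 0),
  (83, 1, [2, 10, 46, 10], false, 0),
  (135, 0, [13, 2, 14, 2], true, 0),
  (189, 0, [13, 2, 14, 2], false, 0),
  (272, 0, [9, 4, 16, 4], false, 1),
  (298, 0, [7, 4, 16, 4], true, 1),
  (515, 0, [7, 4, 16, 4], false, 1),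
  (541, 0, [9, 4, 16, 4], true, 1),
  (110, 0, [2, 4, 16, 4], false, 1),
  (217, 0, [2, 4, 16, 4], true, 1),
  (136, 0, [5, 4, 16, 4], true, 1),
  (191, 0, [5, 4, 16, 4], false, 1),
  (35, 0, [14, 4, 16, 4], false, 1),
  (58, 0, [14, 4, 16, 4], true, 1),
  (271, 0, [7, 4, 16, 4], false, 2),
  (299, 0, [31, 4, 16, 4], true, 2),
  (514, 0, [31, 4, 16, 4], false, 2),
  (542, 0, [7, 4, 16, 4], true, 2),
  (137, 0, [2, 4, 16, 4], true, 2),
  (190, 0, [2, 4, 16, 4], false, 2),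
  (34, 0, [14, 4, 16, 4], false, 2),
  (59, 0, [14, 4, 16, 4], true, 2),
  (92, 1, [2, 10, 46, 10], false, 3),
  (101, 1, [2, 10, 46, 10], false, 4),
  (181, 1, [6, 10, 46, 10], false, 4),
  (326, 1, [2, 7, 43, 7], true, 5),
  (407, 1, [4, 8, 44, 8], true, 5),
  (568, 1, [2, 7, 43, 7], true, 6),
  (569, 1, [2, 10, 46, 10], false, 6),
  (83, 2, [20, 3, 15, 3], true, 7),
  (83, 3, [44, 3, 15, 3], true, 7),
  (397, 3, [4, 8, 44, 8], true, 12),
  (82, 1, [8, 10, 3, 15, 3], false, 0),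
  (163, 1, [7, 8, 3, 15, 3], false, 0),
  (164, 1, [7, 32, 3, 15, 3], false, 0),
  (326, 0, [31, 2, 4, 16, 4], true, 0),
  (406, 0, [7, 2, 4, 16, 4], false, 0),
  (569, 0, [7, 2, 4, 16, 4], true, 0),
  (649, 0, [31, 2, 4, 16, 4], false, 0),
  (407, 0, [32, 3, 2, 14, 2], false, 0),
  (568, 0, [32, 3, 2, 14, 2], true, 0),
  (378, 0, [8, 12, 2, 14, 2], true, 0)]

def entries3 : List (ℕ × ℕ × List ℕ × Bool × ℕ) := [
  (459, 0, [32, 12, 2, 14, 2], false, 0),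
  (594, 0, [32, 12, 2, 14, 2], true, 0),
  (675, 0, [8, 12, 2, 14, 2], false, 0),
  (250, 0, [7, 12, 4, 16, 4], false, 0),
  (251, 0, [31, 12, 4, 16, 4], true, 0),
  (490, 0, [31, 12, 4, 16, 4], false, 0),
  (491, 0, [7, 12, 4, 16, 4], true, 0),
  (432, 0, [32, 13, 2, 14, 2], false, 0),
  (621, 0, [32, 13, 2, 14, 2], true, 0),
  (29, 3, [8, 9, 3, 15, 3], false, 1),
  (55, 3, [7, 32, 3, 15, 3], false, 1),
  (136, 3, [9, 32, 3, 15, 3], false, 1),
  (191, 3, [7, 8, 3, 15, 3], false, 1),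
  (353, 0, [9, 2, 4, 16, 4], false, 1),
  (460, 0, [7, 2, 4, 16, 4], true, 1),
  (596, 0, [7, 2, 4, 16, 4], false, 1),
  (703, 0, [9, 2, 4, 16, 4], true, 1),
  (434, 0, [9, 3, 4, 16, 4], false, 1),
  (622, 0, [9, 3, 4, 16, 4], true, 1),
  (379, 0, [7, 5, 4, 16, 4], true, 1),
  (677, 0, [7, 5, 4, 16, 4], false, 1),
  (278, 0, [9, 12, 4, 16, 4], false, 1),
  (304, 0, [7, 12, 4, 16, 4], true, 1),
  (518, 0, [7, 12, 4, 16, 4], false, 1),
  (544, 0, [9, 12, 4, 16, 4], true, 1),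
  (301, 0, [7, 14, 4, 16, 4], true, 1),
  (521, 0, [7, 14, 4, 16, 4], false, 1),
  (28, 2, [8, 10, 3, 15, 3], false, 2),
  (56, 2, [7, 32, 3, 15, 3], false, 2),
  (109, 2, [7, 8, 3, 15, 3], false, 2),
  (218, 2, [31, 32, 3, 15, 3], false, 2),
  (380, 0, [31, 2, 4, 16, 4], true, 2),
  (433, 0, [7, 2, 4, 16, 4], false, 2),
  (623, 0, [7, 2, 4, 16, 4], true, 2),
  (676, 0, [31, 2, 4, 16, 4], false, 2),
  (461, 0, [31, 3, 4, 16, 4], true, 2),
  (595, 0, [31, 3, 4, 16, 4], false, 2),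
  (277, 0, [7, 12, 4, 16, 4], false, 2),
  (305, 0, [31, 12, 4, 16, 4], true, 2),
  (517, 0, [31, 12, 4, 16, 4], false, 2),
  (545, 0, [7, 12, 4, 16, 4], true, 2),
  (302, 0, [31, 14, 4, 16, 4], true, 2),
  (520, 0, [31, 14, 4, 16, 4], false, 2),
  (325, 1, [8, 10, 3, 15, 3], false, 5),
  (406, 1, [7, 8, 3, 15, 3], false, 5)]

def entries4 : List (ℕ × ℕ × List ℕ × Bool × ℕ) := [
  (649, 1, [7, 8, 3, 15, 3], false, 6),
  (650, 1, [7, 32, 3, 15, 3], false, 6),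
  (29, 1, [8, 20, 3, 15, 3], true, 7),
  (190, 1, [32, 44, 3, 15, 3], false, 7),
  (27, 2, [20, 8, 3, 15, 3], true, 7),
  (136, 2, [8, 44, 3, 15, 3], false, 7),
  (164, 2, [20, 31, 3, 15, 3], true, 7),
  (217, 2, [20, 32, 3, 15, 3], true, 7),
  (2, 3, [9, 44, 3, 15, 3], true, 7),
  (54, 3, [44, 32, 3, 15, 3], true, 7),
  (109, 3, [32, 20, 3, 15, 3], false, 7),
  (164, 3, [33, 44, 3, 15, 3], true, 7),
  (163, 2, [20, 3, 3, 39, 3], true, 7),
  (163, 3, [44, 3, 3, 39, 3], true, 7),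
  (2, 2, [20, 7, 3, 15, 3], true, 7),
  (190, 3, [44, 8, 3, 15, 3], true, 7),
  (604, 3, [9, 7, 8, 44, 8], true, 8),
  (479, 3, [9, 7, 8, 44, 8], true, 9),
  (469, 2, [31, 9, 8, 44, 8], true, 10),
  (614, 2, [31, 9, 8, 44, 8], true, 11),
  (641, 3, [9, 7, 8, 44, 8], true, 12),
  (172, 1, [4], false, 25),
  (173, 1, [9], false, 25),
  (91, 1, [10], false, 26),
  (182, 1, [28], false, 29),
  (100, 1, [6], false, 30),
  (487, 4, [3], false, 41),
  (54, 4, [4], false, 41),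
  (567, 4, [5], false, 41),
  (488, 4, [27], false, 41),
  (270, 4, [28], false, 41),
  (648, 4, [29], false, 41),
  (298, 4, [4], false, 42),
  (82, 4, [5], false, 42),
  (244, 4, [7], false, 42),
  (514, 4, [28], false, 42),
  (163, 4, [29], false, 42),
  (378, 4, [5], false, 43),
  (459, 4, [11], false, 43),
  (540, 4, [26], false, 43),
  (299, 4, [27], false, 43),
  (324, 4, [26], false, 44),
  (83, 4, [27], false, 44),
  (594, 4, [28], false, 44),
  (245, 4, [27], false, 45)]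

def entries5 : List (ℕ × ℕ × List ℕ × Bool × ℕ) := [
  (27, 4, [28], false, 45),
  (405, 4, [29], false, 45),
  (515, 4, [28], false, 46),
  (164, 4, [29], false, 46),
  (675, 4, [29], false, 47),
  (200, 3, [4], false, 49),
  (64, 3, [28], false, 49),
  (38, 3, [5], false, 50),
  (145, 3, [28], false, 51),
  (209, 3, [4], false, 53),
  (73, 3, [28], false, 53),
  (47, 3, [5], false, 54),
  (154, 3, [28], false, 55),
  (118, 2, [4], false, 57),
  (65, 2, [28], false, 57),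
  (37, 2, [10], false, 58),
  (227, 2, [28], false, 59),
  (127, 2, [4], false, 61),
  (74, 2, [28], false, 61),
  (46, 2, [6], false, 62),
  (236, 2, [28], false, 63),
  (452, 3, [4], false, 65),
  (316, 3, [28], false, 65),
  (290, 3, [5], false, 66),
  (243, 0, [8, 20, 8, 2, 14, 2], true, 0),
  (486, 0, [8, 20, 8, 2, 14, 2], false, 0),
  (27, 1, [8, 20, 8, 3, 15, 3], true, 7),
  (32, 1, [8, 20, 22, 3, 15, 3], true, 7),
  (35, 1, [8, 20, 46, 3, 15, 3], true, 7),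
  (110, 1, [8, 11, 20, 3, 15, 3], true, 7),
  (194, 1, [32, 44, 22, 3, 15, 3], false, 7),
  (195, 1, [32, 44, 46, 3, 15, 3], false, 7),
  (55, 2, [8, 11, 44, 3, 15, 3], false, 7),
  (108, 2, [20, 8, 11, 3, 15, 3], true, 7),
  (28, 3, [32, 20, 9, 3, 15, 3], false, 7),
  (55, 1, [8, 20, 3, 3, 39, 3], true, 7),
  (137, 1, [32, 44, 3, 3, 39, 3], false, 7),
  (54, 2, [20, 8, 3, 3, 39, 3], true, 7),
  (82, 2, [20, 31, 3, 3, 39, 3], true, 7),
  (110, 2, [20, 32, 3, 3, 39, 3], true, 7),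
  (191, 2, [8, 44, 3, 3, 39, 3], false, 7),
  (1, 3, [9, 44, 3, 3, 39, 3], true, 7),
  (27, 3, [44, 32, 3, 3, 39, 3], true, 7),
  (82, 3, [33, 44, 3, 3, 39, 3], true, 7),
  (218, 3, [32, 20, 3, 3, 39, 3], false, 7)]

def entries6 : List (ℕ × ℕ × List ℕ × Bool × ℕ) := [
  (515, 1, [8, 20, 5, 3, 15, 3], true, 7),
  (676, 1, [32, 44, 5, 3, 15, 3], false, 7),
  (109, 1, [32, 44, 7, 3, 15, 3], false, 7),
  (191, 1, [8, 20, 7, 3, 15, 3], true, 7),
  (189, 2, [20, 8, 7, 3, 15, 3], true, 7),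
  (135, 3, [44, 32, 7, 3, 15, 3], true, 7),
  (216, 3, [32, 20, 8, 3, 15, 3], false, 7),
  (28, 1, [32, 44, 10, 3, 15, 3], false, 7),
  (47, 1, [8, 20, 14, 3, 15, 3], true, 7),
  (208, 1, [32, 44, 14, 3, 15, 3], false, 7),
  (632, 3, [9, 7], false, 49),
  (577, 3, [9, 7], false, 50),
  (713, 3, [9, 7], false, 51),
  (684, 3, [9, 7], false, 52),
  (370, 3, [9, 7], false, 53),
  (396, 3, [9, 7], false, 54),
  (451, 3, [9, 7], false, 55),
  (425, 3, [9, 7], false, 56),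
  (443, 2, [31, 9], false, 57),
  (468, 2, [31, 9], false, 58),
  (416, 2, [7, 33], false, 58),
  (362, 2, [31, 9], false, 59),
  (388, 2, [7, 33], false, 59),
  (334, 2, [31, 9], false, 60),
  (360, 2, [7, 33], false, 60),
  (721, 2, [31, 9], false, 61),
  (695, 2, [7, 33], false, 61),
  (668, 2, [31, 9], false, 62),
  (720, 2, [7, 33], false, 62),
  (640, 2, [31, 9], false, 63),
  (612, 2, [31, 9], false, 64),
  (586, 2, [7, 33], false, 64),
  (613, 3, [9, 7], false, 65),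
  (639, 3, [9, 7], false, 66),
  (694, 3, [9, 7], false, 67),
  (668, 3, [9, 7], false, 68),
  (4, 0, [8, 20, 8, 23, 3, 15, 3], false, 0),
  (5, 0, [8, 20, 8, 47, 3, 15, 3], true, 0),
  (7, 0, [8, 20, 8, 47, 3, 15, 3], false, 0),
  (8, 0, [8, 20, 8, 23, 3, 15, 3], true, 0),
  (82, 0, [31, 8, 20, 8, 3, 15, 3], false, 0),
  (108, 0, [7, 19, 7, 47, 3, 15, 3], true, 0),
  (164, 0, [31, 8, 20, 8, 3, 15, 3], true, 0),
  (216, 0, [7, 19, 7, 47, 3, 15, 3], false, 0),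
  (270, 0, [7, 19, 7, 45, 4, 16, 4], false, 0)]

def entries7 : List (ℕ × ℕ × List ℕ × Bool × ℕ) := [
  (297, 0, [7, 19, 7, 21, 4, 16, 4], false, 0),
  (513, 0, [7, 19, 7, 21, 4, 16, 4], true, 0),
  (540, 0, [7, 19, 7, 45, 4, 16, 4], true, 0),
  (249, 0, [7, 19, 7, 12, 4, 16, 4], false, 0),
  (489, 0, [7, 19, 7, 12, 4, 16, 4], true, 0),
  (99, 0, [7, 19, 7, 13, 3, 15, 3], true, 0),
  (171, 0, [7, 19, 7, 13, 3, 15, 3], false, 0),
  (32, 0, [8, 20, 8, 22, 3, 15, 3], false, 1),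
  (61, 0, [8, 20, 8, 22, 3, 15, 3], true, 1),
  (47, 0, [8, 20, 8, 14, 3, 15, 3], false, 1),
  (64, 0, [8, 20, 8, 14, 3, 15, 3], true, 1),
  (31, 0, [8, 20, 8, 22, 3, 15, 3], false, 2),
  (62, 0, [8, 20, 8, 22, 3, 15, 3], true, 2),
  (109, 0, [31, 8, 20, 8, 3, 15, 3], false, 2),
  (218, 0, [31, 8, 20, 8, 3, 15, 3], true, 2),
  (46, 0, [8, 20, 8, 14, 3, 15, 3], false, 2),
  (65, 0, [8, 20, 8, 14, 3, 15, 3], true, 2),
  (30, 1, [8, 20, 8, 22, 3, 15, 3], true, 7),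
  (33, 1, [8, 20, 8, 46, 3, 15, 3], true, 7),
  (89, 1, [8, 20, 46, 34, 3, 15, 3], true, 7),
  (108, 1, [33, 8, 20, 8, 3, 15, 3], true, 7),
  (112, 1, [8, 11, 20, 22, 3, 15, 3], true, 7),
  (116, 1, [8, 20, 46, 31, 3, 15, 3], true, 7),
  (140, 1, [8, 20, 22, 34, 3, 15, 3], true, 7),
  (168, 1, [32, 44, 46, 34, 3, 15, 3], false, 7),
  (189, 1, [9, 8, 20, 8, 3, 15, 3], true, 7),
  (278, 1, [8, 20, 46, 1, 3, 15, 3], true, 7),
  (438, 1, [32, 44, 46, 1, 3, 15, 3], false, 7),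
  (518, 1, [8, 20, 22, 1, 3, 15, 3], true, 7),
  (680, 1, [32, 44, 22, 1, 3, 15, 3], false, 7),
  (54, 1, [8, 20, 8, 3, 3, 39, 3], true, 7),
  (58, 1, [8, 20, 46, 3, 3, 39, 3], true, 7),
  (61, 1, [8, 20, 22, 3, 3, 39, 3], true, 7),
  (138, 1, [32, 44, 46, 3, 3, 39, 3], false, 7),
  (142, 1, [32, 44, 22, 3, 3, 39, 3], false, 7),
  (217, 1, [8, 11, 20, 3, 3, 39, 3], true, 7),
  (1, 2, [8, 44, 8, 3, 3, 39, 3], false, 7),
  (29, 2, [8, 11, 44, 3, 3, 39, 3], false, 7),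
  (216, 2, [20, 8, 11, 3, 3, 39, 3], true, 7),
  (56, 3, [32, 20, 9, 3, 3, 39, 3], false, 7),
  (513, 1, [8, 20, 8, 5, 3, 15, 3], true, 7),
  (521, 1, [8, 20, 46, 5, 3, 15, 3], true, 7),
  (596, 1, [8, 11, 20, 5, 3, 15, 3], true, 7),
  (681, 1, [32, 44, 46, 5, 3, 15, 3], false, 7),
  (113, 1, [32, 44, 22, 7, 3, 15, 3], false, 7)]

def entries8 : List (ℕ × ℕ × List ℕ × Bool × ℕ) := [
  (114, 1, [32, 44, 46, 7, 3, 15, 3], false, 7),
  (197, 1, [8, 20, 46, 7, 3, 15, 3], true, 7),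
  (192, 1, [32, 44, 22, 8, 3, 15, 3], false, 7),
  (196, 1, [32, 44, 46, 8, 3, 15, 3], false, 7),
  (86, 1, [32, 44, 22, 10, 3, 15, 3], false, 7),
  (167, 1, [8, 20, 22, 10, 3, 15, 3], true, 7),
  (222, 1, [32, 44, 46, 10, 3, 15, 3], false, 7),
  (224, 1, [8, 20, 46, 10, 3, 15, 3], true, 7),
  (31, 1, [32, 44, 22, 11, 3, 15, 3], false, 7),
  (34, 1, [32, 44, 46, 11, 3, 15, 3], false, 7),
  (45, 1, [8, 20, 8, 14, 3, 15, 3], true, 7),
  (50, 1, [8, 20, 22, 14, 3, 15, 3], true, 7),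
  (53, 1, [8, 20, 46, 14, 3, 15, 3], true, 7),
  (128, 1, [8, 11, 20, 14, 3, 15, 3], true, 7),
  (212, 1, [32, 44, 22, 14, 3, 15, 3], false, 7),
  (213, 1, [32, 44, 46, 14, 3, 15, 3], false, 7),
  (90, 0, [18], false, 76),
  (180, 0, [18], true, 76),
  (10, 0, [21], false, 78),
  (20, 0, [21], true, 78),
  (11, 0, [45], true, 78),
  (19, 0, [45], false, 78),
  (38, 0, [19], false, 80),
  (73, 0, [19], true, 80),
  (37, 0, [19], false, 82),
  (74, 0, [19], true, 82),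
  (523, 3, [9, 7], false, 69),
  (317, 3, [9, 7], false, 70),
  (560, 3, [9, 7], false, 75),
  (113, 0, [7, 8, 20, 8, 47, 3, 15, 3], true, 0),
  (115, 0, [31, 8, 20, 8, 47, 3, 15, 3], false, 0),
  (139, 0, [31, 8, 20, 8, 23, 3, 15, 3], false, 0),
  (143, 0, [7, 8, 20, 8, 23, 3, 15, 3], true, 0),
  (193, 0, [7, 8, 20, 8, 23, 3, 15, 3], false, 0),
  (197, 0, [31, 8, 20, 8, 23, 3, 15, 3], true, 0),
  (221, 0, [31, 8, 20, 8, 47, 3, 15, 3], true, 0),
  (223, 0, [7, 8, 20, 8, 47, 3, 15, 3], false, 0),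
  (248, 0, [8, 20, 8, 47, 2, 3, 15, 3], true, 0),
  (493, 0, [8, 20, 8, 47, 2, 3, 15, 3], false, 0),
  (27, 0, [7, 19, 7, 21, 9, 4, 16, 4], true, 0),
  (54, 0, [7, 19, 7, 21, 9, 4, 16, 4], false, 0),
  (3, 0, [8, 20, 8, 23, 11, 3, 15, 3], false, 0),
  (6, 0, [8, 20, 8, 23, 11, 3, 15, 3], true, 0),
  (276, 0, [7, 19, 7, 45, 12, 4, 16, 4], false, 0),
  (303, 0, [7, 19, 7, 21, 12, 4, 16, 4], false, 0)]

def entries9 : List (ℕ × ℕ × List ℕ × Bool × ℕ) := [
  (516, 0, [7, 19, 7, 21, 12, 4, 16, 4], true, 0),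
  (543, 0, [7, 19, 7, 45, 12, 4, 16, 4], true, 0),
  (100, 0, [31, 8, 20, 8, 13, 3, 15, 3], false, 0),
  (101, 0, [7, 8, 20, 8, 13, 3, 15, 3], true, 0),
  (126, 0, [7, 19, 7, 47, 13, 3, 15, 3], true, 0),
  (153, 0, [7, 19, 7, 23, 13, 3, 15, 3], true, 0),
  (172, 0, [7, 8, 20, 8, 13, 3, 15, 3], false, 0),
  (173, 0, [31, 8, 20, 8, 13, 3, 15, 3], true, 0),
  (198, 0, [7, 19, 7, 23, 13, 3, 15, 3], false, 0),
  (225, 0, [7, 19, 7, 47, 13, 3, 15, 3], false, 0),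
  (144, 0, [7, 19, 7, 23, 14, 3, 15, 3], true, 0),
  (207, 0, [7, 19, 7, 23, 14, 3, 15, 3], false, 0),
  (300, 0, [7, 19, 7, 21, 14, 4, 16, 4], false, 0),
  (519, 0, [7, 19, 7, 21, 14, 4, 16, 4], true, 0),
  (89, 0, [7, 8, 20, 8, 23, 3, 15, 3], false, 1),
  (112, 0, [7, 8, 20, 8, 22, 3, 15, 3], false, 1),
  (114, 0, [7, 8, 20, 8, 46, 3, 15, 3], false, 1),
  (140, 0, [7, 8, 20, 8, 47, 3, 15, 3], false, 1),
  (166, 0, [7, 8, 20, 8, 23, 3, 15, 3], true, 1),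
  (196, 0, [7, 8, 20, 8, 47, 3, 15, 3], true, 1),
  (219, 0, [7, 8, 20, 8, 46, 3, 15, 3], true, 1),
  (224, 0, [7, 8, 20, 8, 22, 3, 15, 3], true, 1),
  (275, 0, [8, 20, 8, 22, 2, 3, 15, 3], false, 1),
  (547, 0, [8, 20, 8, 22, 2, 3, 15, 3], true, 1),
  (88, 0, [8, 20, 8, 22, 10, 3, 15, 3], true, 1),
  (167, 0, [8, 20, 8, 22, 10, 3, 15, 3], false, 1),
  (128, 0, [7, 8, 20, 8, 13, 3, 15, 3], false, 1),
  (154, 0, [9, 8, 20, 8, 13, 3, 15, 3], true, 1),
  (200, 0, [9, 8, 20, 8, 13, 3, 15, 3], false, 1),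
  (226, 0, [7, 8, 20, 8, 13, 3, 15, 3], true, 1),
  (50, 0, [8, 20, 8, 22, 14, 3, 15, 3], false, 1),
  (53, 0, [8, 20, 8, 23, 14, 3, 15, 3], false, 1),
  (67, 0, [8, 20, 8, 23, 14, 3, 15, 3], true, 1),
  (70, 0, [8, 20, 8, 22, 14, 3, 15, 3], true, 1),
  (145, 0, [9, 8, 20, 8, 14, 3, 15, 3], true, 1),
  (209, 0, [9, 8, 20, 8, 14, 3, 15, 3], false, 1),
  (86, 0, [7, 8, 20, 8, 47, 3, 15, 3], true, 2),
  (116, 0, [7, 8, 20, 8, 23, 3, 15, 3], true, 2),
  (138, 0, [7, 8, 20, 8, 46, 3, 15, 3], true, 2),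
  (142, 0, [7, 8, 20, 8, 22, 3, 15, 3], true, 2),
  (169, 0, [7, 8, 20, 8, 47, 3, 15, 3], false, 2),
  (194, 0, [7, 8, 20, 8, 22, 3, 15, 3], false, 2),
  (195, 0, [7, 8, 20, 8, 46, 3, 15, 3], false, 2),
  (220, 0, [7, 8, 20, 8, 23, 3, 15, 3], false, 2),
  (85, 0, [8, 20, 8, 22, 10, 3, 15, 3], false, 2)]

def entries10 : List (ℕ × ℕ × List ℕ × Bool × ℕ) := [
  (170, 0, [8, 20, 8, 22, 10, 3, 15, 3], true, 2),
  (111, 0, [8, 20, 8, 22, 11, 3, 15, 3], false, 2),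
  (222, 0, [8, 20, 8, 22, 11, 3, 15, 3], true, 2),
  (127, 0, [31, 8, 20, 8, 13, 3, 15, 3], false, 2),
  (155, 0, [7, 8, 20, 8, 13, 3, 15, 3], true, 2),
  (199, 0, [7, 8, 20, 8, 13, 3, 15, 3], false, 2),
  (227, 0, [31, 8, 20, 8, 13, 3, 15, 3], true, 2),
  (49, 0, [8, 20, 8, 22, 14, 3, 15, 3], false, 2),
  (52, 0, [8, 20, 8, 46, 14, 3, 15, 3], false, 2),
  (68, 0, [8, 20, 8, 46, 14, 3, 15, 3], true, 2),
  (71, 0, [8, 20, 8, 22, 14, 3, 15, 3], true, 2),
  (146, 0, [7, 8, 20, 8, 14, 3, 15, 3], true, 2),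
  (208, 0, [7, 8, 20, 8, 14, 3, 15, 3], false, 2),
  (6, 1, [8, 20, 8, 46, 34, 3, 15, 3], true, 7),
  (57, 1, [8, 20, 8, 22, 34, 3, 15, 3], true, 7),
  (85, 1, [32, 44, 10, 22, 10, 3, 15, 3], false, 7),
  (111, 1, [8, 20, 8, 22, 31, 3, 15, 3], true, 7),
  (115, 1, [33, 8, 20, 8, 46, 3, 15, 3], true, 7),
  (165, 1, [8, 20, 10, 22, 10, 3, 15, 3], true, 7),
  (193, 1, [9, 8, 20, 8, 22, 3, 15, 3], true, 7),
  (276, 1, [8, 20, 8, 46, 1, 3, 15, 3], true, 7),
  (332, 1, [8, 20, 46, 34, 1, 3, 15, 3], true, 7),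
  (359, 1, [8, 20, 46, 31, 1, 3, 15, 3], true, 7),
  (411, 1, [32, 44, 46, 34, 1, 3, 15, 3], false, 7),
  (516, 1, [8, 20, 8, 22, 1, 3, 15, 3], true, 7),
  (598, 1, [8, 11, 20, 22, 1, 3, 15, 3], true, 7),
  (626, 1, [8, 20, 22, 34, 1, 3, 15, 3], true, 7),
  (56, 1, [20, 8, 20, 8, 3, 3, 39, 3], true, 7),
  (60, 1, [8, 20, 8, 22, 3, 3, 39, 3], true, 7),
  (84, 1, [32, 44, 46, 34, 3, 3, 39, 3], false, 7),
  (135, 1, [9, 8, 20, 8, 3, 3, 39, 3], true, 7),
  (136, 1, [8, 8, 44, 8, 3, 3, 39, 3], false, 7),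
  (166, 1, [8, 20, 46, 34, 3, 3, 39, 3], true, 7),
  (216, 1, [33, 8, 20, 8, 3, 3, 39, 3], true, 7),
  (220, 1, [8, 20, 46, 31, 3, 3, 39, 3], true, 7),
  (135, 2, [8, 44, 8, 8, 3, 3, 39, 3], false, 7),
  (108, 3, [8, 8, 20, 8, 3, 3, 39, 3], false, 7),
  (137, 3, [32, 8, 44, 8, 3, 3, 39, 3], true, 7),
  (383, 1, [8, 20, 22, 34, 5, 3, 15, 3], true, 7),
  (514, 1, [20, 8, 20, 8, 5, 3, 15, 3], true, 7),
  (519, 1, [8, 20, 8, 46, 5, 3, 15, 3], true, 7),
  (594, 1, [33, 8, 20, 8, 5, 3, 15, 3], true, 7),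
  (602, 1, [8, 20, 46, 31, 5, 3, 15, 3], true, 7),
  (675, 1, [9, 8, 20, 8, 5, 3, 15, 3], true, 7),
  (677, 1, [8, 8, 44, 8, 5, 3, 15, 3], false, 7)]

def entries11 : List (ℕ × ℕ × List ℕ × Bool × ℕ) := [
  (8, 1, [8, 20, 46, 34, 7, 3, 15, 3], true, 7),
  (59, 1, [8, 20, 22, 34, 7, 3, 15, 3], true, 7),
  (87, 1, [32, 44, 46, 34, 7, 3, 15, 3], false, 7),
  (169, 1, [32, 44, 46, 34, 8, 3, 15, 3], false, 7),
  (3, 1, [8, 20, 8, 22, 10, 3, 15, 3], true, 7),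
  (62, 1, [8, 20, 46, 31, 10, 3, 15, 3], true, 7),
  (46, 1, [20, 8, 20, 8, 14, 3, 15, 3], true, 7),
  (48, 1, [8, 20, 8, 22, 14, 3, 15, 3], true, 7),
  (51, 1, [8, 20, 8, 46, 14, 3, 15, 3], true, 7),
  (126, 1, [33, 8, 20, 8, 14, 3, 15, 3], true, 7),
  (130, 1, [8, 11, 20, 22, 14, 3, 15, 3], true, 7),
  (134, 1, [8, 20, 46, 31, 14, 3, 15, 3], true, 7),
  (149, 1, [8, 20, 22, 34, 14, 3, 15, 3], true, 7),
  (207, 1, [9, 8, 20, 8, 14, 3, 15, 3], true, 7),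
  (209, 1, [8, 8, 44, 8, 14, 3, 15, 3], false, 7),
  (92, 0, [12, 4, 16, 4], true, 13),
  (181, 0, [12, 4, 16, 4], false, 13),
  (9, 0, [14, 6, 18, 6], true, 13),
  (18, 0, [14, 6, 18, 6], false, 13),
  (325, 0, [7, 4, 16, 4], false, 15),
  (650, 0, [7, 4, 16, 4], true, 15),
  (91, 0, [12, 4, 16, 4], false, 15),
  (182, 0, [12, 4, 16, 4], true, 15),
  (119, 0, [12, 4, 16, 4], false, 17),
  (235, 0, [12, 4, 16, 4], true, 17),
  (352, 0, [7, 4, 16, 4], false, 23),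
  (704, 0, [7, 4, 16, 4], true, 23),
  (118, 0, [12, 4, 16, 4], false, 23),
  (236, 0, [12, 4, 16, 4], true, 23),
  (339, 0, [18], false, 84),
  (669, 0, [18], true, 84),
  (345, 0, [42], false, 84),
  (663, 0, [42], true, 84),
  (351, 0, [45], false, 84),
  (702, 0, [45], true, 84),
  (429, 0, [18], false, 85),
  (579, 0, [18], true, 85),
  (417, 0, [42], false, 85),
  (591, 0, [42], true, 85),
  (307, 0, [21], false, 88),
  (533, 0, [21], true, 88),
  (247, 0, [23], false, 88),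
  (494, 0, [23], true, 88),
  (289, 0, [45], false, 88),
  (551, 0, [45], true, 88)]

def entries12 : List (ℕ × ℕ × List ℕ × Bool × ℕ) := [
  (317, 0, [21], false, 89),
  (523, 0, [21], true, 89),
  (281, 0, [45], false, 89),
  (559, 0, [45], true, 89),
  (280, 0, [19], false, 97),
  (560, 0, [19], true, 97),
  (263, 0, [21], false, 97),
  (496, 0, [21], true, 97),
  (288, 0, [43], false, 97),
  (549, 0, [43], true, 97),
  (308, 0, [45], false, 97),
  (532, 0, [45], true, 97),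
  (315, 0, [19], false, 98),
  (522, 0, [19], true, 98),
  (262, 0, [45], false, 98),
  (497, 0, [45], true, 98),
  (141, 0, [22], false, 103),
  (192, 0, [22], true, 103),
  (44, 0, [19], false, 105),
  (76, 0, [19], true, 105),
  (279, 0, [19], false, 107),
  (558, 0, [19], true, 107),
  (253, 0, [21], false, 107),
  (506, 0, [21], true, 107),
  (274, 0, [22], false, 107),
  (548, 0, [22], true, 107),
  (290, 0, [43], false, 107),
  (550, 0, [43], true, 107),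
  (316, 0, [45], false, 107),
  (524, 0, [45], true, 107),
  (306, 0, [43], false, 108),
  (531, 0, [43], true, 108),
  (254, 0, [45], false, 108),
  (505, 0, [45], true, 108),
  (43, 0, [19], false, 113),
  (77, 0, [19], true, 113),
  (358, 0, [31, 8, 20, 8, 47, 1, 3, 15, 3], false, 0),
  (386, 0, [7, 8, 20, 8, 23, 1, 3, 15, 3], true, 0),
  (440, 0, [31, 8, 20, 8, 23, 1, 3, 15, 3], true, 0),
  (466, 0, [7, 8, 20, 8, 47, 1, 3, 15, 3], false, 0),
  (599, 0, [7, 8, 20, 8, 47, 1, 3, 15, 3], true, 0),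
  (625, 0, [31, 8, 20, 8, 23, 1, 3, 15, 3], false, 0),
  (679, 0, [7, 8, 20, 8, 23, 1, 3, 15, 3], false, 0),
  (707, 0, [31, 8, 20, 8, 47, 1, 3, 15, 3], true, 0),
  (356, 0, [7, 8, 20, 8, 47, 2, 3, 15, 3], true, 0)]

def entries13 : List (ℕ × ℕ × List ℕ × Bool × ℕ) := [
  (464, 0, [31, 8, 20, 8, 47, 2, 3, 15, 3], true, 0),
  (601, 0, [31, 8, 20, 8, 47, 2, 3, 15, 3], false, 0),
  (709, 0, [7, 8, 20, 8, 47, 2, 3, 15, 3], false, 0),
  (436, 0, [7, 8, 20, 8, 23, 4, 3, 15, 3], false, 0),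
  (629, 0, [7, 8, 20, 8, 23, 4, 3, 15, 3], true, 0),
  (382, 0, [31, 8, 20, 8, 23, 5, 3, 15, 3], false, 0),
  (683, 0, [31, 8, 20, 8, 23, 5, 3, 15, 3], true, 0),
  (30, 0, [7, 8, 20, 8, 23, 11, 3, 15, 3], false, 0),
  (33, 0, [31, 8, 20, 8, 23, 11, 3, 15, 3], true, 0),
  (57, 0, [31, 8, 20, 8, 23, 11, 3, 15, 3], false, 0),
  (60, 0, [7, 8, 20, 8, 23, 11, 3, 15, 3], true, 0),
  (131, 0, [7, 8, 20, 8, 47, 13, 3, 15, 3], true, 0),
  (133, 0, [31, 8, 20, 8, 47, 13, 3, 15, 3], false, 0),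
  (157, 0, [31, 8, 20, 8, 23, 13, 3, 15, 3], false, 0),
  (161, 0, [7, 8, 20, 8, 23, 13, 3, 15, 3], true, 0),
  (202, 0, [7, 8, 20, 8, 23, 13, 3, 15, 3], false, 0),
  (206, 0, [31, 8, 20, 8, 23, 13, 3, 15, 3], true, 0),
  (230, 0, [31, 8, 20, 8, 47, 13, 3, 15, 3], true, 0),
  (232, 0, [7, 8, 20, 8, 47, 13, 3, 15, 3], false, 0),
  (148, 0, [31, 8, 20, 8, 23, 14, 3, 15, 3], false, 0),
  (152, 0, [7, 8, 20, 8, 23, 14, 3, 15, 3], true, 0),
  (211, 0, [7, 8, 20, 8, 23, 14, 3, 15, 3], false, 0),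
  (215, 0, [31, 8, 20, 8, 23, 14, 3, 15, 3], true, 0),
  (87, 0, [8, 20, 8, 10, 22, 10, 3, 15, 3], true, 1),
  (165, 0, [8, 20, 8, 10, 22, 10, 3, 15, 3], false, 1),
  (332, 0, [7, 8, 20, 8, 23, 1, 3, 15, 3], false, 1),
  (357, 0, [7, 8, 20, 8, 46, 1, 3, 15, 3], false, 1),
  (439, 0, [7, 8, 20, 8, 47, 1, 3, 15, 3], true, 1),
  (467, 0, [7, 8, 20, 8, 22, 1, 3, 15, 3], true, 1),
  (598, 0, [7, 8, 20, 8, 22, 1, 3, 15, 3], false, 1),
  (626, 0, [7, 8, 20, 8, 47, 1, 3, 15, 3], false, 1),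
  (652, 0, [7, 8, 20, 8, 23, 1, 3, 15, 3], true, 1),
  (705, 0, [7, 8, 20, 8, 46, 1, 3, 15, 3], true, 1),
  (383, 0, [7, 8, 20, 8, 47, 2, 3, 15, 3], false, 1),
  (682, 0, [7, 8, 20, 8, 47, 2, 3, 15, 3], true, 1),
  (409, 0, [7, 8, 20, 8, 23, 4, 3, 15, 3], true, 1),
  (462, 0, [7, 8, 20, 8, 46, 4, 3, 15, 3], true, 1),
  (575, 0, [7, 8, 20, 8, 23, 4, 3, 15, 3], false, 1),
  (600, 0, [7, 8, 20, 8, 46, 4, 3, 15, 3], false, 1),
  (107, 0, [7, 8, 20, 8, 23, 13, 3, 15, 3], false, 1),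
  (130, 0, [7, 8, 20, 8, 22, 13, 3, 15, 3], false, 1),
  (132, 0, [7, 8, 20, 8, 46, 13, 3, 15, 3], false, 1),
  (158, 0, [7, 8, 20, 8, 47, 13, 3, 15, 3], false, 1),
  (175, 0, [7, 8, 20, 8, 23, 13, 3, 15, 3], true, 1),
  (205, 0, [7, 8, 20, 8, 47, 13, 3, 15, 3], true, 1)]

def entries14 : List (ℕ × ℕ × List ℕ × Bool × ℕ) := [
  (228, 0, [7, 8, 20, 8, 46, 13, 3, 15, 3], true, 1),
  (233, 0, [7, 8, 20, 8, 22, 13, 3, 15, 3], true, 1),
  (149, 0, [7, 8, 20, 8, 47, 14, 3, 15, 3], false, 1),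
  (214, 0, [7, 8, 20, 8, 47, 14, 3, 15, 3], true, 1),
  (84, 0, [8, 20, 8, 10, 22, 10, 3, 15, 3], false, 2),
  (168, 0, [8, 20, 8, 10, 22, 10, 3, 15, 3], true, 2),
  (359, 0, [7, 8, 20, 8, 23, 1, 3, 15, 3], true, 2),
  (385, 0, [7, 8, 20, 8, 22, 1, 3, 15, 3], true, 2),
  (412, 0, [7, 8, 20, 8, 47, 1, 3, 15, 3], false, 2),
  (438, 0, [7, 8, 20, 8, 46, 1, 3, 15, 3], false, 2),
  (572, 0, [7, 8, 20, 8, 47, 1, 3, 15, 3], true, 2),
  (624, 0, [7, 8, 20, 8, 46, 1, 3, 15, 3], true, 2),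
  (680, 0, [7, 8, 20, 8, 22, 1, 3, 15, 3], false, 2),
  (706, 0, [7, 8, 20, 8, 23, 1, 3, 15, 3], false, 2),
  (329, 0, [7, 8, 20, 8, 47, 2, 3, 15, 3], true, 2),
  (437, 0, [7, 8, 20, 8, 22, 2, 3, 15, 3], false, 2),
  (628, 0, [7, 8, 20, 8, 22, 2, 3, 15, 3], true, 2),
  (655, 0, [7, 8, 20, 8, 47, 2, 3, 15, 3], false, 2),
  (463, 0, [7, 8, 20, 8, 23, 4, 3, 15, 3], false, 2),
  (602, 0, [7, 8, 20, 8, 23, 4, 3, 15, 3], true, 2),
  (381, 0, [7, 8, 20, 8, 46, 5, 3, 15, 3], true, 2),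
  (681, 0, [7, 8, 20, 8, 46, 5, 3, 15, 3], false, 2),
  (104, 0, [7, 8, 20, 8, 47, 13, 3, 15, 3], true, 2),
  (134, 0, [7, 8, 20, 8, 23, 13, 3, 15, 3], true, 2),
  (156, 0, [7, 8, 20, 8, 46, 13, 3, 15, 3], true, 2),
  (160, 0, [7, 8, 20, 8, 22, 13, 3, 15, 3], true, 2),
  (178, 0, [7, 8, 20, 8, 47, 13, 3, 15, 3], false, 2),
  (203, 0, [7, 8, 20, 8, 22, 13, 3, 15, 3], false, 2),
  (204, 0, [7, 8, 20, 8, 46, 13, 3, 15, 3], false, 2),
  (229, 0, [7, 8, 20, 8, 23, 13, 3, 15, 3], false, 2),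
  (147, 0, [7, 8, 20, 8, 46, 14, 3, 15, 3], true, 2),
  (151, 0, [7, 8, 20, 8, 22, 14, 3, 15, 3], true, 2),
  (212, 0, [7, 8, 20, 8, 22, 14, 3, 15, 3], false, 2),
  (213, 0, [7, 8, 20, 8, 46, 14, 3, 15, 3], false, 2),
  (7, 1, [33, 8, 20, 8, 46, 34, 3, 15, 3], true, 7),
  (88, 1, [8, 20, 10, 46, 10, 10, 3, 15, 3], true, 7),
  (139, 1, [9, 8, 20, 8, 22, 34, 3, 15, 3], true, 7),
  (218, 1, [47, 33, 11, 47, 11, 20, 3, 15, 3], false, 7),
  (219, 1, [8, 20, 22, 10, 22, 10, 3, 15, 3], true, 7),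
  (221, 1, [33, 8, 20, 8, 22, 34, 3, 15, 3], true, 7),
  (249, 1, [8, 20, 8, 46, 34, 1, 3, 15, 3], true, 7),
  (277, 1, [20, 8, 20, 8, 46, 1, 3, 15, 3], true, 7),
  (304, 1, [8, 20, 10, 46, 10, 1, 3, 15, 3], true, 7),
  (357, 1, [8, 20, 8, 46, 31, 1, 3, 15, 3], true, 7),
  (358, 1, [33, 8, 20, 8, 46, 1, 3, 15, 3], true, 7)]

def entries15 : List (ℕ × ℕ × List ℕ × Bool × ℕ) := [
  (385, 1, [32, 44, 10, 46, 10, 1, 3, 15, 3], false, 7),
  (439, 1, [8, 8, 44, 8, 46, 1, 3, 15, 3], false, 7),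
  (440, 1, [9, 8, 20, 8, 46, 1, 3, 15, 3], true, 7),
  (517, 1, [20, 8, 20, 8, 22, 1, 3, 15, 3], true, 7),
  (543, 1, [8, 20, 8, 22, 34, 1, 3, 15, 3], true, 7),
  (571, 1, [32, 44, 10, 22, 10, 1, 3, 15, 3], false, 7),
  (597, 1, [8, 20, 8, 22, 31, 1, 3, 15, 3], true, 7),
  (599, 1, [33, 8, 20, 8, 22, 1, 3, 15, 3], true, 7),
  (651, 1, [8, 20, 10, 22, 10, 1, 3, 15, 3], true, 7),
  (678, 1, [8, 8, 44, 8, 22, 1, 3, 15, 3], false, 7),
  (679, 1, [9, 8, 20, 8, 22, 1, 3, 15, 3], true, 7),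
  (141, 1, [8, 8, 44, 8, 22, 3, 3, 39, 3], false, 7),
  (143, 1, [9, 8, 20, 8, 22, 3, 3, 39, 3], true, 7),
  (170, 1, [32, 44, 10, 22, 10, 3, 3, 39, 3], false, 7),
  (223, 1, [33, 8, 20, 8, 22, 3, 3, 39, 3], true, 7),
  (189, 3, [8, 11, 8, 20, 8, 3, 3, 39, 3], false, 7),
  (300, 1, [8, 20, 8, 22, 34, 5, 3, 15, 3], true, 7),
  (520, 1, [20, 8, 20, 8, 46, 5, 3, 15, 3], true, 7),
  (595, 1, [20, 31, 8, 20, 8, 5, 3, 15, 3], true, 7),
  (600, 1, [8, 20, 8, 46, 31, 5, 3, 15, 3], true, 7),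
  (601, 1, [33, 8, 20, 8, 46, 5, 3, 15, 3], true, 7),
  (682, 1, [8, 8, 44, 8, 46, 5, 3, 15, 3], false, 7),
  (683, 1, [9, 8, 20, 8, 46, 5, 3, 15, 3], true, 7),
  (4, 1, [32, 44, 10, 22, 10, 7, 3, 15, 3], false, 7),
  (5, 1, [33, 8, 20, 8, 22, 10, 3, 15, 3], true, 7),
  (49, 1, [20, 8, 20, 8, 22, 14, 3, 15, 3], true, 7),
  (52, 1, [20, 8, 20, 8, 46, 14, 3, 15, 3], true, 7),
  (66, 1, [8, 20, 8, 22, 34, 14, 3, 15, 3], true, 7),
  (70, 1, [8, 20, 10, 46, 10, 14, 3, 15, 3], true, 7),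
  (127, 1, [20, 31, 8, 20, 8, 14, 3, 15, 3], true, 7),
  (129, 1, [8, 20, 8, 22, 31, 14, 3, 15, 3], true, 7),
  (131, 1, [33, 8, 20, 8, 22, 14, 3, 15, 3], true, 7),
  (132, 1, [8, 20, 8, 46, 31, 14, 3, 15, 3], true, 7),
  (133, 1, [33, 8, 20, 8, 46, 14, 3, 15, 3], true, 7),
  (151, 1, [32, 44, 10, 46, 10, 14, 3, 15, 3], false, 7),
  (210, 1, [8, 8, 44, 8, 22, 14, 3, 15, 3], false, 7),
  (211, 1, [9, 8, 20, 8, 22, 14, 3, 15, 3], true, 7),
  (214, 1, [8, 8, 44, 8, 46, 14, 3, 15, 3], false, 7),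
  (215, 1, [9, 8, 20, 8, 46, 14, 3, 15, 3], true, 7),
  (341, 0, [31, 12, 4, 16, 4], true, 13),
  (430, 0, [7, 12, 4, 16, 4], false, 13),
  (581, 0, [7, 12, 4, 16, 4], true, 13),
  (670, 0, [31, 12, 4, 16, 4], false, 13),
  (12, 0, [32, 14, 6, 18, 6], true, 13),
  (15, 0, [8, 14, 6, 18, 6], true, 13)]

def entries16 : List (ℕ × ℕ × List ℕ × Bool × ℕ) := [
  (21, 0, [8, 14, 6, 18, 6], false, 13),
  (24, 0, [32, 14, 6, 18, 6], false, 13),
  (398, 0, [8, 12, 2, 14, 2], true, 14),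
  (469, 0, [32, 12, 2, 14, 2], false, 14),
  (614, 0, [32, 12, 2, 14, 2], true, 14),
  (685, 0, [8, 12, 2, 14, 2], false, 14),
  (340, 0, [7, 12, 4, 16, 4], false, 15),
  (431, 0, [31, 12, 4, 16, 4], true, 15),
  (580, 0, [31, 12, 4, 16, 4], false, 15),
  (671, 0, [7, 12, 4, 16, 4], true, 15),
  (388, 0, [8, 12, 2, 14, 2], true, 16),
  (479, 0, [32, 12, 2, 14, 2], false, 16),
  (604, 0, [32, 12, 2, 14, 2], true, 16),
  (695, 0, [8, 12, 2, 14, 2], false, 16),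
  (368, 0, [9, 12, 4, 16, 4], false, 17),
  (484, 0, [7, 12, 4, 16, 4], true, 17),
  (608, 0, [7, 12, 4, 16, 4], false, 17),
  (724, 0, [9, 12, 4, 16, 4], true, 17),
  (394, 0, [7, 12, 4, 16, 4], true, 19),
  (458, 0, [9, 12, 4, 16, 4], false, 19),
  (634, 0, [9, 12, 4, 16, 4], true, 19),
  (698, 0, [7, 12, 4, 16, 4], false, 19),
  (395, 0, [31, 12, 4, 16, 4], true, 21),
  (457, 0, [7, 12, 4, 16, 4], false, 21),
  (635, 0, [7, 12, 4, 16, 4], true, 21),
  (697, 0, [31, 12, 4, 16, 4], false, 21),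
  (367, 0, [7, 12, 4, 16, 4], false, 23),
  (485, 0, [31, 12, 4, 16, 4], true, 23),
  (607, 0, [31, 12, 4, 16, 4], false, 23),
  (725, 0, [7, 12, 4, 16, 4], true, 23),
  (326, 3, [44, 5, 3, 15, 3], true, 41),
  (270, 1, [9, 15, 4, 16, 4], true, 42),
  (569, 2, [20, 5, 3, 15, 3], true, 45),
  (379, 4, [8, 9, 3, 15, 3], false, 46),
  (460, 4, [8, 11, 3, 15, 3], false, 46),
  (595, 4, [9, 32, 3, 15, 3], false, 46),
  (676, 4, [32, 33, 3, 15, 3], false, 46),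
  (55, 4, [8, 2, 3, 15, 3], false, 46),
  (271, 4, [32, 2, 3, 15, 3], false, 46),
  (568, 4, [9, 2, 3, 15, 3], false, 46),
  (649, 4, [33, 2, 3, 15, 3], false, 46),
  (542, 4, [20, 31, 4, 16, 4], false, 47),
  (380, 4, [20, 5, 4, 16, 4], false, 47),
  (56, 4, [20, 7, 4, 16, 4], false, 47),
  (541, 4, [44, 7, 4, 16, 4], false, 47)]

def entries17 : List (ℕ × ℕ × List ℕ × Bool × ℕ) := [
  (272, 1, [8, 20, 3, 15, 3], true, 48),
  (433, 1, [32, 44, 3, 15, 3], false, 48),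
  (326, 2, [20, 2, 3, 15, 3], true, 48),
  (685, 3, [9, 7, 8, 44, 8], true, 49),
  (497, 3, [9, 7, 8, 44, 8], true, 50),
  (711, 3, [9, 7, 8, 44, 8], true, 52),
  (369, 3, [9, 7, 8, 44, 8], true, 54),
  (398, 3, [9, 7, 8, 44, 8], true, 55),
  (262, 3, [9, 7, 8, 44, 8], true, 56),
  (279, 2, [31, 9, 8, 44, 8], true, 58),
  (335, 2, [31, 9, 8, 44, 8], true, 60),
  (667, 2, [31, 9, 8, 44, 8], true, 62),
  (558, 2, [31, 9, 8, 44, 8], true, 64),
  (722, 3, [9, 7, 8, 44, 8], true, 65),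
  (531, 3, [9, 7, 8, 44, 8], true, 66),
  (667, 3, [9, 7, 8, 44, 8], true, 68),
  (253, 2, [4, 8, 44, 8], true, 72),
  (693, 2, [4, 8, 44, 8], true, 74),
  (261, 0, [7, 19, 7], true, 80),
  (495, 0, [7, 19, 7], false, 80),
  (252, 0, [7, 19, 7], false, 82),
  (504, 0, [7, 19, 7], true, 82),
  (347, 0, [42], false, 128),
  (664, 0, [42], true, 128),
  (362, 0, [45], false, 128),
  (721, 0, [45], true, 128),
  (418, 0, [42], false, 129),
  (593, 0, [42], true, 129),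
  (451, 0, [45], false, 129),
  (632, 0, [45], true, 129),
  (419, 0, [42], false, 132),
  (592, 0, [42], true, 132),
  (443, 0, [45], false, 132),
  (640, 0, [45], true, 132),
  (393, 0, [18], false, 134),
  (696, 0, [18], true, 134),
  (399, 0, [42], false, 134),
  (690, 0, [42], true, 134),
  (483, 0, [18], false, 135),
  (606, 0, [18], true, 135),
  (471, 0, [42], false, 135),
  (618, 0, [42], true, 135),
  (313, 0, [21], false, 138),
  (536, 0, [21], true, 138),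
  (295, 0, [45], false, 138)]

def entries18 : List (ℕ × ℕ × List ℕ × Bool × ℕ) := [
  (554, 0, [45], true, 138),
  (323, 0, [21], false, 139),
  (526, 0, [21], true, 139),
  (287, 0, [45], false, 139),
  (562, 0, [45], true, 139),
  (456, 0, [18], false, 142),
  (633, 0, [18], true, 142),
  (444, 0, [42], false, 142),
  (645, 0, [42], true, 142),
  (361, 0, [19], false, 148),
  (722, 0, [19], true, 148),
  (344, 0, [21], false, 148),
  (658, 0, [21], true, 148),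
  (355, 0, [22], false, 148),
  (710, 0, [22], true, 148),
  (374, 0, [42], false, 148),
  (718, 0, [42], true, 148),
  (369, 0, [43], false, 148),
  (711, 0, [43], true, 148),
  (389, 0, [45], false, 148),
  (694, 0, [45], true, 148),
  (477, 0, [19], false, 149),
  (603, 0, [19], true, 149),
  (442, 0, [21], false, 149),
  (641, 0, [21], true, 149),
  (472, 0, [42], false, 149),
  (620, 0, [42], true, 149),
  (470, 0, [43], false, 149),
  (613, 0, [43], true, 149),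
  (424, 0, [45], false, 149),
  (578, 0, [45], true, 149),
  (425, 0, [21], false, 152),
  (577, 0, [21], true, 152),
  (435, 0, [22], false, 152),
  (627, 0, [22], true, 152),
  (446, 0, [42], false, 152),
  (646, 0, [42], true, 152),
  (450, 0, [43], false, 152),
  (630, 0, [43], true, 152),
  (410, 0, [47], false, 152),
  (574, 0, [47], true, 152),
  (396, 0, [19], false, 154),
  (684, 0, [19], true, 154),
  (384, 0, [22], false, 154),
  (678, 0, [22], true, 154)]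

def entries19 : List (ℕ × ℕ × List ℕ × Bool × ℕ) := [
  (400, 0, [42], false, 154),
  (692, 0, [42], true, 154),
  (343, 0, [45], false, 154),
  (659, 0, [45], true, 154),
  (331, 0, [47], false, 154),
  (653, 0, [47], true, 154),
  (286, 0, [19], false, 156),
  (563, 0, [19], true, 156),
  (269, 0, [21], false, 156),
  (499, 0, [21], true, 156),
  (294, 0, [43], false, 156),
  (552, 0, [43], true, 156),
  (314, 0, [45], false, 156),
  (535, 0, [45], true, 156),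
  (321, 0, [19], false, 157),
  (525, 0, [19], true, 157),
  (268, 0, [45], false, 157),
  (500, 0, [45], true, 157),
  (318, 0, [19], false, 160),
  (528, 0, [19], true, 160),
  (283, 0, [21], false, 160),
  (566, 0, [21], true, 160),
  (311, 0, [43], false, 160),
  (538, 0, [43], true, 160),
  (265, 0, [45], false, 160),
  (503, 0, [45], true, 160),
  (397, 0, [19], false, 166),
  (686, 0, [19], true, 166),
  (371, 0, [21], false, 166),
  (712, 0, [21], true, 166),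
  (401, 0, [42], false, 166),
  (691, 0, [42], true, 166),
  (387, 0, [43], false, 166),
  (693, 0, [43], true, 166),
  (335, 0, [45], false, 166),
  (667, 0, [45], true, 166),
  (441, 0, [19], false, 167),
  (639, 0, [19], true, 167),
  (415, 0, [21], false, 167),
  (587, 0, [21], true, 167),
  (445, 0, [42], false, 167),
  (647, 0, [42], true, 167),
  (452, 0, [43], false, 167),
  (631, 0, [43], true, 167),
  (478, 0, [45], false, 167)]

def entries20 : List (ℕ × ℕ × List ℕ × Bool × ℕ) := [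
  (605, 0, [45], true, 167),
  (465, 0, [22], false, 170),
  (597, 0, [22], true, 170),
  (413, 0, [23], false, 170),
  (571, 0, [23], true, 170),
  (473, 0, [42], false, 170),
  (619, 0, [42], true, 170),
  (468, 0, [43], false, 170),
  (612, 0, [43], true, 170),
  (416, 0, [45], false, 170),
  (586, 0, [45], true, 170),
  (285, 0, [19], false, 172),
  (561, 0, [19], true, 172),
  (259, 0, [21], false, 172),
  (509, 0, [21], true, 172),
  (296, 0, [43], false, 172),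
  (553, 0, [43], true, 172),
  (322, 0, [45], false, 172),
  (527, 0, [45], true, 172),
  (312, 0, [43], false, 173),
  (534, 0, [43], true, 173),
  (260, 0, [45], false, 173),
  (508, 0, [45], true, 173),
  (319, 0, [19], false, 176),
  (530, 0, [19], true, 176),
  (293, 0, [21], false, 176),
  (556, 0, [21], true, 176),
  (309, 0, [43], false, 176),
  (537, 0, [43], true, 176),
  (257, 0, [45], false, 176),
  (511, 0, [45], true, 176),
  (38, 1, [19], false, 182),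
  (199, 1, [19], false, 183),
  (569, 3, [9, 7], false, 123),
  (587, 3, [9, 7], false, 124),
  (135, 4, [5], false, 207),
  (216, 4, [11], false, 207),
  (569, 4, [27], false, 208),
  (351, 4, [28], false, 208),
  (272, 4, [28], false, 209),
  (650, 4, [29], false, 209),
  (432, 4, [29], false, 210),
  (325, 4, [7], false, 213),
  (28, 4, [28], false, 214),
  (406, 4, [29], false, 214)]

def entries21 : List (ℕ × ℕ × List ℕ × Bool × ℕ) := [
  (621, 4, [26], false, 217),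
  (702, 4, [26], false, 218),
  (461, 4, [27], false, 218),
  (326, 4, [27], false, 221),
  (108, 4, [28], false, 221),
  (596, 4, [28], false, 222),
  (29, 4, [28], false, 224),
  (407, 4, [29], false, 224),
  (189, 4, [29], false, 225),
  (677, 4, [29], false, 227),
  (45, 0, [7, 19, 7, 11, 23, 11, 14, 3, 15, 3], false, 0),
  (63, 0, [7, 19, 7, 11, 23, 11, 14, 3, 15, 3], true, 0),
  (330, 0, [8, 20, 8, 10, 22, 10, 1, 3, 15, 3], true, 1),
  (651, 0, [8, 20, 8, 10, 22, 10, 1, 3, 15, 3], false, 1),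
  (408, 0, [8, 20, 8, 10, 22, 10, 4, 3, 15, 3], false, 1),
  (573, 0, [8, 20, 8, 10, 22, 10, 4, 3, 15, 3], true, 1),
  (105, 0, [8, 20, 8, 10, 22, 10, 13, 3, 15, 3], true, 1),
  (174, 0, [8, 20, 8, 10, 22, 10, 13, 3, 15, 3], false, 1),
  (411, 0, [8, 20, 8, 10, 22, 10, 1, 3, 15, 3], true, 2),
  (570, 0, [8, 20, 8, 10, 22, 10, 1, 3, 15, 3], false, 2),
  (102, 0, [8, 20, 8, 10, 22, 10, 13, 3, 15, 3], false, 2),
  (177, 0, [8, 20, 8, 10, 22, 10, 13, 3, 15, 3], true, 2),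
  (250, 1, [33, 8, 20, 8, 46, 34, 1, 3, 15, 3], true, 7),
  (251, 1, [9, 8, 20, 8, 46, 34, 1, 3, 15, 3], true, 7),
  (303, 1, [8, 20, 8, 10, 46, 10, 1, 3, 15, 3], true, 7),
  (331, 1, [8, 20, 10, 46, 10, 10, 1, 3, 15, 3], true, 7),
  (412, 1, [20, 8, 20, 8, 46, 34, 1, 3, 15, 3], true, 7),
  (467, 1, [8, 11, 20, 10, 46, 10, 1, 3, 15, 3], true, 7),
  (489, 1, [8, 20, 8, 10, 22, 10, 1, 3, 15, 3], true, 7),
  (544, 1, [8, 20, 22, 10, 46, 10, 1, 3, 15, 3], true, 7),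
  (625, 1, [9, 8, 20, 8, 22, 34, 1, 3, 15, 3], true, 7),
  (653, 1, [8, 11, 20, 10, 22, 10, 1, 3, 15, 3], true, 7),
  (705, 1, [8, 20, 22, 10, 22, 10, 1, 3, 15, 3], true, 7),
  (706, 1, [20, 8, 20, 8, 22, 34, 1, 3, 15, 3], true, 7),
  (707, 1, [33, 8, 20, 8, 22, 34, 1, 3, 15, 3], true, 7),
  (298, 1, [8, 20, 46, 10, 46, 10, 5, 3, 15, 3], true, 7),
  (301, 1, [8, 20, 22, 10, 46, 10, 5, 3, 15, 3], true, 7),
  (380, 1, [32, 44, 46, 10, 46, 10, 5, 3, 15, 3], false, 7),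
  (382, 1, [9, 8, 20, 8, 22, 34, 5, 3, 15, 3], true, 7),
  (461, 1, [47, 33, 11, 47, 11, 20, 5, 3, 15, 3], false, 7),
  (462, 1, [8, 20, 22, 10, 22, 10, 5, 3, 15, 3], true, 7),
  (463, 1, [20, 8, 20, 8, 22, 34, 5, 3, 15, 3], true, 7),
  (464, 1, [33, 8, 20, 8, 22, 34, 5, 3, 15, 3], true, 7),
  (64, 1, [8, 20, 46, 10, 46, 10, 14, 3, 15, 3], true, 7),
  (67, 1, [8, 20, 22, 10, 46, 10, 14, 3, 15, 3], true, 7)]

def entries22 : List (ℕ × ℕ × List ℕ × Bool × ℕ) := [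
  (69, 1, [8, 20, 8, 10, 46, 10, 14, 3, 15, 3], true, 7),
  (146, 1, [32, 44, 46, 10, 46, 10, 14, 3, 15, 3], false, 7),
  (148, 1, [9, 8, 20, 8, 22, 34, 14, 3, 15, 3], true, 7),
  (227, 1, [47, 33, 11, 47, 11, 20, 14, 3, 15, 3], false, 7),
  (228, 1, [8, 20, 22, 10, 22, 10, 14, 3, 15, 3], true, 7),
  (229, 1, [20, 8, 20, 8, 22, 34, 14, 3, 15, 3], true, 7),
  (230, 1, [33, 8, 20, 8, 22, 34, 14, 3, 15, 3], true, 7),
  (233, 1, [8, 11, 20, 10, 46, 10, 14, 3, 15, 3], true, 7),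
  (245, 3, [9, 44, 5, 3, 15, 3], true, 41),
  (297, 3, [44, 32, 5, 3, 15, 3], true, 41),
  (352, 3, [32, 20, 5, 3, 15, 3], false, 41),
  (407, 3, [33, 44, 5, 3, 15, 3], true, 41),
  (325, 3, [33, 44, 2, 3, 39, 3], true, 42),
  (649, 3, [9, 44, 7, 3, 39, 3], true, 42),
  (406, 2, [20, 31, 9, 3, 39, 3], true, 42),
  (541, 1, [8, 20, 3, 3, 39, 3], true, 44),
  (623, 1, [32, 44, 3, 3, 39, 3], false, 44),
  (532, 1, [8, 20, 14, 3, 15, 3], true, 44),
  (693, 1, [32, 44, 14, 3, 15, 3], false, 44),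
  (513, 2, [20, 8, 5, 3, 15, 3], true, 45),
  (622, 2, [8, 44, 5, 3, 15, 3], false, 45),
  (650, 2, [20, 31, 5, 3, 15, 3], true, 45),
  (703, 2, [20, 32, 5, 3, 15, 3], true, 45),
  (136, 4, [8, 9, 2, 3, 15, 3], false, 46),
  (217, 4, [8, 11, 2, 3, 15, 3], false, 46),
  (352, 4, [9, 32, 2, 3, 15, 3], false, 46),
  (433, 4, [32, 33, 2, 3, 15, 3], false, 46),
  (623, 4, [20, 31, 5, 4, 16, 4], false, 47),
  (275, 1, [8, 20, 22, 3, 15, 3], true, 48),
  (353, 1, [8, 11, 20, 3, 15, 3], true, 48),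
  (437, 1, [32, 44, 22, 3, 15, 3], false, 48),
  (270, 2, [20, 8, 2, 3, 15, 3], true, 48),
  (379, 2, [8, 44, 2, 3, 15, 3], false, 48),
  (407, 2, [20, 31, 2, 3, 15, 3], true, 48),
  (460, 2, [20, 32, 2, 3, 15, 3], true, 48),
  (352, 1, [32, 44, 7, 3, 15, 3], false, 48),
  (434, 1, [8, 20, 7, 3, 15, 3], true, 48),
  (271, 1, [32, 44, 10, 3, 15, 3], false, 48),
  (288, 1, [8, 20, 14, 3, 15, 3], true, 48),
  (452, 1, [32, 44, 14, 3, 15, 3], false, 48),
  (246, 0, [7, 11, 23, 11], false, 78),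
  (492, 0, [7, 11, 23, 11], false, 79),
  (657, 0, [10, 7, 19, 7], false, 80),
  (423, 0, [10, 9, 21, 9], false, 80),
  (576, 0, [11, 7, 19, 7], false, 80)]

def entries23 : List (ℕ × ℕ × List ℕ × Bool × ℕ) := [
  (342, 0, [11, 9, 21, 9], false, 80),
  (327, 0, [7, 10, 22, 10], false, 82),
  (333, 0, [10, 7, 19, 7], false, 82),
  (654, 0, [7, 10, 22, 10], false, 83),
  (666, 0, [10, 7, 19, 7], false, 83),
  (36, 0, [9, 21, 9], true, 89),
  (72, 0, [9, 21, 9], false, 89),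
  (117, 0, [6, 42, 6], true, 95),
  (234, 0, [6, 42, 6], false, 95),
  (264, 0, [7, 19, 7], true, 105),
  (501, 0, [7, 19, 7], false, 105),
  (41, 0, [7, 43, 7], true, 105),
  (79, 0, [7, 43, 7], false, 105),
  (267, 0, [9, 21, 9], false, 105),
  (498, 0, [9, 21, 9], true, 105),
  (414, 0, [7, 19, 7], true, 111),
  (585, 0, [7, 19, 7], false, 111),
  (258, 0, [7, 19, 7], false, 113),
  (507, 0, [7, 19, 7], true, 113),
  (40, 0, [7, 43, 7], true, 113),
  (80, 0, [7, 43, 7], false, 113),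
  (488, 3, [9, 7], false, 188),
  (540, 3, [9, 7], false, 189),
  (432, 1, [9, 40], true, 189),
  (595, 3, [9, 7], false, 190),
  (650, 3, [9, 7], false, 191),
  (649, 2, [31, 9], false, 192),
  (406, 3, [9, 7], false, 193),
  (245, 2, [31, 9], false, 194),
  (488, 2, [7, 33], false, 194),
  (676, 3, [9, 7], false, 195),
  (36, 1, [19], false, 251),
  (41, 1, [19], false, 252),
  (44, 1, [19], false, 253),
  (119, 1, [19], false, 254),
  (203, 1, [19], false, 255),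
  (204, 1, [19], false, 256),
  (73, 1, [19], false, 260),
  (155, 1, [19], false, 261),
  (522, 1, [19], false, 270),
  (686, 1, [19], false, 271),
  (118, 1, [19], false, 272),
  (200, 1, [19], false, 273),
  (37, 1, [19], false, 277),
  (622, 4, [33, 10], false, 212)]

def entries24 : List (ℕ × ℕ × List ℕ × Bool × ℕ) := [
  (190, 4, [9, 34], false, 215),
  (704, 4, [33, 10], false, 220),
  (137, 4, [9, 34], false, 220),
  (434, 4, [33, 10], false, 227),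
  (110, 4, [9, 34], false, 227),
  (658, 3, [9, 7], false, 230),
  (522, 3, [9, 7], false, 231),
  (496, 3, [9, 7], false, 232),
  (603, 3, [9, 7], false, 233),
  (477, 3, [9, 7], false, 234),
  (263, 3, [9, 7], false, 235),
  (315, 3, [9, 7], false, 236),
  (344, 3, [9, 7], false, 237),
  (387, 2, [31, 9], false, 238),
  (306, 2, [31, 9], false, 240),
  (254, 2, [7, 33], false, 240),
  (415, 2, [31, 9], false, 241),
  (441, 2, [7, 33], false, 241),
  (587, 2, [31, 9], false, 242),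
  (639, 2, [7, 33], false, 242),
  (531, 2, [31, 9], false, 243),
  (505, 2, [7, 33], false, 243),
  (506, 2, [31, 9], false, 244),
  (720, 3, [9, 7], false, 246),
  (506, 3, [9, 7], false, 247),
  (558, 3, [9, 7], false, 248),
  (48, 0, [7, 8, 20, 8, 11, 23, 11, 14, 3, 15, 3], false, 0),
  (51, 0, [31, 8, 20, 8, 11, 23, 11, 14, 3, 15, 3], true, 0),
  (66, 0, [31, 8, 20, 8, 11, 23, 11, 14, 3, 15, 3], false, 0),
  (69, 0, [7, 8, 20, 8, 11, 23, 11, 14, 3, 15, 3], true, 0),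
  (106, 0, [7, 8, 20, 8, 10, 22, 10, 13, 3, 15, 3], true, 1),
  (159, 0, [7, 8, 20, 8, 11, 23, 11, 13, 3, 15, 3], false, 1),
  (176, 0, [7, 8, 20, 8, 10, 22, 10, 13, 3, 15, 3], false, 1),
  (201, 0, [7, 8, 20, 8, 11, 23, 11, 13, 3, 15, 3], true, 1),
  (150, 0, [7, 8, 20, 8, 11, 23, 11, 14, 3, 15, 3], false, 1),
  (210, 0, [7, 8, 20, 8, 11, 23, 11, 14, 3, 15, 3], true, 1),
  (103, 0, [7, 8, 20, 8, 10, 22, 10, 13, 3, 15, 3], false, 2),
  (129, 0, [7, 8, 20, 8, 11, 23, 11, 13, 3, 15, 3], false, 2),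
  (179, 0, [7, 8, 20, 8, 10, 22, 10, 13, 3, 15, 3], true, 2),
  (231, 0, [7, 8, 20, 8, 11, 23, 11, 13, 3, 15, 3], true, 2),
  (305, 1, [20, 8, 20, 8, 10, 46, 10, 1, 3, 15, 3], true, 7),
  (384, 1, [8, 8, 44, 8, 10, 46, 10, 1, 3, 15, 3], false, 7),
  (386, 1, [9, 8, 20, 8, 10, 46, 10, 1, 3, 15, 3], true, 7),
  (465, 1, [8, 20, 8, 10, 46, 10, 7, 1, 3, 15, 3], true, 7),
  (466, 1, [33, 8, 20, 8, 10, 46, 10, 1, 3, 15, 3], true, 7)]

def entries25 : List (ℕ × ℕ × List ℕ × Bool × ℕ) := [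
  (490, 1, [9, 8, 20, 8, 10, 22, 10, 1, 3, 15, 3], true, 7),
  (491, 1, [33, 8, 20, 8, 10, 22, 10, 1, 3, 15, 3], true, 7),
  (570, 1, [20, 8, 20, 8, 10, 22, 10, 1, 3, 15, 3], true, 7),
  (652, 1, [8, 8, 44, 8, 10, 22, 10, 1, 3, 15, 3], false, 7),
  (297, 1, [8, 20, 8, 46, 10, 46, 10, 5, 3, 15, 3], true, 7),
  (378, 1, [47, 11, 47, 11, 8, 20, 8, 5, 3, 15, 3], false, 7),
  (63, 1, [8, 20, 8, 46, 10, 46, 10, 14, 3, 15, 3], true, 7),
  (71, 1, [20, 8, 20, 8, 10, 46, 10, 14, 3, 15, 3], true, 7),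
  (144, 1, [47, 11, 47, 11, 8, 20, 8, 14, 3, 15, 3], false, 7),
  (150, 1, [8, 8, 44, 8, 10, 46, 10, 14, 3, 15, 3], false, 7),
  (152, 1, [9, 8, 20, 8, 10, 46, 10, 14, 3, 15, 3], true, 7),
  (231, 1, [8, 20, 8, 10, 46, 10, 7, 14, 3, 15, 3], true, 7),
  (232, 1, [33, 8, 20, 8, 10, 46, 10, 14, 3, 15, 3], true, 7),
  (298, 2, [31, 9], false, 257),
  (541, 2, [7, 33], false, 257),
  (351, 2, [31, 9], false, 258),
  (594, 2, [7, 33], false, 258),
  (514, 3, [9, 7], false, 259),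
  (540, 2, [31, 9], false, 262),
  (297, 2, [7, 33], false, 262),
  (568, 2, [31, 9], false, 263),
  (325, 2, [7, 33], false, 263),
  (596, 2, [31, 9], false, 264),
  (353, 2, [7, 33], false, 264),
  (677, 2, [31, 9], false, 265),
  (434, 2, [7, 33], false, 265),
  (244, 3, [9, 7], false, 266),
  (270, 3, [9, 7], false, 267),
  (621, 1, [9, 16], true, 267),
  (461, 3, [9, 7], false, 269),
  (432, 2, [31, 9], false, 274),
  (675, 2, [7, 33], false, 274),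
  (621, 3, [9, 7], false, 275),
  (351, 1, [9, 40], true, 275),
  (702, 3, [9, 7], false, 276),
  (13, 0, [20], false, 306),
  (26, 0, [20], true, 306),
  (17, 0, [44], true, 306),
  (22, 0, [44], false, 306),
  (14, 0, [20], false, 307),
  (25, 0, [20], true, 307),
  (16, 0, [21], true, 307),
  (23, 0, [21], false, 307),
  (273, 0, [22], false, 314),
  (546, 0, [22], true, 314)]

def entries26 : List (ℕ × ℕ × List ℕ × Bool × ℕ) := [
  (273, 1, [6], false, 332),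
  (39, 1, [19], false, 332),
  (42, 1, [19], false, 333),
  (575, 1, [6], false, 334),
  (107, 1, [20], false, 334),
  (98, 1, [44], false, 334),
  (117, 1, [19], false, 335),
  (355, 1, [6], false, 336),
  (121, 1, [19], false, 336),
  (125, 1, [19], false, 337),
  (158, 1, [19], false, 338),
  (654, 1, [6], false, 339),
  (186, 1, [20], false, 339),
  (177, 1, [44], false, 339),
  (198, 1, [19], false, 340),
  (286, 1, [19], false, 341),
  (458, 1, [20], false, 341),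
  (294, 1, [43], false, 341),
  (368, 1, [44], false, 341),
  (449, 1, [19], false, 342),
  (375, 1, [20], false, 342),
  (457, 1, [43], false, 342),
  (285, 1, [44], false, 342),
  (525, 1, [19], false, 343),
  (608, 1, [20], false, 343),
  (535, 1, [43], false, 343),
  (698, 1, [44], false, 343),
  (572, 1, [10], false, 344),
  (687, 1, [19], false, 344),
  (527, 1, [20], false, 344),
  (545, 1, [34], false, 344),
  (697, 1, [43], false, 344),
  (617, 1, [44], false, 344),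
  (540, 1, [9], false, 345),
  (72, 1, [19], false, 345),
  (76, 1, [19], false, 346),
  (547, 1, [6], false, 347),
  (79, 1, [19], false, 347),
  (381, 1, [6], false, 348),
  (624, 1, [9], false, 348),
  (156, 1, [19], false, 348),
  (147, 1, [20], false, 348),
  (628, 1, [6], false, 349),
  (160, 1, [19], false, 349),
  (703, 1, [9], false, 350)]

def entries27 : List (ℕ × ℕ × List ℕ × Bool × ℕ) := [
  (235, 1, [19], false, 350),
  (460, 1, [33], false, 350),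
  (226, 1, [43], false, 350),
  (523, 1, [19], false, 355),
  (533, 1, [43], false, 355),
  (710, 1, [10], false, 356),
  (528, 1, [19], false, 356),
  (620, 1, [20], false, 356),
  (538, 1, [43], false, 356),
  (692, 1, [44], false, 356),
  (603, 1, [19], false, 357),
  (613, 1, [43], false, 357),
  (708, 1, [10], false, 358),
  (691, 1, [19], false, 358),
  (537, 1, [20], false, 358),
  (701, 1, [43], false, 358),
  (609, 1, [44], false, 358),
  (356, 1, [6], false, 359),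
  (122, 1, [19], false, 359),
  (123, 1, [19], false, 360),
  (206, 1, [19], false, 361),
  (435, 1, [6], false, 362),
  (201, 1, [19], false, 362),
  (205, 1, [19], false, 363),
  (329, 1, [6], false, 364),
  (95, 1, [20], false, 364),
  (104, 1, [44], false, 364),
  (410, 1, [6], false, 365),
  (176, 1, [20], false, 365),
  (185, 1, [44], false, 365),
  (240, 1, [19], false, 366),
  (242, 1, [19], false, 367),
  (274, 1, [6], false, 368),
  (40, 1, [19], false, 368),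
  (43, 1, [19], false, 369),
  (289, 1, [9], false, 370),
  (374, 1, [6], false, 371),
  (291, 1, [9], false, 371),
  (369, 1, [9], false, 373),
  (293, 1, [6], false, 374),
  (453, 1, [9], false, 374),
  (77, 1, [34], false, 374),
  (271, 3, [32, 20, 9, 5, 3, 15, 3], false, 41),
  (459, 1, [8, 11, 20, 8, 3, 39, 3], true, 43),
  (723, 0, [8, 6, 42, 6], false, 95)]

def entries28 : List (ℕ × ℕ × List ℕ × Bool × ℕ) := [
  (366, 0, [8, 6, 42, 6], false, 96),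
  (502, 0, [6, 7, 19, 7], false, 105),
  (672, 0, [10, 7, 19, 7], false, 105),
  (96, 0, [11, 7, 19, 7], false, 105),
  (266, 0, [6, 7, 19, 7], false, 106),
  (336, 0, [10, 7, 19, 7], false, 106),
  (183, 0, [11, 7, 19, 7], false, 106),
  (668, 0, [10, 7, 19, 7], false, 108),
  (720, 0, [10, 9, 21, 9], false, 108),
  (354, 0, [10, 10, 46, 10], false, 108),
  (328, 0, [10, 11, 47, 11], false, 108),
  (334, 0, [10, 7, 19, 7], false, 109),
  (360, 0, [10, 9, 21, 9], false, 109),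
  (708, 0, [10, 10, 46, 10], false, 109),
  (656, 0, [10, 11, 47, 11], false, 109),
  (564, 0, [7, 7, 43, 7], false, 113),
  (512, 0, [7, 9, 45, 9], false, 113),
  (238, 0, [10, 6, 42, 6], false, 113),
  (348, 0, [10, 7, 19, 7], false, 113),
  (125, 0, [10, 7, 43, 7], false, 113),
  (582, 0, [10, 9, 21, 9], false, 113),
  (282, 0, [7, 7, 43, 7], false, 114),
  (256, 0, [7, 9, 45, 9], false, 114),
  (660, 0, [10, 7, 19, 7], false, 114),
  (426, 0, [10, 9, 21, 9], false, 114),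
  (39, 0, [6, 18, 6], true, 135),
  (78, 0, [6, 18, 6], false, 135),
  (310, 0, [9, 45, 9], true, 138),
  (539, 0, [9, 45, 9], false, 138),
  (320, 0, [9, 45, 9], true, 139),
  (529, 0, [9, 45, 9], false, 139),
  (291, 0, [9, 21, 9], true, 157),
  (555, 0, [9, 21, 9], false, 157),
  (568, 3, [33, 44, 39], true, 224),
  (630, 3, [9, 7], false, 281),
  (659, 3, [9, 7], false, 283),
  (343, 3, [9, 7], false, 285),
  (450, 3, [9, 7], false, 287),
  (586, 3, [9, 7], false, 303),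
  (693, 3, [9, 7], false, 305),
  (330, 1, [8, 8, 44, 8, 10, 46, 10, 10, 1, 3, 15, 3], false, 7),
  (413, 1, [20, 8, 20, 8, 10, 46, 10, 10, 1, 3, 15, 3], true, 7),
  (299, 1, [20, 8, 20, 8, 46, 10, 46, 10, 5, 3, 15, 3], true, 7),
  (302, 1, [20, 8, 20, 8, 22, 10, 46, 10, 5, 3, 15, 3], true, 7),
  (379, 1, [8, 8, 44, 8, 46, 10, 46, 10, 5, 3, 15, 3], false, 7)]

def entries29 : List (ℕ × ℕ × List ℕ × Bool × ℕ) := [
  (65, 1, [20, 8, 20, 8, 46, 10, 46, 10, 14, 3, 15, 3], true, 7),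
  (68, 1, [20, 8, 20, 8, 22, 10, 46, 10, 14, 3, 15, 3], true, 7),
  (145, 1, [8, 8, 44, 8, 46, 10, 46, 10, 14, 3, 15, 3], false, 7),
  (225, 1, [33, 47, 11, 47, 11, 8, 20, 8, 14, 3, 15, 3], false, 7),
  (346, 0, [31, 8, 20, 8, 13, 3, 15, 3], false, 15),
  (665, 0, [31, 8, 20, 8, 13, 3, 15, 3], true, 15),
  (372, 0, [7, 19, 7, 47, 13, 3, 15, 3], true, 16),
  (717, 0, [7, 19, 7, 47, 13, 3, 15, 3], false, 16),
  (370, 0, [7, 19, 7, 47, 14, 3, 15, 3], true, 16),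
  (713, 0, [7, 19, 7, 47, 14, 3, 15, 3], false, 16),
  (255, 0, [8, 20, 8, 22, 15, 7, 19, 7], false, 22),
  (510, 0, [8, 20, 8, 22, 15, 7, 19, 7], true, 22),
  (373, 0, [31, 8, 20, 8, 13, 3, 15, 3], false, 23),
  (719, 0, [31, 8, 20, 8, 13, 3, 15, 3], true, 23),
  (433, 3, [32, 8, 44, 8, 5, 3, 15, 3], true, 41),
  (459, 3, [8, 8, 20, 8, 5, 3, 15, 3], false, 41),
  (546, 1, [8, 20, 8, 22, 1, 3, 39, 3], true, 43),
  (702, 1, [33, 8, 20, 8, 5, 3, 39, 3], true, 43),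
  (202, 1, [8, 20, 8, 46, 15, 7, 43, 7], false, 43),
  (492, 1, [8, 20, 8, 46, 34, 3, 15, 3], true, 44),
  (542, 1, [20, 8, 20, 8, 3, 3, 39, 3], true, 44),
  (622, 1, [8, 8, 44, 8, 3, 3, 39, 3], false, 44),
  (494, 1, [8, 20, 46, 34, 7, 3, 15, 3], true, 44),
  (573, 1, [32, 44, 46, 34, 7, 3, 15, 3], false, 44),
  (655, 1, [32, 44, 46, 34, 8, 3, 15, 3], false, 44),
  (548, 1, [8, 20, 46, 31, 10, 3, 15, 3], true, 44),
  (531, 1, [20, 8, 20, 8, 14, 3, 15, 3], true, 44),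
  (536, 1, [8, 20, 8, 22, 14, 3, 15, 3], true, 44),
  (539, 1, [8, 20, 8, 46, 14, 3, 15, 3], true, 44),
  (574, 1, [8, 20, 46, 34, 14, 3, 15, 3], true, 44),
  (614, 1, [33, 8, 20, 8, 14, 3, 15, 3], true, 44),
  (615, 1, [8, 11, 20, 22, 14, 3, 15, 3], true, 44),
  (619, 1, [8, 20, 46, 31, 14, 3, 15, 3], true, 44),
  (634, 1, [8, 20, 22, 34, 14, 3, 15, 3], true, 44),
  (656, 1, [32, 44, 46, 34, 14, 3, 15, 3], false, 44),
  (694, 1, [8, 8, 44, 8, 14, 3, 15, 3], false, 44),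
  (695, 1, [9, 8, 20, 8, 14, 3, 15, 3], true, 44),
  (328, 1, [32, 44, 10, 22, 10, 3, 15, 3], false, 48),
  (354, 1, [8, 20, 8, 22, 31, 3, 15, 3], true, 48),
  (408, 1, [8, 20, 10, 22, 10, 3, 15, 3], true, 48),
  (436, 1, [9, 8, 20, 8, 22, 3, 15, 3], true, 48),
  (327, 1, [32, 44, 46, 34, 3, 3, 39, 3], false, 48),
  (409, 1, [8, 20, 46, 34, 3, 3, 39, 3], true, 48),
  (246, 1, [8, 20, 8, 22, 10, 3, 15, 3], true, 48),
  (290, 1, [20, 8, 20, 8, 14, 3, 15, 3], true, 48)]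

def entries30 : List (ℕ × ℕ × List ℕ × Bool × ℕ) := [
  (292, 1, [8, 20, 8, 22, 14, 3, 15, 3], true, 48),
  (295, 1, [8, 20, 8, 46, 14, 3, 15, 3], true, 48),
  (370, 1, [33, 8, 20, 8, 14, 3, 15, 3], true, 48),
  (390, 1, [8, 20, 22, 34, 14, 3, 15, 3], true, 48),
  (450, 1, [8, 8, 44, 8, 14, 3, 15, 3], false, 48),
  (451, 1, [9, 8, 20, 8, 14, 3, 15, 3], true, 48),
  (159, 1, [8, 44, 8], true, 253),
  (80, 1, [8, 44, 8], true, 256),
  (154, 1, [7, 43, 7], true, 260),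
  (74, 1, [7, 43, 7], true, 261),
  (684, 1, [7, 43, 7], true, 270),
  (524, 1, [7, 43, 7], true, 271),
  (183, 1, [10, 22, 10], false, 278),
  (103, 1, [10, 22, 10], false, 279),
  (487, 2, [31, 9], false, 351),
  (244, 2, [7, 33], false, 351),
  (515, 2, [31, 9], false, 352),
  (272, 2, [7, 33], false, 352),
  (702, 2, [31, 9], false, 353),
  (459, 2, [7, 33], false, 353),
  (299, 3, [9, 7], false, 354),
  (704, 1, [9, 40], false, 354),
  (42, 0, [7, 9, 21, 9], false, 138),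
  (700, 0, [10, 6, 42, 6], false, 138),
  (611, 0, [10, 6, 42, 6], false, 139),
  (728, 0, [10, 7, 43, 7], false, 139),
  (689, 0, [10, 8, 44, 8], false, 139),
  (481, 0, [10, 6, 42, 6], false, 140),
  (364, 0, [10, 7, 43, 7], false, 140),
  (403, 0, [10, 8, 44, 8], false, 140),
  (75, 0, [7, 9, 21, 9], false, 141),
  (392, 0, [10, 6, 42, 6], false, 141),
  (638, 0, [10, 6, 42, 6], false, 156),
  (674, 0, [10, 7, 19, 7], false, 156),
  (716, 0, [10, 8, 44, 8], false, 156),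
  (726, 0, [10, 9, 21, 9], false, 156),
  (699, 0, [11, 6, 42, 6], false, 156),
  (98, 0, [11, 7, 19, 7], false, 156),
  (673, 0, [10, 6, 42, 6], false, 157),
  (338, 0, [10, 6, 42, 6], false, 158),
  (454, 0, [11, 6, 42, 6], false, 158),
  (337, 0, [11, 7, 19, 7], false, 158),
  (376, 0, [11, 8, 44, 8], false, 158),
  (363, 0, [11, 9, 21, 9], false, 158),
  (390, 0, [11, 6, 42, 6], false, 159)]

def entries31 : List (ℕ × ℕ × List ℕ × Bool × ℕ) := [
  (184, 0, [11, 7, 19, 7], false, 159),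
  (642, 0, [10, 7, 43, 7], false, 160),
  (590, 0, [10, 9, 45, 9], false, 160),
  (185, 0, [11, 7, 19, 7], false, 160),
  (688, 0, [11, 7, 43, 7], false, 160),
  (447, 0, [10, 7, 43, 7], false, 161),
  (421, 0, [10, 9, 45, 9], false, 161),
  (97, 0, [11, 7, 19, 7], false, 161),
  (404, 0, [11, 7, 43, 7], false, 161),
  (727, 0, [10, 6, 42, 6], false, 172),
  (350, 0, [10, 7, 19, 7], false, 172),
  (609, 0, [10, 7, 43, 7], false, 172),
  (636, 0, [10, 9, 21, 9], false, 172),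
  (701, 0, [11, 6, 42, 6], false, 172),
  (584, 0, [11, 7, 19, 7], false, 172),
  (402, 0, [11, 9, 21, 9], false, 172),
  (583, 0, [11, 9, 45, 9], false, 172),
  (662, 0, [10, 8, 44, 8], false, 173),
  (240, 0, [10, 9, 21, 9], false, 173),
  (188, 0, [11, 7, 19, 7], false, 173),
  (714, 0, [11, 8, 44, 8], false, 173),
  (427, 0, [10, 6, 42, 6], false, 174),
  (349, 0, [10, 8, 44, 8], false, 174),
  (120, 0, [10, 9, 21, 9], false, 174),
  (453, 0, [11, 6, 42, 6], false, 174),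
  (94, 0, [11, 7, 19, 7], false, 174),
  (375, 0, [11, 8, 44, 8], false, 174),
  (365, 0, [10, 6, 42, 6], false, 175),
  (661, 0, [10, 7, 19, 7], false, 175),
  (480, 0, [10, 7, 43, 7], false, 175),
  (391, 0, [11, 6, 42, 6], false, 175),
  (687, 0, [11, 9, 21, 9], false, 175),
  (428, 0, [11, 9, 45, 9], false, 175),
  (442, 1, [9, 7, 43, 7], true, 182),
  (279, 1, [9, 7, 43, 7], true, 183),
  (122, 0, [18], false, 389),
  (241, 0, [18], true, 389),
  (124, 0, [18], false, 390),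
  (239, 0, [18], true, 390),
  (284, 0, [45], false, 397),
  (565, 0, [45], true, 397),
  (121, 0, [18], false, 420),
  (242, 0, [18], true, 420),
  (123, 0, [18], false, 421),
  (237, 0, [18], true, 421)]

def entries32 : List (ℕ × ℕ × List ℕ × Bool × ℕ) := [
  (95, 0, [18], false, 441),
  (187, 0, [18], true, 441),
  (24, 1, [20], false, 463),
  (15, 1, [44], false, 463),
  (75, 1, [19], false, 464),
  (94, 1, [20], false, 465),
  (120, 1, [19], false, 466),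
  (124, 1, [19], false, 467),
  (174, 1, [20], false, 468),
  (287, 1, [19], false, 470),
  (456, 1, [20], false, 470),
  (366, 1, [44], false, 470),
  (269, 1, [20], false, 471),
  (422, 1, [44], false, 471),
  (367, 1, [19], false, 472),
  (296, 1, [20], false, 472),
  (348, 1, [20], false, 473),
  (258, 1, [44], false, 473),
  (526, 1, [19], false, 474),
  (606, 1, [20], false, 474),
  (696, 1, [44], false, 474),
  (688, 1, [20], false, 475),
  (642, 1, [19], false, 476),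
  (716, 1, [20], false, 476),
  (563, 1, [44], false, 476),
  (627, 1, [46], false, 476),
  (78, 1, [19], false, 478),
  (93, 1, [20], false, 479),
  (102, 1, [44], false, 479),
  (153, 1, [19], false, 480),
  (175, 1, [20], false, 482),
  (184, 1, [44], false, 482),
  (234, 1, [19], false, 483),
  (238, 1, [19], false, 484),
  (400, 1, [19], false, 488),
  (311, 1, [20], false, 488),
  (482, 1, [44], false, 488),
  (529, 1, [19], false, 490),
  (618, 1, [20], false, 490),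
  (690, 1, [44], false, 490),
  (604, 1, [19], false, 491),
  (530, 1, [44], false, 492),
  (685, 1, [19], false, 493),
  (26, 1, [20], false, 495),
  (17, 1, [44], false, 495)]

def entries33 : List (ℕ × ℕ × List ℕ × Bool × ℕ) := [
  (105, 1, [20], false, 497),
  (96, 1, [44], false, 497),
  (187, 1, [20], false, 498),
  (178, 1, [44], false, 498),
  (12, 1, [20], false, 499),
  (21, 1, [44], false, 499),
  (372, 1, [6], false, 502),
  (454, 1, [6], false, 505),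
  (188, 1, [34], false, 506),
  (292, 0, [45], false, 536),
  (557, 0, [45], true, 536),
  (377, 0, [43], false, 576),
  (715, 0, [43], true, 576),
  (448, 0, [44], false, 576),
  (644, 0, [44], true, 576),
  (476, 0, [44], false, 577),
  (616, 0, [44], true, 577),
  (455, 0, [18], false, 578),
  (637, 0, [18], true, 578),
  (422, 0, [44], false, 610),
  (589, 0, [44], true, 610),
  (482, 0, [18], false, 613),
  (610, 0, [18], true, 613),
  (474, 0, [43], false, 613),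
  (615, 0, [43], true, 613),
  (93, 0, [18], false, 634),
  (186, 0, [18], true, 634),
  (449, 0, [44], false, 636),
  (643, 0, [44], true, 636),
  (475, 0, [44], false, 637),
  (617, 0, [44], true, 637),
  (493, 1, [6], false, 664),
  (25, 1, [20], false, 664),
  (16, 1, [44], false, 664),
  (106, 1, [20], false, 665),
  (97, 1, [44], false, 665),
  (157, 1, [19], false, 666),
  (236, 1, [19], false, 667),
  (237, 1, [19], false, 668),
  (239, 1, [19], false, 669),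
  (429, 1, [20], false, 670),
  (339, 1, [44], false, 670),
  (321, 1, [19], false, 672),
  (484, 1, [20], false, 672),
  (314, 1, [43], false, 672)]

def entries34 : List (ℕ × ℕ × List ℕ × Bool × ℕ) := [
  (394, 1, [44], false, 672),
  (376, 1, [43], false, 673),
  (447, 1, [44], false, 673),
  (377, 1, [43], false, 674),
  (448, 1, [44], false, 674),
  (402, 1, [19], false, 675),
  (322, 1, [20], false, 675),
  (395, 1, [43], false, 675),
  (475, 1, [44], false, 675),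
  (607, 1, [20], false, 678),
  (534, 1, [43], false, 678),
  (562, 1, [19], false, 679),
  (633, 1, [20], false, 679),
  (554, 1, [43], false, 679),
  (723, 1, [44], false, 679),
  (661, 1, [20], false, 680),
  (508, 1, [44], false, 680),
  (689, 1, [20], false, 682),
  (616, 1, [43], false, 682),
  (498, 1, [20], false, 683),
  (588, 1, [44], false, 683),
  (629, 1, [6], false, 687),
  (161, 1, [19], false, 687),
  (179, 1, [44], false, 688),
  (709, 1, [6], false, 689),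
  (241, 1, [19], false, 689),
  (320, 1, [19], false, 691),
  (471, 1, [20], false, 691),
  (310, 1, [43], false, 691),
  (399, 1, [44], false, 691),
  (605, 1, [19], false, 693),
  (612, 1, [43], false, 693),
  (610, 1, [19], false, 694),
  (699, 1, [20], false, 694),
  (611, 1, [19], false, 695),
  (700, 1, [20], false, 695),
  (247, 1, [6], false, 698),
  (13, 1, [20], false, 698),
  (22, 1, [44], false, 698),
  (248, 1, [6], false, 699),
  (14, 1, [20], false, 699),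
  (23, 1, [44], false, 699),
  (373, 1, [6], false, 700),
  (718, 1, [6], false, 703),
  (555, 1, [9], false, 703)]

def entries35 : List (ℕ × ℕ × List ℕ × Bool × ℕ) := [
  (371, 1, [9], false, 704),
  (455, 1, [6], false, 706),
  (556, 1, [6], false, 709),
  (636, 1, [9], false, 709),
  (420, 0, [7, 8, 20, 8, 47, 15, 7, 19, 7], true, 18),
  (588, 0, [7, 8, 20, 8, 47, 15, 7, 19, 7], false, 18),
  (378, 3, [8, 11, 8, 20, 8, 5, 3, 15, 3], false, 41),
  (191, 4, [47, 9, 11, 47, 11, 2, 3, 15, 3], false, 42),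
  (218, 4, [11, 47, 11, 33, 47, 7, 3, 15, 3], false, 42),
  (353, 4, [11, 47, 11, 9, 47, 7, 3, 15, 3], false, 42),
  (594, 3, [8, 11, 8, 20, 8, 7, 3, 39, 3], false, 43),
  (504, 2, [7, 8, 20, 8, 22, 15, 8, 20, 8], true, 68),
  (524, 2, [7, 8, 20, 8, 23, 15, 8, 20, 8], true, 68),
  (487, 3, [9, 7, 8, 44, 8], true, 188),
  (675, 3, [9, 7, 8, 44, 8], true, 189),
  (704, 3, [9, 7, 8, 44, 8], true, 190),
  (542, 3, [9, 7, 8, 44, 8], true, 195),
  (443, 1, [9, 7, 43, 7], true, 251),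
  (726, 1, [6, 8, 44, 8], true, 253),
  (446, 1, [9, 7, 43, 7], true, 253),
  (361, 1, [9, 7, 43, 7], true, 254),
  (473, 1, [6, 8, 44, 8], true, 255),
  (647, 1, [6, 8, 44, 8], true, 256),
  (282, 1, [9, 7, 43, 7], true, 256),
  (485, 1, [9, 8, 44, 8], true, 256),
  (641, 1, [9, 7, 43, 7], true, 260),
  (558, 1, [9, 7, 43, 7], true, 261),
  (360, 1, [9, 7, 43, 7], true, 272),
  (280, 1, [9, 7, 43, 7], true, 273),
  (441, 1, [9, 7, 43, 7], true, 277),
  (315, 1, [9, 8, 44, 8], true, 278),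
  (264, 1, [9, 10, 22, 10], false, 278),
  (478, 1, [9, 8, 44, 8], true, 279),
  (427, 1, [9, 10, 22, 10], false, 279),
  (635, 1, [8, 44, 8], true, 344),
  (621, 2, [31, 9], false, 485),
  (378, 2, [7, 33], false, 485),
  (351, 3, [9, 7], false, 486),
  (380, 3, [9, 7], false, 487),
  (109, 4, [9, 32, 3, 15, 3], false, 224),
  (703, 4, [8, 11, 3, 15, 3], false, 224),
  (578, 3, [9, 7, 8, 44, 8], true, 230),
  (549, 3, [9, 7, 8, 44, 8], true, 231),
  (288, 3, [9, 7, 8, 44, 8], true, 236),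
  (424, 3, [9, 7, 8, 44, 8], true, 237)]

def entries36 : List (ℕ × ℕ × List ℕ × Bool × ℕ) := [
  (612, 3, [9, 7, 8, 44, 8], true, 246),
  (505, 3, [9, 7, 8, 44, 8], true, 247),
  (281, 1, [19], false, 751),
  (432, 3, [9, 7], false, 690),
  (549, 1, [8, 20, 46, 10, 46, 10, 14, 3, 15, 3], true, 44),
  (552, 1, [8, 20, 22, 10, 46, 10, 14, 3, 15, 3], true, 44),
  (557, 1, [8, 20, 8, 10, 46, 10, 14, 3, 15, 3], true, 44),
  (631, 1, [32, 44, 46, 10, 46, 10, 14, 3, 15, 3], false, 44),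
  (712, 1, [47, 33, 11, 47, 11, 20, 14, 3, 15, 3], false, 44),
  (714, 1, [20, 8, 20, 8, 22, 34, 14, 3, 15, 3], true, 44),
  (715, 1, [33, 8, 20, 8, 22, 34, 14, 3, 15, 3], true, 44),
  (623, 3, [47, 11, 47, 11, 20, 32, 5, 3, 15, 3], true, 45),
  (308, 1, [8, 20, 46, 10, 46, 10, 14, 3, 15, 3], true, 48),
  (313, 1, [8, 20, 8, 10, 46, 10, 14, 3, 15, 3], true, 48),
  (387, 1, [32, 44, 46, 10, 46, 10, 14, 3, 15, 3], false, 48),
  (392, 1, [9, 8, 20, 8, 22, 34, 14, 3, 15, 3], true, 48),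
  (468, 1, [47, 33, 11, 47, 11, 20, 14, 3, 15, 3], false, 48),
  (472, 1, [8, 20, 22, 10, 22, 10, 14, 3, 15, 3], true, 48),
  (474, 1, [8, 11, 20, 10, 46, 10, 14, 3, 15, 3], true, 48),
  (513, 3, [9, 7, 8, 44, 8], true, 275),
  (728, 1, [6, 8, 44, 8], true, 333),
  (444, 1, [9, 7, 43, 7], true, 333),
  (323, 1, [9, 8, 44, 8], true, 333),
  (672, 1, [6, 8, 44, 8], true, 334),
  (362, 1, [9, 7, 43, 7], true, 335),
  (564, 1, [6, 8, 44, 8], true, 337),
  (365, 1, [9, 7, 43, 7], true, 337),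
  (566, 1, [9, 7, 43, 7], true, 338),
  (512, 1, [6, 8, 44, 8], true, 339),
  (284, 1, [2, 7, 43, 7], true, 341),
  (483, 1, [2, 8, 44, 8], true, 341),
  (363, 1, [11, 7, 43, 7], true, 341),
  (404, 1, [11, 8, 44, 8], true, 341),
  (283, 1, [4, 7, 43, 7], true, 342),
  (480, 1, [10, 7, 43, 7], true, 342),
  (445, 1, [11, 7, 43, 7], true, 342),
  (500, 1, [10, 8, 44, 8], true, 343),
  (662, 1, [10, 8, 44, 8], true, 344),
  (640, 1, [9, 7, 43, 7], true, 345),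
  (646, 1, [9, 7, 43, 7], true, 346),
  (561, 1, [6, 7, 43, 7], true, 349),
  (722, 1, [9, 7, 43, 7], true, 350),
  (645, 1, [2, 8, 44, 8], true, 356),
  (724, 1, [10, 7, 43, 7], true, 356),
  (725, 1, [10, 7, 43, 7], true, 358)]

def entries37 : List (ℕ × ℕ × List ℕ × Bool × ℕ) := [
  (727, 1, [11, 8, 44, 8], true, 358),
  (257, 1, [6, 8, 44, 8], true, 364),
  (338, 1, [6, 8, 44, 8], true, 365),
  (309, 1, [6, 8, 44, 8], true, 368),
  (317, 1, [9, 8, 44, 8], true, 370),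
  (345, 1, [9, 10, 22, 10], false, 370),
  (318, 1, [9, 10, 22, 10], false, 371),
  (396, 1, [9, 8, 44, 8], true, 373),
  (266, 1, [9, 10, 22, 10], false, 373),
  (319, 1, [6, 10, 46, 10], false, 374),
  (401, 1, [9, 10, 46, 10], false, 374),
  (719, 1, [6, 8, 44, 8], true, 375),
  (397, 1, [9, 10, 46, 10], false, 375),
  (430, 1, [20], false, 967),
  (340, 1, [44], false, 967),
  (431, 1, [20], false, 968),
  (341, 1, [44], false, 968),
  (393, 1, [44], false, 969),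
  (268, 1, [20], false, 970),
  (421, 1, [44], false, 970),
  (349, 1, [20], false, 971),
  (259, 1, [44], false, 971),
  (579, 1, [20], false, 973),
  (669, 1, [44], false, 973),
  (644, 1, [19], false, 975),
  (590, 1, [44], false, 976),
  (553, 1, [20], false, 978),
  (643, 1, [44], false, 978),
  (481, 1, [44], false, 983),
  (391, 1, [20], false, 986),
  (717, 1, [6], false, 990),
  (638, 1, [6], false, 997),
  (267, 1, [8, 44, 8], true, 471),
  (350, 1, [8, 44, 8], true, 473),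
  (560, 1, [19], false, 1005),
  (639, 1, [19], false, 1006),
  (551, 1, [8, 20, 8, 46, 10, 46, 10, 14, 3, 15, 3], true, 44),
  (632, 1, [47, 11, 47, 11, 8, 20, 8, 14, 3, 15, 3], false, 44),
  (637, 1, [9, 8, 20, 8, 10, 46, 10, 14, 3, 15, 3], true, 44),
  (307, 1, [8, 20, 8, 46, 10, 46, 10, 14, 3, 15, 3], true, 48),
  (312, 1, [20, 8, 20, 8, 10, 46, 10, 14, 3, 15, 3], true, 48),
  (388, 1, [47, 11, 47, 11, 8, 20, 8, 14, 3, 15, 3], false, 48),
  (476, 1, [33, 8, 20, 8, 10, 46, 10, 14, 3, 15, 3], true, 48),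
  (364, 1, [7, 43, 7], true, 674),
  (403, 1, [8, 44, 8], true, 674)]

def entries38 : List (ℕ × ℕ × List ℕ × Bool × ℕ) := [
  (660, 1, [8, 44, 8], true, 680),
  (499, 1, [8, 44, 8], true, 683),
  (565, 1, [8, 44, 8], true, 695),
  (580, 1, [20], false, 1125),
  (670, 1, [44], false, 1125),
  (581, 1, [20], false, 1126),
  (671, 1, [44], false, 1126),
  (507, 1, [44], false, 1127),
  (589, 1, [44], false, 1128),
  (398, 1, [19], false, 1130),
  (593, 1, [6, 8, 44, 8], true, 463),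
  (255, 1, [6, 8, 44, 8], true, 465),
  (337, 1, [6, 8, 44, 8], true, 468),
  (256, 1, [6, 8, 44, 8], true, 479),
  (559, 1, [9, 7, 43, 7], true, 480),
  (336, 1, [6, 8, 44, 8], true, 482),
  (721, 1, [9, 7, 43, 7], true, 483),
  (591, 1, [6, 8, 44, 8], true, 495),
  (674, 1, [6, 8, 44, 8], true, 497),
  (511, 1, [6, 8, 44, 8], true, 498),
  (418, 1, [6, 8, 44, 8], true, 499),
  (316, 1, [9, 8, 44, 8], true, 501),
  (426, 1, [9, 10, 22, 10], false, 501),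
  (347, 1, [9, 10, 22, 10], false, 504),
  (479, 1, [9, 8, 44, 8], true, 508),
  (346, 1, [9, 10, 22, 10], false, 508),
  (477, 1, [9, 8, 44, 8], true, 509),
  (265, 1, [9, 10, 22, 10], false, 509),
  (503, 1, [44], false, 1173),
  (510, 1, [20], false, 1181),
  (582, 1, [44], false, 1181),
  (260, 1, [34], false, 1189),
  (509, 1, [44], false, 1197),
  (711, 1, [43], false, 1214),
  (470, 1, [43], false, 1216),
  (501, 1, [34], false, 1221),
  (673, 1, [34], false, 1223),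
  (583, 1, [34], false, 1228),
  (428, 1, [44], false, 1239),
  (469, 1, [43], false, 1258),
  (550, 1, [20, 8, 20, 8, 46, 10, 46, 10, 14, 3, 15, 3], true, 44),
  (630, 1, [8, 8, 44, 8, 46, 10, 46, 10, 14, 3, 15, 3], false, 44),
  (713, 1, [33, 47, 11, 47, 11, 8, 20, 8, 14, 3, 15, 3], false, 44),
  (306, 1, [20, 8, 20, 8, 46, 10, 46, 10, 14, 3, 15, 3], true, 48),
  (389, 1, [8, 8, 44, 8, 46, 10, 46, 10, 14, 3, 15, 3], false, 48)]

def entries39 : List (ℕ × ℕ × List ℕ × Bool × ℕ) := [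
  (592, 1, [6, 8, 44, 8], true, 664),
  (720, 1, [9, 7, 43, 7], true, 667),
  (417, 1, [6, 8, 44, 8], true, 698),
  (419, 1, [6, 8, 44, 8], true, 699),
  (420, 1, [44], false, 1300),
  (666, 2, [7, 8, 20, 8, 22, 15, 8, 20, 8], true, 124),
  (686, 2, [7, 8, 20, 8, 23, 15, 8, 20, 8], true, 124),
  (663, 1, [44], false, 1324),
  (665, 1, [44], false, 1327),
  (502, 1, [44], false, 1334),
  (584, 1, [44], false, 1339),
  (664, 1, [34], false, 1477),
  (128, 2, [8, 20, 8, 47, 15, 8, 20, 8], false, 278),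
  (585, 2, [7, 8, 20, 8, 22, 15, 8, 20, 8], true, 247),
  (605, 2, [7, 8, 20, 8, 23, 15, 8, 20, 8], true, 247),
  (694, 2, [4], false, 1586),
  (641, 2, [28], false, 1586),
  (711, 2, [4], false, 1587),
  (577, 2, [28], false, 1587),
  (36, 3, [8, 20, 8, 23, 15, 8, 20, 8], false, 370),
  (47, 2, [8, 20, 8, 47, 15, 8, 20, 8], false, 373),
  (252, 1, [7, 8, 20, 8, 47, 15, 8, 20, 8], true, 289),
  (506, 1, [7, 8, 20, 8, 47, 15, 8, 20, 8], false, 297),
  (316, 2, [31, 9], false, 1586),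
  (290, 2, [7, 33], false, 1586),
  (550, 2, [31, 9], false, 1587),
  (252, 2, [7, 33], false, 1587),
  (198, 3, [8, 20, 8, 23, 15, 8, 20, 8], false, 504),
  (117, 3, [8, 20, 8, 23, 15, 8, 20, 8], false, 508),
  (209, 2, [8, 20, 8, 47, 15, 8, 20, 8], false, 509),
  (631, 2, [8, 44, 8], true, 1587),
  (119, 2, [8, 20, 8, 23, 15, 8, 20, 8], false, 931),
  (722, 2, [4, 8, 44, 8], true, 1586),
  (684, 2, [4, 8, 44, 8], true, 1587),
  (712, 2, [11, 8, 44, 8], true, 1587),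
  (613, 2, [4], false, 1760),
  (560, 2, [28], false, 1760),
  (630, 2, [4], false, 1761),
  (496, 2, [28], false, 1761),
  (208, 3, [8, 20, 8, 23, 15, 8, 20, 8], true, 991),
  (46, 3, [8, 20, 8, 23, 15, 8, 20, 8], true, 993),
  (72, 2, [4], false, 1767),
  (181, 2, [28], false, 1767),
  (423, 1, [7, 8, 20, 8, 23, 15, 8, 20, 8], false, 770),
  (659, 1, [7, 8, 20, 8, 23, 15, 8, 20, 8], true, 773)]

def entries40 : List (ℕ × ℕ × List ℕ × Bool × ℕ) := [
  (414, 2, [7, 8, 20, 8, 47, 15, 8, 20, 8], false, 779),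
  (478, 2, [7, 8, 20, 8, 46, 15, 8, 20, 8], false, 779),
  (45, 3, [8, 20, 8, 47, 15, 8, 20, 8], false, 1066),
  (38, 2, [8, 20, 8, 23, 15, 8, 20, 8], false, 1069),
  (199, 3, [8, 20, 8, 47, 15, 8, 20, 8], true, 1073),
  (200, 2, [8, 20, 8, 23, 15, 8, 20, 8], false, 1077),
  (452, 2, [31, 9, 8, 44, 8], true, 1586),
  (532, 2, [4], false, 1768),
  (549, 2, [4], false, 1769),
  (658, 2, [28], false, 1769),
  (198, 2, [8, 20, 8, 47, 15, 8, 20, 8], true, 1131),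
  (36, 2, [8, 20, 8, 47, 15, 8, 20, 8], true, 1133),
  (423, 2, [7, 8, 20, 8, 23, 15, 8, 20, 8], true, 1028),
  (657, 2, [31, 8, 20, 8, 47, 15, 8, 20, 8], true, 1074),
  (207, 3, [8, 20, 8, 47, 15, 8, 20, 8], false, 1176),
  (126, 3, [8, 20, 8, 47, 15, 8, 20, 8], false, 1184),
  (207, 2, [8, 20, 8, 23, 15, 8, 20, 8], true, 1204),
  (342, 2, [31, 9], false, 1767),
  (154, 2, [7, 33], false, 1767),
  (146, 3, [4], false, 1774),
  (172, 3, [28], false, 1774),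
  (234, 2, [4], false, 1775),
  (100, 2, [28], false, 1775),
  (414, 1, [7, 8, 20, 8, 47, 15, 8, 20, 8], true, 1093),
  (333, 1, [7, 8, 20, 8, 47, 15, 8, 20, 8], true, 1094),
  (587, 1, [7, 8, 20, 8, 47, 15, 8, 20, 8], false, 1098),
  (668, 1, [7, 8, 20, 8, 47, 15, 8, 20, 8], false, 1102),
  (397, 2, [31, 9], false, 1768),
  (371, 2, [7, 33], false, 1768),
  (333, 2, [7, 33], false, 1769),
  (425, 2, [31, 9], false, 1770),
  (477, 2, [7, 33], false, 1770),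
  (369, 2, [31, 9], false, 1771),
  (343, 2, [7, 33], false, 1771),
  (659, 2, [31, 9], false, 1772),
  (442, 2, [7, 33], false, 1772),
  (603, 2, [31, 9], false, 1773),
  (389, 2, [7, 33], false, 1773),
  (253, 1, [4], false, 1776),
  (254, 1, [9], false, 1776),
  (504, 1, [4], false, 1777),
  (505, 1, [28], false, 1777),
  (127, 3, [8, 20, 8, 23, 15, 8, 20, 8], true, 1305),
  (117, 2, [8, 20, 8, 47, 15, 8, 20, 8], true, 1308),
  (388, 3, [7, 8, 20, 8, 47, 15, 8, 20, 8], true, 1219)]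

def entries41 : List (ℕ × ℕ × List ℕ × Bool × ℕ) := [
  (495, 2, [31, 8, 20, 8, 47, 15, 8, 20, 8], true, 1225),
  (261, 2, [7, 8, 20, 8, 23, 15, 8, 20, 8], true, 1253),
  (118, 3, [8, 20, 8, 47, 15, 8, 20, 8], true, 1359),
  (45, 2, [8, 20, 8, 23, 15, 8, 20, 8], true, 1469),
  (126, 2, [8, 20, 8, 23, 15, 8, 20, 8], true, 1472),
  (11, 3, [9, 7], false, 1774),
  (73, 2, [7, 33], false, 1775),
  (65, 3, [4], false, 1782),
  (91, 3, [28], false, 1782),
  (227, 3, [4], false, 1783),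
  (10, 3, [28], false, 1783),
  (153, 2, [4], false, 1784),
  (19, 2, [28], false, 1784),
  (261, 1, [7, 8, 20, 8, 23, 15, 8, 20, 8], false, 1294),
  (497, 1, [7, 8, 20, 8, 23, 15, 8, 20, 8], true, 1296),
  (497, 2, [8, 44, 8], true, 1773),
  (235, 2, [31, 8, 20, 8, 11, 23, 11, 15, 8, 20, 8], true, 1007),
  (469, 3, [7, 8, 20, 8, 47, 15, 8, 20, 8], true, 1335),
  (307, 3, [7, 8, 20, 8, 47, 15, 8, 20, 8], true, 1341),
  (576, 2, [31, 8, 20, 8, 47, 15, 8, 20, 8], true, 1360),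
  (37, 3, [8, 20, 8, 47, 15, 8, 20, 8], true, 1522),
  (225, 3, [8, 44, 8], true, 1774),
  (173, 3, [9, 7], false, 1782),
  (92, 3, [9, 7], false, 1783),
  (522, 2, [4, 8, 44, 8], true, 1769),
  (578, 2, [10, 8, 44, 8], true, 1773),
  (586, 1, [8, 44, 8], true, 1777),
  (666, 1, [10, 22, 10], false, 1777),
  (63, 2, [4], false, 1786),
  (172, 2, [28], false, 1786),
  (101, 3, [7, 8, 20, 8, 11, 23, 11, 15, 8, 20, 8], true, 1218),
  (416, 3, [7, 8, 20, 8, 46, 15, 8, 20, 8], true, 1587),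
  (559, 3, [31, 8, 20, 8, 23, 15, 8, 20, 8], true, 1592),
  (414, 3, [31, 8, 20, 8, 23, 15, 8, 20, 8], false, 1601),
  (63, 3, [2, 8, 44, 8], true, 1774),
  (144, 3, [5, 8, 44, 8], true, 1774),
  (72, 3, [4], false, 1794),
  (153, 3, [4], false, 1795),
  (182, 3, [28], false, 1795),
  (342, 1, [7, 8, 20, 8, 23, 15, 8, 20, 8], false, 1617),
  (578, 1, [7, 8, 20, 8, 23, 15, 8, 20, 8], true, 1619),
  (640, 3, [31, 8, 20, 8, 23, 15, 8, 20, 8], true, 1622),
  (335, 1, [2, 7, 43, 7], true, 1776),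
  (416, 1, [4, 8, 44, 8], true, 1776),
  (415, 1, [9, 8, 44, 8], true, 1776)]

def entries42 : List (ℕ × ℕ × List ℕ × Bool × ℕ) := [
  (676, 2, [7, 19, 7, 40], false, 1777),
  (585, 1, [2, 7, 43, 7], true, 1777),
  (667, 1, [2, 10, 22, 10], false, 1777),
  (262, 2, [4, 8, 44, 8], true, 1778),
  (288, 2, [4, 8, 44, 8], true, 1779),
  (308, 2, [4, 8, 44, 8], true, 1781),
  (145, 2, [31, 9], false, 1786),
  (450, 2, [31, 9], false, 1787),
  (424, 2, [7, 33], false, 1787),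
  (470, 2, [31, 9], false, 1788),
  (344, 2, [31, 9], false, 1790),
  (396, 2, [7, 33], false, 1790),
  (361, 2, [7, 33], false, 1792),
  (424, 1, [4], false, 1798),
  (425, 1, [19], false, 1798),
  (657, 1, [4], false, 1799),
  (658, 1, [9], false, 1799),
  (155, 3, [4], false, 1802),
  (181, 3, [28], false, 1802),
  (225, 2, [4], false, 1803),
  (91, 2, [28], false, 1803),
  (144, 2, [4], false, 1805),
  (10, 2, [28], false, 1805),
  (226, 2, [7, 8, 20, 8, 11, 23, 11, 15, 8, 20, 8], false, 1428),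
  (20, 3, [7, 8, 20, 8, 11, 23, 11, 15, 8, 20, 8], true, 1482),
  (585, 3, [7, 8, 20, 8, 47, 15, 8, 20, 8], false, 1634),
  (504, 3, [7, 8, 20, 8, 47, 15, 8, 20, 8], false, 1636),
  (721, 3, [31, 8, 20, 8, 23, 15, 8, 20, 8], true, 1644),
  (317, 2, [31, 8, 20, 8, 47, 15, 8, 20, 8], false, 1669),
  (236, 3, [9, 7], false, 1794),
  (74, 3, [9, 7], false, 1795),
  (11, 2, [28], false, 1810),
  (92, 2, [28], false, 1811),
  (333, 3, [31, 8, 20, 8, 23, 15, 8, 20, 8], false, 1700),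
  (289, 2, [31, 9], false, 1796),
  (20, 2, [7, 33], false, 1796),
  (479, 2, [31, 9], false, 1797),
  (64, 2, [31, 9], false, 1803),
  (370, 2, [4], false, 1812),
  (604, 2, [4], false, 1813),
  (551, 2, [28], false, 1813),
  (100, 3, [28], false, 1814),
  (19, 3, [28], false, 1815),
  (263, 2, [31, 9], false, 1807),
  (315, 2, [7, 33], false, 1807)]

def entries43 : List (ℕ × ℕ × List ℕ × Bool × ℕ) := [
  (280, 2, [7, 33], false, 1808),
  (334, 1, [4], false, 1824),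
  (713, 2, [7, 8, 20, 8, 23, 15, 8, 20, 8], false, 1702),
  (398, 2, [31, 8, 20, 8, 47, 15, 8, 20, 8], false, 1734),
  (234, 3, [4], false, 1842),
  (173, 2, [28], false, 1843),
  (243, 2, [7, 19, 7, 4, 16, 4], false, 1776),
  (344, 1, [7, 43, 7], true, 1798),
  (262, 1, [10, 22, 10], false, 1798),
  (576, 1, [7, 43, 7], true, 1799),
  (496, 1, [8, 44, 8], true, 1799),
  (451, 2, [31, 9], false, 1821),
  (182, 2, [7, 33], false, 1821),
  (281, 3, [28], false, 1844),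
  (685, 2, [4], false, 1845),
  (632, 2, [28], false, 1845),
  (101, 2, [28], false, 1848),
  (263, 1, [19], false, 1858),
  (495, 1, [4], false, 1859),
  (666, 3, [7, 8, 20, 8, 47, 15, 8, 20, 8], false, 1753),
  (252, 3, [31, 8, 20, 8, 23, 15, 8, 20, 8], false, 1756),
  (335, 3, [7, 8, 20, 8, 46, 15, 8, 20, 8], true, 1761),
  (405, 2, [7, 19, 7, 3, 4, 16, 4], false, 1776),
  (380, 2, [7, 19, 7, 4, 4, 40, 4], true, 1776),
  (486, 2, [7, 19, 7, 4, 4, 16, 4], true, 1777),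
  (343, 1, [4, 10, 22, 10], false, 1798),
  (434, 3, [7, 19, 7, 40], true, 1799),
  (577, 1, [4, 7, 43, 7], true, 1799),
  (362, 3, [28], false, 1862),
  (443, 3, [28], false, 1863),
  (523, 2, [4], false, 1864),
  (254, 3, [7, 8, 20, 8, 46, 15, 8, 20, 8], true, 1769),
  (280, 3, [7, 8, 20, 8, 47, 15, 8, 20, 8], true, 1771),
  (533, 3, [9, 7, 8, 44, 8], true, 1802),
  (387, 3, [28], false, 1876),
  (695, 3, [28], false, 1877),
  (514, 2, [7, 19, 7, 40], false, 1825),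
  (595, 2, [7, 19, 7, 40], false, 1826),
  (433, 2, [7, 19, 7, 40], true, 1839),
  (623, 2, [7, 19, 7, 16], true, 1841),
  (712, 3, [7, 8, 20, 8, 22, 15, 8, 20, 8], false, 1781),
  (614, 3, [9, 7, 8, 44, 8], true, 1815),
  (567, 3, [7, 19, 7, 4, 16, 4], true, 1798),
  (353, 3, [7, 19, 7, 40], true, 1859),
  (648, 3, [7, 19, 7, 3, 4, 16, 4], true, 1798)]

def entries44 : List (ℕ × ℕ × List ℕ × Bool × ℕ) := [
  (622, 3, [7, 19, 7, 4, 4, 40, 4], false, 1798),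
  (486, 3, [7, 19, 7, 11, 4, 16, 4], true, 1798),
  (703, 3, [8, 20, 8, 14, 10, 22, 10], false, 1798),
  (596, 3, [7, 19, 7, 15, 8, 20, 8], false, 1798),
  (405, 3, [7, 19, 7, 4, 4, 16, 4], false, 1799),
  (298, 3, [7, 19, 7, 8, 4, 40, 4], true, 1799),
  (272, 3, [7, 19, 7, 15, 8, 20, 8], true, 1799),
  (253, 3, [8, 44, 8], true, 1876),
  (324, 2, [7, 19, 7, 4, 16, 4], false, 1824),
  (542, 2, [7, 19, 7, 16], true, 1871),
  (704, 2, [8, 44, 8], true, 1890),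
  (441, 3, [7, 8, 20, 8, 10, 22, 10, 15, 8, 20, 8], false, 1780),
  (361, 3, [7, 8, 20, 8, 47, 15, 8, 20, 8], true, 1787),
  (442, 3, [7, 8, 20, 8, 47, 15, 8, 20, 8], true, 1791),
  (334, 3, [2, 8, 44, 8], true, 1876),
  (470, 3, [4, 8, 44, 8], true, 1876),
  (415, 3, [5, 8, 44, 8], true, 1876),
  (306, 3, [28], false, 1956),
  (461, 2, [7, 19, 7, 4, 4, 40, 4], true, 1823),
  (299, 2, [7, 19, 7, 4, 4, 40, 4], true, 1824),
  (648, 2, [7, 19, 7, 4, 4, 16, 4], true, 1825),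
  (567, 2, [7, 19, 7, 4, 4, 16, 4], true, 1826),
  (352, 2, [7, 19, 7, 40], true, 1887),
  (271, 2, [7, 19, 7, 40], true, 1888),
  (541, 3, [7, 19, 7, 16], true, 1903),
  (515, 3, [7, 19, 7, 40], false, 1904),
  (379, 3, [7, 19, 7, 16], false, 1906),
  (324, 3, [28], false, 1961),
  (360, 3, [7, 8, 20, 8, 10, 22, 10, 15, 8, 20, 8], false, 1785),
  (550, 3, [7, 8, 20, 8, 22, 15, 8, 20, 8], false, 1800),
  (686, 3, [9, 7, 8, 44, 8], true, 1876),
  (631, 3, [9, 7], false, 1956),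
  (243, 3, [7, 19, 7, 4, 4, 16, 4], false, 1859),
  (460, 3, [7, 19, 7, 9, 4, 40, 4], true, 1859),
  (468, 3, [28], false, 1966),
  (279, 3, [7, 8, 20, 8, 10, 22, 10, 15, 8, 20, 8], false, 1789),
  (495, 3, [7, 8, 20, 8, 23, 15, 8, 20, 8], false, 1832),
  (677, 3, [7, 19, 7, 40], false, 1942),
  (605, 3, [9, 7], false, 1969),
  (308, 3, [8, 20, 8, 3, 8, 20, 8], true, 1876),
  (389, 3, [4, 8, 44, 8], true, 1956),
  (576, 3, [7, 8, 20, 8, 23, 15, 8, 20, 8], false, 1894),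
  (657, 3, [7, 8, 20, 8, 23, 15, 8, 20, 8], false, 1897),
  (524, 3, [9, 7, 8, 44, 8], true, 1966)]

def entries : List (List (ℕ × ℕ × List ℕ × Bool × ℕ)) := [entries0, entries1, entries2, entries3, entries4, entries5, entries6, entries7, entries8, entries9, entries10, entries11, entries12, entries13, entries14, entries15, entries16, entries17, entries18, entries19, entries20, entries21, entries22, entries23, entries24, entries25, entries26, entries27, entries28, entries29, entries30, entries31, entries32, entries33, entries34, entries35, entries36, entries37, entries38, entries39, entries40, entries41, entries42, entries43, entries44]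

def codeIdx0_0 : List ℕ := [
  0,
  79,
  80,
  402,
  307,
  308,
  403,
  309,
  310,
  513,
  379,
  381,
  719,
  1161,
  1165,
  720,
  1167,
  1163,
  514,
  382,
  380,
  721,
  1164,
  1168,
  722,
  1166,
  1162]

def codeIdx0_1 : List ℕ := [
  400,
  83,
  81,
  593,
  327,
  323,
  594,
  114,
  106,
  1041,
  385,
  383,
  1286,
  1055,
  1047,
  1373,
  575,
  559,
  956,
  331,
  325,
  1107,
  458,
  436,
  1108,
  459,
  437]

def codeIdx0_2 : List ℕ := [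
  401,
  82,
  84,
  595,
  107,
  115,
  596,
  324,
  328,
  957,
  326,
  332,
  1109,
  438,
  460,
  1110,
  439,
  461,
  1042,
  384,
  386,
  1381,
  560,
  576,
  1287,
  1048,
  1056]

def codeIdx0_3 : List ℕ := [
  77,
  311,
  93,
  635,
  450,
  442,
  609,
  430,
  420,
  377,
  517,
  511,
  1511,
  1421,
  1441,
  1264,
  1403,
  1388,
  321,
  408,
  409,
  966,
  1117,
  653,
  962,
  1111,
  625]

def codeIdx0_4 : List ℕ := [
  312,
  329,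
  102,
  452,
  421,
  390,
  422,
  391,
  443,
  1043,
  523,
  519,
  1419,
  1437,
  1431,
  1439,
  1433,
  1280,
  410,
  454,
  432,
  1118,
  626,
  597,
  627,
  598,
  654]

def codeIdx0_5 : List ℕ := [
  96,
  104,
  112,
  444,
  392,
  423,
  557,
  445,
  393,
  416,
  440,
  462,
  661,
  605,
  633,
  1115,
  662,
  606,
  411,
  433,
  455,
  655,
  599,
  628,
  1112,
  656,
  600]

def codeIdx0_6 : List ℕ := [
  78,
  94,
  313,
  610,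
  424,
  431,
  636,
  446,
  451,
  322,
  412,
  413,
  963,
  629,
  1113,
  967,
  657,
  1119,
  378,
  512,
  518,
  1267,
  1396,
  1399,
  1512,
  1442,
  1415]

def codeIdx0_7 : List ℕ := [
  97,
  113,
  105,
  558,
  394,
  447,
  448,
  425,
  395,
  414,
  456,
  434,
  1114,
  601,
  658,
  659,
  630,
  602,
  417,
  463,
  441,
  1116,
  607,
  663,
  664,
  634,
  608]

def codeIdx0_8 : List ℕ := [
  314,
  103,
  330,
  426,
  449,
  396,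
  453,
  397,
  427,
  415,
  435,
  457,
  631,
  660,
  603,
  1120,
  604,
  632,
  1044,
  520,
  524,
  1440,
  1278,
  1434,
  1414,
  1432,
  1438]

def codeIdx0_9 : List ℕ := [
  250,
  89,
  90,
  1031,
  537,
  398,
  319,
  139,
  140,
  786,
  563,
  573,
  1316,
  1283,
  930,
  1053,
  914,
  922,
  784,
  555,
  547,
  1045,
  880,
  1265,
  1049,
  872,
  864]

def codeIdx0_10 : List ℕ := [
  315,
  108,
  98,
  1169,
  565,
  428,
  404,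
  173,
  157,
  561,
  545,
  543,
  1282,
  876,
  1435,
  912,
  862,
  814,
  549,
  539,
  567,
  1292,
  1495,
  926,
  866,
  810,
  916]

def codeIdx0_11 : List ℕ := [
  316,
  99,
  109,
  418,
  161,
  177,
  405,
  158,
  174,
  571,
  535,
  551,
  928,
  1288,
  878,
  920,
  808,
  868,
  553,
  569,
  541,
  874,
  924,
  1290,
  870,
  918,
  812]

def codeIdx0_12 : List ℕ := [
  85,
  515,
  129,
  1037,
  1271,
  645,
  958,
  860,
  611,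
  1038,
  1272,
  890,
  1266,
  1392,
  1390,
  525,
  727,
  715,
  1036,
  858,
  822,
  527,
  1310,
  788,
  1279,
  1418,
  1406]

def codeIdx0_13 : List ℕ := [
  529,
  521,
  149,
  1270,
  824,
  585,
  612,
  577,
  637,
  1273,
  820,
  790,
  1394,
  1379,
  1423,
  1261,
  747,
  735,
  828,
  1314,
  884,
  1312,
  1318,
  826,
  1422,
  1393,
  1497]

def codeIdx0_14 : List ℕ := [
  135,
  155,
  167,
  651,
  591,
  619,
  854,
  638,
  578,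
  888,
  731,
  830,
  1395,
  1426,
  1382,
  800,
  739,
  743,
  852,
  882,
  723,
  802,
  856,
  886,
  1411,
  1380,
  1404]

def codeIdx0_15 : List ℕ := [
  86,
  130,
  133,
  960,
  621,
  850,
  964,
  639,
  904,
  1051,
  894,
  910,
  533,
  792,
  796,
  1580,
  1402,
  1505,
  1034,
  840,
  842,
  1285,
  1417,
  1428,
  531,
  716,
  728]

def codeIdx0_16 : List ℕ := [
  143,
  168,
  153,
  844,
  589,
  646,
  640,
  613,
  579,
  892,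
  834,
  798,
  818,
  896,
  846,
  1401,
  1499,
  1513,
  848,
  794,
  898,
  1420,
  1391,
  1503,
  816,
  744,
  740]

def codeIdx0_17 : List ℕ := [
  136,
  150,
  171,
  622,
  649,
  586,
  902,
  580,
  614,
  908,
  724,
  838,
  806,
  836,
  906,
  1509,
  1515,
  1501,
  832,
  900,
  732,
  1425,
  1378,
  1507,
  804,
  736,
  748]

def codeIdx0_18 : List ℕ := [
  251,
  91,
  92,
  320,
  141,
  142,
  1032,
  399,
  538,
  785,
  548,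
  556,
  1050,
  865,
  873,
  1046,
  1262,
  881,
  787,
  574,
  564,
  1054,
  923,
  915,
  1317,
  931,
  1277]

def codeIdx0_19 : List ℕ := [
  317,
  110,
  100,
  406,
  175,
  159,
  419,
  178,
  162,
  554,
  542,
  570,
  871,
  813,
  919,
  875,
  1291,
  925,
  572,
  552,
  536,
  921,
  869,
  809,
  929,
  879,
  1289]

def codeIdx0_20 : List ℕ := [
  318,
  101,
  111,
  407,
  160,
  176,
  1170,
  429,
  566,
  550,
  568,
  540,
  867,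
  917,
  811,
  1293,
  927,
  1496,
  562,
  544,
  546,
  913,
  815,
  863,
  1276,
  1436,
  877]

def codeIdx0_21 : List ℕ := [
  87,
  134,
  131,
  965,
  905,
  641,
  961,
  851,
  623,
  1035,
  843,
  841,
  532,
  729,
  717,
  1281,
  1412,
  1410,
  1052,
  911,
  895,
  1581,
  1506,
  1398,
  534,
  797,
  793]

def codeIdx0_22 : List ℕ := [
  137,
  172,
  151,
  903,
  615,
  581,
  624,
  587,
  650,
  833,
  733,
  901,
  805,
  749,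
  737,
  1407,
  1508,
  1375,
  909,
  839,
  725,
  1510,
  1502,
  1516,
  807,
  907,
  837]

def codeIdx0_23 : List ℕ := [
  144,
  154,
  169,
  642,
  582,
  616,
  845,
  647,
  590,
  849,
  899,
  795,
  817,
  741,
  745,
  1408,
  1504,
  1383,
  893,
  799,
  835,
  1397,
  1514,
  1500,
  819,
  847,
  897]

def codeIdx0_24 : List ℕ := [
  88,
  132,
  516,
  959,
  617,
  861,
  1039,
  648,
  1275,
  1033,
  823,
  859,
  1284,
  1424,
  1413,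
  528,
  789,
  1311,
  1040,
  891,
  1268,
  526,
  718,
  730,
  1263,
  1389,
  1384]

def codeIdx0_25 : List ℕ := [
  138,
  170,
  156,
  855,
  583,
  643,
  652,
  620,
  592,
  853,
  726,
  883,
  1427,
  1400,
  1377,
  803,
  887,
  857,
  889,
  831,
  734,
  801,
  746,
  742,
  1387,
  1374,
  1409]

def codeIdx0_26 : List ℕ := [
  530,
  152,
  522,
  618,
  644,
  584,
  1274,
  588,
  825,
  829,
  885,
  1315,
  1416,
  1498,
  1385,
  1313,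
  827,
  1319,
  1269,
  791,
  821,
  1260,
  738,
  750,
  1386,
  1405,
  1376]

def codeIdx0_ : List (List ℕ) := [codeIdx0_0, codeIdx0_1, codeIdx0_2, codeIdx0_3, codeIdx0_4, codeIdx0_5, codeIdx0_6, codeIdx0_7, codeIdx0_8, codeIdx0_9, codeIdx0_10, codeIdx0_11, codeIdx0_12, codeIdx0_13, codeIdx0_14, codeIdx0_15, codeIdx0_16, codeIdx0_17, codeIdx0_18, codeIdx0_19, codeIdx0_20, codeIdx0_21, codeIdx0_22, codeIdx0_23, codeIdx0_24, codeIdx0_25, codeIdx0_26]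

def codeIdx1_0 : List ℕ := [
  1,
  15,
  17,
  500,
  699,
  700,
  464,
  665,
  496,
  4,
  27,
  28,
  1490,
  1568,
  1571,
  1444,
  1519,
  1485,
  5,
  31,
  33,
  1491,
  1569,
  1572,
  1443,
  1518,
  1484]

def codeIdx1_1 : List ℕ := [
  252,
  278,
  183,
  333,
  369,
  253,
  334,
  370,
  254,
  1067,
  1079,
  932,
  1172,
  1249,
  1068,
  1173,
  1250,
  1069,
  371,
  502,
  279,
  503,
  701,
  372,
  504,
  702,
  373]

def codeIdx1_2 : List ℕ := [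
  346,
  261,
  478,
  465,
  347,
  497,
  479,
  348,
  501,
  1132,
  989,
  1306,
  703,
  990,
  1307,
  991,
  704,
  1133,
  1205,
  1073,
  1360,
  1445,
  1206,
  1257,
  1467,
  1208,
  1358]

def codeIdx1_3 : List ℕ := [
  16,
  126,
  95,
  480,
  466,
  365,
  498,
  666,
  335,
  29,
  204,
  116,
  1468,
  1446,
  1241,
  1487,
  1521,
  1176,
  32,
  206,
  117,
  1469,
  1364,
  1242,
  1486,
  1520,
  1175]

def codeIdx1_4 : List ℕ := [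
  336,
  273,
  255,
  467,
  337,
  360,
  361,
  468,
  338,
  1177,
  1077,
  1070,
  1447,
  1179,
  1234,
  1235,
  1448,
  1180,
  505,
  705,
  374,
  706,
  506,
  707,
  708,
  709,
  507]

def codeIdx1_5 : List ℕ := [
  481,
  482,
  262,
  349,
  667,
  339,
  687,
  350,
  688,
  1134,
  1308,
  992,
  1212,
  993,
  508,
  1135,
  710,
  1136,
  1470,
  1359,
  1074,
  1211,
  1522,
  1181,
  1357,
  1214,
  1553]

def codeIdx1_6 : List ℕ := [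
  14,
  127,
  128,
  469,
  483,
  366,
  340,
  499,
  689,
  26,
  202,
  203,
  1449,
  1471,
  1244,
  1184,
  1489,
  1554,
  30,
  118,
  205,
  1363,
  1472,
  1245,
  1183,
  1488,
  1494]

def codeIdx1_7 : List ℕ := [
  341,
  184,
  274,
  363,
  470,
  256,
  257,
  364,
  362,
  1185,
  933,
  1078,
  1238,
  1324,
  1071,
  1072,
  1239,
  1236,
  509,
  280,
  510,
  711,
  712,
  375,
  376,
  713,
  714]

def codeIdx1_8 : List ℕ := [
  484,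
  351,
  668,
  669,
  485,
  670,
  367,
  690,
  368,
  1309,
  1218,
  994,
  995,
  996,
  997,
  1137,
  1138,
  998,
  1473,
  1216,
  1523,
  1524,
  1474,
  1525,
  1246,
  1556,
  1247]

def codeIdx1_9 : List ℕ := [
  6,
  35,
  36,
  1349,
  1567,
  1570,
  671,
  968,
  969,
  1777,
  1839,
  1840,
  1722,
  1724,
  1667,
  1458,
  1687,
  1742,
  1859,
  1944,
  1953,
  1607,
  1738,
  1674,
  1698,
  1684,
  1453]

def codeIdx1_10 : List ℕ := [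
  752,
  1028,
  766,
  1171,
  1248,
  1019,
  471,
  672,
  342,
  1430,
  1604,
  1623,
  1599,
  1654,
  1650,
  1193,
  1186,
  1450,
  1029,
  1251,
  1350,
  1253,
  1351,
  1255,
  1188,
  1352,
  1456]

def codeIdx1_11 : List ℕ := [
  1130,
  981,
  1303,
  692,
  982,
  1304,
  970,
  673,
  1121,
  1754,
  1705,
  1633,
  1669,
  1559,
  1476,
  1706,
  1634,
  1530,
  1606,
  1732,
  1670,
  1672,
  1675,
  1557,
  1528,
  1537,
  1643]

def codeIdx1_12 : List ℕ := [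
  37,
  179,
  119,
  1347,
  1343,
  1240,
  1301,
  971,
  472,
  1825,
  1937,
  1888,
  1726,
  1723,
  1668,
  1527,
  1680,
  1682,
  1885,
  1961,
  1943,
  1671,
  1736,
  1734,
  1457,
  1686,
  1699]

def codeIdx1_13 : List ℕ := [
  1159,
  1026,
  1020,
  1344,
  1178,
  1233,
  674,
  675,
  473,
  1603,
  1596,
  1645,
  1652,
  1709,
  1647,
  1452,
  1455,
  1189,
  1254,
  1353,
  1576,
  1492,
  1573,
  1252,
  1191,
  1532,
  1534]

def codeIdx1_14 : List ℕ := [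
  1131,
  1305,
  983,
  1209,
  984,
  489,
  1122,
  676,
  1123,
  1635,
  1707,
  1755,
  1354,
  1695,
  1636,
  1683,
  1531,
  1538,
  1673,
  1678,
  1720,
  1560,
  1475,
  1676,
  1536,
  1710,
  1653]

def codeIdx1_15 : List ℕ := [
  34,
  180,
  120,
  1345,
  1348,
  1243,
  474,
  972,
  1302,
  1824,
  1890,
  1889,
  1758,
  1731,
  1759,
  1760,
  1685,
  1454,
  1799,
  1904,
  1905,
  1733,
  1609,
  1749,
  1526,
  1679,
  1681]

def codeIdx1_16 : List ℕ := [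
  1059,
  767,
  1027,
  1237,
  1346,
  1021,
  343,
  677,
  678,
  1605,
  1429,
  1593,
  1642,
  1656,
  1595,
  1533,
  1535,
  1190,
  1355,
  1356,
  1030,
  1256,
  1493,
  1577,
  1451,
  1192,
  1187]

def codeIdx1_17 : List ℕ := [
  1259,
  1217,
  985,
  986,
  987,
  988,
  1124,
  1125,
  973,
  1637,
  1750,
  1745,
  1558,
  1638,
  1597,
  1639,
  1539,
  1708,
  1737,
  1608,
  1735,
  1655,
  1694,
  1477,
  1651,
  1529,
  1600]

def codeIdx1_18 : List ℕ := [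
  7,
  39,
  41,
  974,
  1126,
  1127,
  1325,
  1517,
  1328,
  1954,
  1946,
  1860,
  1550,
  1712,
  1657,
  1746,
  1765,
  1739,
  1841,
  1842,
  1778,
  1718,
  1547,
  1743,
  1740,
  1730,
  1649]

def codeIdx1_19 : List ℕ := [
  356,
  490,
  271,
  475,
  679,
  344,
  491,
  693,
  357,
  1075,
  1219,
  1362,
  1194,
  1459,
  1200,
  1222,
  1478,
  1482,
  1332,
  1008,
  1220,
  1541,
  1196,
  1333,
  1230,
  1224,
  1334]

def codeIdx1_20 : List ℕ := [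
  1204,
  1006,
  1326,
  680,
  975,
  1201,
  1322,
  1207,
  1331,
  1625,
  1751,
  1702,
  1626,
  1692,
  1544,
  1575,
  1578,
  1627,
  1602,
  1725,
  1700,
  1661,
  1542,
  1465,
  1646,
  1713,
  1648]

def codeIdx1_21 : List ℕ := [
  40,
  121,
  122,
  1128,
  681,
  1198,
  1329,
  1335,
  1174,
  1945,
  1963,
  1886,
  1688,
  1714,
  1716,
  1741,
  1748,
  1766,
  1892,
  1872,
  1826,
  1551,
  1719,
  1691,
  1728,
  1756,
  1721]

def codeIdx1_22 : List ℕ := [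
  492,
  694,
  358,
  682,
  476,
  683,
  695,
  696,
  493,
  1226,
  1481,
  1561,
  1460,
  1540,
  1195,
  1232,
  1563,
  1565,
  1562,
  1227,
  1336,
  1337,
  1549,
  1203,
  1479,
  1338,
  1223]

def codeIdx1_23 : List ℕ := [
  1154,
  1327,
  1007,
  1210,
  976,
  477,
  1466,
  1213,
  1552,
  1752,
  1628,
  1703,
  1543,
  1339,
  1610,
  1579,
  1704,
  1697,
  1701,
  1659,
  1601,
  1463,
  1693,
  1690,
  1663,
  1660,
  1598]

def codeIdx1_24 : List ℕ := [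
  38,
  181,
  182,
  684,
  1129,
  977,
  1182,
  1330,
  1340,
  1906,
  1907,
  1800,
  1711,
  1546,
  1658,
  1763,
  1767,
  1764,
  1873,
  1893,
  1827,
  1689,
  1715,
  1717,
  1644,
  1747,
  1729]

def codeIdx1_25 : List ℕ := [
  494,
  272,
  495,
  685,
  686,
  345,
  359,
  697,
  698,
  1361,
  1483,
  1076,
  1199,
  1462,
  1548,
  1480,
  1229,
  1225,
  1009,
  1341,
  1342,
  1461,
  1202,
  1197,
  1564,
  1566,
  1231]

def codeIdx1_26 : List ℕ := [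
  1323,
  1215,
  1372,
  978,
  979,
  980,
  1228,
  1555,
  1221,
  1744,
  1629,
  1753,
  1630,
  1631,
  1464,
  1696,
  1574,
  1677,
  1757,
  1727,
  1662,
  1545,
  1664,
  1665,
  1594,
  1666,
  1641]

def codeIdx1_ : List (List ℕ) := [codeIdx1_0, codeIdx1_1, codeIdx1_2, codeIdx1_3, codeIdx1_4, codeIdx1_5, codeIdx1_6, codeIdx1_7, codeIdx1_8, codeIdx1_9, codeIdx1_10, codeIdx1_11, codeIdx1_12, codeIdx1_13, codeIdx1_14, codeIdx1_15, codeIdx1_16, codeIdx1_17, codeIdx1_18, codeIdx1_19, codeIdx1_20, codeIdx1_21, codeIdx1_22, codeIdx1_23, codeIdx1_24, codeIdx1_25, codeIdx1_26]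

def codeIdx2_0 : List ℕ := [
  3,
  352,
  195,
  0,
  0,
  0,
  0,
  0,
  0,
  11,
  1913,
  1922,
  0,
  0,
  0,
  0,
  0,
  0,
  12,
  1858,
  1926,
  0,
  0,
  0,
  0,
  0,
  0]

def codeIdx2_1 : List ℕ := [
  185,
  163,
  353,
  0,
  0,
  0,
  0,
  0,
  0,
  1812,
  241,
  1804,
  0,
  0,
  0,
  0,
  0,
  0,
  1849,
  245,
  1776,
  0,
  0,
  0,
  0,
  0,
  0]

def codeIdx2_2 : List ℕ := [
  263,
  258,
  164,
  0,
  0,
  0,
  0,
  0,
  0,
  1874,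
  1928,
  240,
  0,
  0,
  0,
  0,
  0,
  0,
  1797,
  1852,
  244,
  0,
  0,
  0,
  0,
  0,
  0]

def codeIdx2_3 : List ℕ := [
  24,
  264,
  123,
  0,
  0,
  0,
  0,
  0,
  0,
  60,
  1911,
  1923,
  0,
  0,
  0,
  0,
  0,
  0,
  64,
  1823,
  1952,
  0,
  0,
  0,
  0,
  0,
  0]

def codeIdx2_4 : List ℕ := [
  259,
  165,
  265,
  0,
  0,
  0,
  0,
  0,
  0,
  1844,
  239,
  1787,
  0,
  0,
  0,
  0,
  0,
  0,
  1850,
  243,
  1768,
  0,
  0,
  0,
  0,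
  0,
  0]

def codeIdx2_5 : List ℕ := [
  486,
  186,
  25,
  0,
  0,
  0,
  0,
  0,
  0,
  1912,
  1897,
  61,
  0,
  0,
  0,
  0,
  0,
  0,
  1857,
  1819,
  65,
  0,
  0,
  0,
  0,
  0,
  0]

def codeIdx2_6 : List ℕ := [
  22,
  193,
  187,
  0,
  0,
  0,
  0,
  0,
  0,
  58,
  1875,
  1941,
  0,
  0,
  0,
  0,
  0,
  0,
  62,
  1798,
  1948,
  0,
  0,
  0,
  0,
  0,
  0]

def codeIdx2_7 : List ℕ := [
  275,
  23,
  266,
  0,
  0,
  0,
  0,
  0,
  0,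
  1811,
  59,
  1806,
  0,
  0,
  0,
  0,
  0,
  0,
  1817,
  63,
  1785,
  0,
  0,
  0,
  0,
  0,
  0]

def codeIdx2_8 : List ℕ := [
  354,
  188,
  166,
  0,
  0,
  0,
  0,
  0,
  0,
  1910,
  1914,
  242,
  0,
  0,
  0,
  0,
  0,
  0,
  1822,
  1862,
  246,
  0,
  0,
  0,
  0,
  0,
  0]

def codeIdx2_9 : List ℕ := [
  1942,
  1366,
  1064,
  0,
  0,
  0,
  0,
  0,
  0,
  1782,
  782,
  1096,
  0,
  0,
  0,
  0,
  0,
  0,
  1847,
  1894,
  1934,
  0,
  0,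
  0,
  0,
  0,
  0]

def codeIdx2_10 : List ℕ := [
  1022,
  2004,
  1368,
  0,
  0,
  0,
  0,
  0,
  0,
  775,
  1936,
  72,
  0,
  0,
  0,
  0,
  0,
  0,
  1895,
  1925,
  1780,
  0,
  0,
  0,
  0,
  0,
  0]

def codeIdx2_11 : List ℕ := [
  1145,
  1139,
  2000,
  0,
  0,
  0,
  0,
  0,
  0,
  1095,
  73,
  1896,
  0,
  0,
  0,
  0,
  0,
  0,
  1935,
  1779,
  1919,
  0,
  0,
  0,
  0,
  0,
  0]

def codeIdx2_12 : List ℕ := [
  1989,
  1147,
  768,
  0,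
  0,
  0,
  0,
  0,
  0,
  1830,
  294,
  776,
  0,
  0,
  0,
  0,
  0,
  0,
  1818,
  1834,
  1901,
  0,
  0,
  0,
  0,
  0,
  0]

def codeIdx2_13 : List ℕ := [
  1141,
  2003,
  1149,
  0,
  0,
  0,
  0,
  0,
  0,
  295,
  1903,
  292,
  0,
  0,
  0,
  0,
  0,
  0,
  1833,
  1929,
  1829,
  0,
  0,
  0,
  0,
  0,
  0]

def codeIdx2_14 : List ℕ := [
  1612,
  1023,
  1959,
  0,
  0,
  0,
  0,
  0,
  0,
  1094,
  293,
  1838,
  0,
  0,
  0,
  0,
  0,
  0,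
  1902,
  1828,
  1939,
  0,
  0,
  0,
  0,
  0,
  0]

def codeIdx2_15 : List ℕ := [
  1958,
  1005,
  1024,
  0,
  0,
  0,
  0,
  0,
  0,
  1801,
  1097,
  291,
  0,
  0,
  0,
  0,
  0,
  0,
  1813,
  1899,
  1831,
  0,
  0,
  0,
  0,
  0,
  0]

def codeIdx2_16 : List ℕ := [
  1156,
  1974,
  1151,
  0,
  0,
  0,
  0,
  0,
  0,
  1098,
  1836,
  289,
  0,
  0,
  0,
  0,
  0,
  0,
  1898,
  1947,
  1807,
  0,
  0,
  0,
  0,
  0,
  0]

def codeIdx2_17 : List ℕ := [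
  1370,
  1025,
  1999,
  0,
  0,
  0,
  0,
  0,
  0,
  290,
  199,
  1900,
  0,
  0,
  0,
  0,
  0,
  0,
  1832,
  1802,
  1927,
  0,
  0,
  0,
  0,
  0,
  0]

def codeIdx2_18 : List ℕ := [
  1960,
  1365,
  1065,
  0,
  0,
  0,
  0,
  0,
  0,
  1846,
  1794,
  1861,
  0,
  0,
  0,
  0,
  0,
  0,
  1587,
  1102,
  1103,
  0,
  0,
  0,
  0,
  0,
  0]

def codeIdx2_19 : List ℕ := [
  1010,
  1972,
  1367,
  0,
  0,
  0,
  0,
  0,
  0,
  1870,
  1966,
  1588,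
  0,
  0,
  0,
  0,
  0,
  0,
  1101,
  1808,
  75,
  0,
  0,
  0,
  0,
  0,
  0]

def codeIdx2_20 : List ℕ := [
  1144,
  1140,
  1990,
  0,
  0,
  0,
  0,
  0,
  0,
  1809,
  1781,
  1931,
  0,
  0,
  0,
  0,
  0,
  0,
  778,
  74,
  1792,
  0,
  0,
  0,
  0,
  0,
  0]

def codeIdx2_21 : List ℕ := [
  2002,
  1146,
  753,
  0,
  0,
  0,
  0,
  0,
  0,
  1865,
  1774,
  1871,
  0,
  0,
  0,
  0,
  0,
  0,
  1769,
  302,
  1099,
  0,
  0,
  0,
  0,
  0,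
  0]

def codeIdx2_22 : List ℕ := [
  1142,
  1973,
  1148,
  0,
  0,
  0,
  0,
  0,
  0,
  1837,
  1930,
  1770,
  0,
  0,
  0,
  0,
  0,
  0,
  301,
  1791,
  200,
  0,
  0,
  0,
  0,
  0,
  0]

def codeIdx2_23 : List ℕ := [
  1611,
  1011,
  1975,
  0,
  0,
  0,
  0,
  0,
  0,
  1793,
  1786,
  1951,
  0,
  0,
  0,
  0,
  0,
  0,
  1100,
  300,
  1772,
  0,
  0,
  0,
  0,
  0,
  0]

def codeIdx2_24 : List ℕ := [
  2001,
  1062,
  1012,
  0,
  0,
  0,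
  0,
  0,
  0,
  1814,
  1810,
  1835,
  0,
  0,
  0,
  0,
  0,
  0,
  1761,
  777,
  298,
  0,
  0,
  0,
  0,
  0,
  0]

def codeIdx2_25 : List ℕ := [
  1157,
  1891,
  1150,
  0,
  0,
  0,
  0,
  0,
  0,
  1789,
  1950,
  1762,
  0,
  0,
  0,
  0,
  0,
  0,
  783,
  1771,
  297,
  0,
  0,
  0,
  0,
  0,
  0]

def codeIdx2_26 : List ℕ := [
  1369,
  1013,
  1991,
  0,
  0,
  0,
  0,
  0,
  0,
  1773,
  1790,
  1938,
  0,
  0,
  0,
  0,
  0,
  0,
  299,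
  296,
  1788,
  0,
  0,
  0,
  0,
  0,
  0]

def codeIdx2_ : List (List ℕ) := [codeIdx2_0, codeIdx2_1, codeIdx2_2, codeIdx2_3, codeIdx2_4, codeIdx2_5, codeIdx2_6, codeIdx2_7, codeIdx2_8, codeIdx2_9, codeIdx2_10, codeIdx2_11, codeIdx2_12, codeIdx2_13, codeIdx2_14, codeIdx2_15, codeIdx2_16, codeIdx2_17, codeIdx2_18, codeIdx2_19, codeIdx2_20, codeIdx2_21, codeIdx2_22, codeIdx2_23, codeIdx2_24, codeIdx2_25, codeIdx2_26]

def codeIdx3_0 : List ℕ := [
  2,
  267,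
  189,
  0,
  0,
  0,
  0,
  0,
  0,
  9,
  1856,
  1851,
  0,
  0,
  0,
  0,
  0,
  0,
  10,
  1933,
  1915,
  0,
  0,
  0,
  0,
  0,
  0]

def codeIdx3_1 : List ℕ := [
  268,
  260,
  145,
  0,
  0,
  0,
  0,
  0,
  0,
  1775,
  1866,
  233,
  0,
  0,
  0,
  0,
  0,
  0,
  1803,
  1796,
  237,
  0,
  0,
  0,
  0,
  0,
  0]

def codeIdx3_2 : List ℕ := [
  190,
  146,
  355,
  0,
  0,
  0,
  0,
  0,
  0,
  1880,
  232,
  1853,
  0,
  0,
  0,
  0,
  0,
  0,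
  1882,
  236,
  1921,
  0,
  0,
  0,
  0,
  0,
  0]

def codeIdx3_3 : List ℕ := [
  18,
  269,
  124,
  0,
  0,
  0,
  0,
  0,
  0,
  50,
  1854,
  1869,
  0,
  0,
  0,
  0,
  0,
  0,
  54,
  1932,
  1876,
  0,
  0,
  0,
  0,
  0,
  0]

def codeIdx3_4 : List ℕ := [
  487,
  191,
  19,
  0,
  0,
  0,
  0,
  0,
  0,
  1784,
  1848,
  51,
  0,
  0,
  0,
  0,
  0,
  0,
  1816,
  1843,
  55,
  0,
  0,
  0,
  0,
  0,
  0]

def codeIdx3_5 : List ℕ := [
  276,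
  147,
  488,
  0,
  0,
  0,
  0,
  0,
  0,
  1881,
  234,
  1820,
  0,
  0,
  0,
  0,
  0,
  0,
  1883,
  238,
  1908,
  0,
  0,
  0,
  0,
  0,
  0]

def codeIdx3_6 : List ℕ := [
  20,
  194,
  192,
  0,
  0,
  0,
  0,
  0,
  0,
  52,
  1821,
  1868,
  0,
  0,
  0,
  0,
  0,
  0,
  56,
  1909,
  1884,
  0,
  0,
  0,
  0,
  0,
  0]

def codeIdx3_7 : List ℕ := [
  691,
  196,
  148,
  0,
  0,
  0,
  0,
  0,
  0,
  1783,
  1805,
  231,
  0,
  0,
  0,
  0,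
  0,
  0,
  1815,
  1795,
  235,
  0,
  0,
  0,
  0,
  0,
  0]

def codeIdx3_8 : List ℕ := [
  277,
  21,
  270,
  0,
  0,
  0,
  0,
  0,
  0,
  1867,
  53,
  1855,
  0,
  0,
  0,
  0,
  0,
  0,
  1940,
  57,
  1920,
  0,
  0,
  0,
  0,
  0,
  0]

def codeIdx3_9 : List ℕ := [
  2013,
  1152,
  999,
  0,
  0,
  0,
  0,
  0,
  0,
  1956,
  1988,
  1967,
  0,
  0,
  0,
  0,
  0,
  0,
  13,
  774,
  1091,
  0,
  0,
  0,
  0,
  0,
  0]

def codeIdx3_10 : List ℕ := [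
  1153,
  1258,
  1987,
  0,
  0,
  0,
  0,
  0,
  0,
  2016,
  1968,
  1949,
  0,
  0,
  0,
  0,
  0,
  0,
  1619,
  71,
  249,
  0,
  0,
  0,
  0,
  0,
  0]

def codeIdx3_11 : List ℕ := [
  1000,
  1986,
  1371,
  0,
  0,
  0,
  0,
  0,
  0,
  1998,
  1864,
  2020,
  0,
  0,
  0,
  0,
  0,
  0,
  1092,
  248,
  388,
  0,
  0,
  0,
  0,
  0,
  0]

def codeIdx3_12 : List ℕ := [
  2008,
  1003,
  751,
  0,
  0,
  0,
  0,
  0,
  0,
  1924,
  1995,
  1957,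
  0,
  0,
  0,
  0,
  0,
  0,
  66,
  1297,
  1093,
  0,
  0,
  0,
  0,
  0,
  0]

def codeIdx3_13 : List ℕ := [
  1613,
  1001,
  1979,
  0,
  0,
  0,
  0,
  0,
  0,
  2009,
  1993,
  1964,
  0,
  0,
  0,
  0,
  0,
  0,
  772,
  285,
  67,
  0,
  0,
  0,
  0,
  0,
  0]

def codeIdx3_14 : List ℕ := [
  1582,
  2007,
  1614,
  0,
  0,
  0,
  0,
  0,
  0,
  1970,
  1845,
  2021,
  0,
  0,
  0,
  0,
  0,
  0,
  286,
  125,
  773,
  0,
  0,
  0,
  0,
  0,
  0]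

def codeIdx3_15 : List ℕ := [
  1985,
  1063,
  1002,
  0,
  0,
  0,
  0,
  0,
  0,
  1879,
  1997,
  1877,
  0,
  0,
  0,
  0,
  0,
  0,
  68,
  1620,
  288,
  0,
  0,
  0,
  0,
  0,
  0]

def codeIdx3_16 : List ℕ := [
  1624,
  1320,
  1962,
  0,
  0,
  0,
  0,
  0,
  0,
  1992,
  1994,
  1965,
  0,
  0,
  0,
  0,
  0,
  0,
  1298,
  287,
  247,
  0,
  0,
  0,
  0,
  0,
  0]

def codeIdx3_17 : List ℕ := [
  1321,
  2014,
  1155,
  0,
  0,
  0,
  0,
  0,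
  0,
  2015,
  1863,
  1996,
  0,
  0,
  0,
  0,
  0,
  0,
  1090,
  69,
  198,
  0,
  0,
  0,
  0,
  0,
  0]

def codeIdx3_18 : List ℕ := [
  1982,
  1589,
  1057,
  0,
  0,
  0,
  0,
  0,
  0,
  2017,
  1088,
  770,
  0,
  0,
  0,
  0,
  0,
  0,
  1917,
  1622,
  1105,
  0,
  0,
  0,
  0,
  0,
  0]

def codeIdx3_19 : List ℕ := [
  1640,
  1143,
  2006,
  0,
  0,
  0,
  0,
  0,
  0,
  1087,
  387,
  2024,
  0,
  0,
  0,
  0,
  0,
  0,
  780,
  76,
  1969,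
  0,
  0,
  0,
  0,
  0,
  0]

def codeIdx3_20 : List ℕ := [
  1058,
  2005,
  1592,
  0,
  0,
  0,
  0,
  0,
  0,
  1618,
  2010,
  70,
  0,
  0,
  0,
  0,
  0,
  0,
  1106,
  1878,
  389,
  0,
  0,
  0,
  0,
  0,
  0]

def codeIdx3_21 : List ℕ := [
  1978,
  1294,
  934,
  0,
  0,
  0,
  0,
  0,
  0,
  2022,
  282,
  1617,
  0,
  0,
  0,
  0,
  0,
  0,
  1916,
  1299,
  935,
  0,
  0,
  0,
  0,
  0,
  0]

def codeIdx3_22 : List ℕ := [
  1586,
  1060,
  1984,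
  0,
  0,
  0,
  0,
  0,
  0,
  1089,
  197,
  2019,
  0,
  0,
  0,
  0,
  0,
  0,
  1621,
  303,
  1977,
  0,
  0,
  0,
  0,
  0,
  0]

def codeIdx3_23 : List ℕ := [
  1158,
  1981,
  1632,
  0,
  0,
  0,
  0,
  0,
  0,
  1295,
  2012,
  281,
  0,
  0,
  0,
  0,
  0,
  0,
  304,
  1887,
  201,
  0,
  0,
  0,
  0,
  0,
  0]

def codeIdx3_24 : List ℕ := [
  1980,
  1004,
  1061,
  0,
  0,
  0,
  0,
  0,
  0,
  2023,
  1086,
  1296,
  0,
  0,
  0,
  0,
  0,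
  0,
  1955,
  781,
  306,
  0,
  0,
  0,
  0,
  0,
  0]

def codeIdx3_25 : List ℕ := [
  1590,
  1066,
  2018,
  0,
  0,
  0,
  0,
  0,
  0,
  284,
  769,
  2011,
  0,
  0,
  0,
  0,
  0,
  0,
  1300,
  305,
  1971,
  0,
  0,
  0,
  0,
  0,
  0]

def codeIdx3_26 : List ℕ := [
  1160,
  1983,
  1591,
  0,
  0,
  0,
  0,
  0,
  0,
  771,
  1976,
  283,
  0,
  0,
  0,
  0,
  0,
  0,
  1104,
  1918,
  779,
  0,
  0,
  0,
  0,
  0,
  0]

def codeIdx3_ : List (List ℕ) := [codeIdx3_0, codeIdx3_1, codeIdx3_2, codeIdx3_3, codeIdx3_4, codeIdx3_5, codeIdx3_6, codeIdx3_7, codeIdx3_8, codeIdx3_9, codeIdx3_10, codeIdx3_11, codeIdx3_12, codeIdx3_13, codeIdx3_14, codeIdx3_15, codeIdx3_16, codeIdx3_17, codeIdx3_18, codeIdx3_19, codeIdx3_20, codeIdx3_21, codeIdx3_22, codeIdx3_23, codeIdx3_24, codeIdx3_25, codeIdx3_26]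

def codeIdx4_0 : List ℕ := [
  8,
  43,
  47,
  0,
  0,
  0,
  0,
  0,
  0,
  0,
  0,
  0,
  0,
  0,
  0,
  0,
  0,
  0,
  0,
  0,
  0,
  0,
  0,
  0,
  0,
  0,
  0]

def codeIdx4_1 : List ℕ := [
  226,
  944,
  952,
  0,
  0,
  0,
  0,
  0,
  0,
  0,
  0,
  0,
  0,
  0,
  0,
  0,
  0,
  0,
  0,
  0,
  0,
  0,
  0,
  0,
  0,
  0,
  0]

def codeIdx4_2 : List ℕ := [
  208,
  758,
  764,
  0,
  0,
  0,
  0,
  0,
  0,
  0,
  0,
  0,
  0,
  0,
  0,
  0,
  0,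
  0,
  0,
  0,
  0,
  0,
  0,
  0,
  0,
  0,
  0]

def codeIdx4_3 : List ℕ := [
  45,
  214,
  223,
  0,
  0,
  0,
  0,
  0,
  0,
  0,
  0,
  0,
  0,
  0,
  0,
  0,
  0,
  0,
  0,
  0,
  0,
  0,
  0,
  0,
  0,
  0,
  0]

def codeIdx4_4 : List ℕ := [
  950,
  1615,
  1085,
  0,
  0,
  0,
  0,
  0,
  0,
  0,
  0,
  0,
  0,
  0,
  0,
  0,
  0,
  0,
  0,
  0,
  0,
  0,
  0,
  0,
  0,
  0,
  0]

def codeIdx4_5 : List ℕ := [
  936,
  1014,
  1083,
  0,
  0,
  0,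
  0,
  0,
  0,
  0,
  0,
  0,
  0,
  0,
  0,
  0,
  0,
  0,
  0,
  0,
  0,
  0,
  0,
  0,
  0,
  0,
  0]

def codeIdx4_6 : List ℕ := [
  49,
  217,
  229,
  0,
  0,
  0,
  0,
  0,
  0,
  0,
  0,
  0,
  0,
  0,
  0,
  0,
  0,
  0,
  0,
  0,
  0,
  0,
  0,
  0,
  0,
  0,
  0]

def codeIdx4_7 : List ℕ := [
  954,
  1081,
  1583,
  0,
  0,
  0,
  0,
  0,
  0,
  0,
  0,
  0,
  0,
  0,
  0,
  0,
  0,
  0,
  0,
  0,
  0,
  0,
  0,
  0,
  0,
  0,
  0]

def codeIdx4_8 : List ℕ := [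
  937,
  1015,
  1584,
  0,
  0,
  0,
  0,
  0,
  0,
  0,
  0,
  0,
  0,
  0,
  0,
  0,
  0,
  0,
  0,
  0,
  0,
  0,
  0,
  0,
  0,
  0,
  0]

def codeIdx4_9 : List ℕ := [
  46,
  215,
  225,
  0,
  0,
  0,
  0,
  0,
  0,
  0,
  0,
  0,
  0,
  0,
  0,
  0,
  0,
  0,
  0,
  0,
  0,
  0,
  0,
  0,
  0,
  0,
  0]

def codeIdx4_10 : List ℕ := [
  211,
  759,
  940,
  0,
  0,
  0,
  0,
  0,
  0,
  0,
  0,
  0,
  0,
  0,
  0,
  0,
  0,
  0,
  0,
  0,
  0,
  0,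
  0,
  0,
  0,
  0,
  0]

def codeIdx4_11 : List ℕ := [
  44,
  213,
  221,
  0,
  0,
  0,
  0,
  0,
  0,
  0,
  0,
  0,
  0,
  0,
  0,
  0,
  0,
  0,
  0,
  0,
  0,
  0,
  0,
  0,
  0,
  0,
  0]

def codeIdx4_12 : List ℕ := [
  222,
  943,
  949,
  0,
  0,
  0,
  0,
  0,
  0,
  0,
  0,
  0,
  0,
  0,
  0,
  0,
  0,
  0,
  0,
  0,
  0,
  0,
  0,
  0,
  0,
  0,
  0]

def codeIdx4_13 : List ℕ := [
  939,
  1016,
  1585,
  0,
  0,
  0,
  0,
  0,
  0,
  0,
  0,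
  0,
  0,
  0,
  0,
  0,
  0,
  0,
  0,
  0,
  0,
  0,
  0,
  0,
  0,
  0,
  0]

def codeIdx4_14 : List ℕ := [
  218,
  754,
  763,
  0,
  0,
  0,
  0,
  0,
  0,
  0,
  0,
  0,
  0,
  0,
  0,
  0,
  0,
  0,
  0,
  0,
  0,
  0,
  0,
  0,
  0,
  0,
  0]

def codeIdx4_15 : List ℕ := [
  227,
  945,
  953,
  0,
  0,
  0,
  0,
  0,
  0,
  0,
  0,
  0,
  0,
  0,
  0,
  0,
  0,
  0,
  0,
  0,
  0,
  0,
  0,
  0,
  0,
  0,
  0]

def codeIdx4_16 : List ℕ := [
  942,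
  1017,
  1084,
  0,
  0,
  0,
  0,
  0,
  0,
  0,
  0,
  0,
  0,
  0,
  0,
  0,
  0,
  0,
  0,
  0,
  0,
  0,
  0,
  0,
  0,
  0,
  0]

def codeIdx4_17 : List ℕ := [
  219,
  755,
  948,
  0,
  0,
  0,
  0,
  0,
  0,
  0,
  0,
  0,
  0,
  0,
  0,
  0,
  0,
  0,
  0,
  0,
  0,
  0,
  0,
  0,
  0,
  0,
  0]

def codeIdx4_18 : List ℕ := [
  42,
  207,
  210,
  0,
  0,
  0,
  0,
  0,
  0,
  0,
  0,
  0,
  0,
  0,
  0,
  0,
  0,
  0,
  0,
  0,
  0,
  0,
  0,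
  0,
  0,
  0,
  0]

def codeIdx4_19 : List ℕ := [
  48,
  216,
  228,
  0,
  0,
  0,
  0,
  0,
  0,
  0,
  0,
  0,
  0,
  0,
  0,
  0,
  0,
  0,
  0,
  0,
  0,
  0,
  0,
  0,
  0,
  0,
  0]

def codeIdx4_20 : List ℕ := [
  220,
  765,
  762,
  0,
  0,
  0,
  0,
  0,
  0,
  0,
  0,
  0,
  0,
  0,
  0,
  0,
  0,
  0,
  0,
  0,
  0,
  0,
  0,
  0,
  0,
  0,
  0]

def codeIdx4_21 : List ℕ := [
  209,
  760,
  938,
  0,
  0,
  0,
  0,
  0,
  0,
  0,
  0,
  0,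
  0,
  0,
  0,
  0,
  0,
  0,
  0,
  0,
  0,
  0,
  0,
  0,
  0,
  0,
  0]

def codeIdx4_22 : List ℕ := [
  224,
  756,
  951,
  0,
  0,
  0,
  0,
  0,
  0,
  0,
  0,
  0,
  0,
  0,
  0,
  0,
  0,
  0,
  0,
  0,
  0,
  0,
  0,
  0,
  0,
  0,
  0]

def codeIdx4_23 : List ℕ := [
  946,
  1080,
  1018,
  0,
  0,
  0,
  0,
  0,
  0,
  0,
  0,
  0,
  0,
  0,
  0,
  0,
  0,
  0,
  0,
  0,
  0,
  0,
  0,
  0,
  0,
  0,
  0]

def codeIdx4_24 : List ℕ := [
  212,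
  761,
  941,
  0,
  0,
  0,
  0,
  0,
  0,
  0,
  0,
  0,
  0,
  0,
  0,
  0,
  0,
  0,
  0,
  0,
  0,
  0,
  0,
  0,
  0,
  0,
  0]

def codeIdx4_25 : List ℕ := [
  230,
  757,
  955,
  0,
  0,
  0,
  0,
  0,
  0,
  0,
  0,
  0,
  0,
  0,
  0,
  0,
  0,
  0,
  0,
  0,
  0,
  0,
  0,
  0,
  0,
  0,
  0]

def codeIdx4_26 : List ℕ := [
  947,
  1616,
  1082,
  0,
  0,
  0,
  0,
  0,
  0,
  0,
  0,
  0,
  0,
  0,
  0,
  0,
  0,
  0,
  0,
  0,
  0,
  0,
  0,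
  0,
  0,
  0,
  0]

def codeIdx4_ : List (List ℕ) := [codeIdx4_0, codeIdx4_1, codeIdx4_2, codeIdx4_3, codeIdx4_4, codeIdx4_5, codeIdx4_6, codeIdx4_7, codeIdx4_8, codeIdx4_9, codeIdx4_10, codeIdx4_11, codeIdx4_12, codeIdx4_13, codeIdx4_14, codeIdx4_15, codeIdx4_16, codeIdx4_17, codeIdx4_18, codeIdx4_19, codeIdx4_20, codeIdx4_21, codeIdx4_22, codeIdx4_23, codeIdx4_24, codeIdx4_25, codeIdx4_26]

def codeIdx : List (List (List ℕ)) := [codeIdx0_, codeIdx1_, codeIdx2_, codeIdx3_, codeIdx4_]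

def reps : List M8 := [
  M8.ofRows 1 3 63 27 81 243 729 2916,
  M8.ofRows 1 3 5139 756 81 243 729 3645,
  M8.ofRows 1 3 5895 756 81 243 729 2916,
  M8.ofRows 7 3 63 27 81 324 729 2916,
  M8.ofRows 4 3 63 27 81 405 729 2916,
  M8.ofRows 487 84 63 27 81 243 729 2916,
  M8.ofRows 244 165 63 27 81 243 729 2916,
  M8.ofRows 1 786 2196 1485 81 243 729 2430,
  M8.ofRows 7 3 5139 756 81 324 729 3645,
  M8.ofRows 4 3 5139 756 81 405 729 3645,
  M8.ofRows 7 3 5895 756 81 324 729 2916,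
  M8.ofRows 4 3 5895 756 81 405 729 2916,
  M8.ofRows 571 84 5139 756 81 405 729 3645]

end CfsgLib.OmegaEightThree
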