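import Cfsg.Agent.Lib.OmegaEightThree.Mat

/-! Classes in the Levi factor (generated). -/

set_option autoImplicit false
set_option maxRecDepth 100000

namespace CfsgLib.OmegaEightThree

def hRoot : List ℕ := [0, 1, 4, 5, 15]

def leviEntries0 : List (ℕ × List ℕ × Bool × ℕ) := [
  (0, [], false, 0),
  (1, [], false, 0),
  (4, [], false, 0),
  (5, [], false, 0),
  (15, [], false, 0),
  (2, [], true, 1),
  (245, [7], true, 1),
  (487, [7], false, 1),
  (10, [8], false, 1),
  (20, [8], true, 1),
  (244, [31], false, 1),
  (488, [31], true, 1),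
  (11, [32], true, 1),
  (19, [32], false, 1),
  (243, [7, 19, 7], true, 1),
  (486, [7, 19, 7], false, 1),
  (9, [8, 20, 8], false, 1),
  (18, [8, 20, 8], true, 1),
  (8, [], true, 2),
  (251, [7], true, 2),
  (490, [7], false, 2),
  (580, [8], false, 2),
  (674, [8], true, 2),
  (247, [31], false, 2),
  (494, [31], true, 2),
  (341, [32], true, 2),
  (427, [32], false, 2)]

def leviEntries1 : List (ℕ × List ℕ × Bool × ℕ) := [
  (90, [8, 20, 8], false, 2),
  (180, [8, 20, 8], true, 2),
  (7, [], true, 3),
  (248, [7], false, 3),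
  (493, [7], true, 3),
  (347, [8], false, 3),
  (421, [8], true, 3),
  (250, [9], true, 3),
  (491, [9], false, 3),
  (592, [32], true, 3),
  (662, [32], false, 3),
  (99, [8, 20, 8], false, 3),
  (171, [8, 20, 8], true, 3),
  (264, [], true, 4),
  (177, [8], false, 4),
  (345, [8], true, 4),
  (21, [9], true, 4),
  (258, [9], false, 4),
  (17, [20], false, 4),
  (265, [20], true, 4),
  (42, [23], false, 4),
  (480, [23], true, 4),
  (96, [32], false, 4),
  (426, [32], true, 4),
  (501, [33], false, 4),
  (507, [33], true, 4),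
  (16, [44], false, 4)]

def leviEntries2 : List (ℕ × List ℕ × Bool × ℕ) := [
  (266, [44], true, 4),
  (69, [47], false, 4),
  (372, [47], true, 4),
  (82, [8, 20, 8], true, 4),
  (650, [8, 20, 8], false, 4),
  (22, [8, 44, 8], false, 4),
  (260, [8, 44, 8], true, 4),
  (33, [11, 23, 11], false, 4),
  (219, [11, 23, 11], true, 4),
  (78, [11, 47, 11], false, 4),
  (606, [11, 47, 11], true, 4),
  (263, [8], false, 6),
  (496, [8], true, 6),
  (254, [32], false, 6),
  (505, [32], true, 6),
  (261, [8, 20, 8], false, 6),
  (495, [8, 20, 8], true, 6),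
  (262, [10, 46, 10], true, 6),
  (497, [10, 46, 10], false, 6),
  (253, [10], false, 8),
  (506, [10], true, 8),
  (252, [8, 20, 8], false, 10),
  (504, [8, 20, 8], true, 10),
  (246, [21], false, 14),
  (492, [21], true, 14),
  (405, [23], false, 14),
  (567, [23], true, 14)]

def leviEntries3 : List (ℕ × List ℕ × Bool × ℕ) := [
  (249, [45], false, 14),
  (489, [45], true, 14),
  (324, [47], false, 14),
  (648, [47], true, 14),
  (3, [9, 21, 9], false, 14),
  (6, [9, 21, 9], true, 14),
  (81, [11, 23, 11], true, 14),
  (162, [11, 23, 11], false, 14),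
  (36, [23], false, 16),
  (72, [23], true, 16),
  (45, [47], true, 16),
  (63, [47], false, 16),
  (27, [11, 23, 11], false, 16),
  (54, [11, 23, 11], true, 16),
  (188, [8], false, 19),
  (337, [8], true, 19),
  (184, [32], true, 19),
  (584, [32], false, 19),
  (423, [8, 20, 8], false, 19),
  (576, [8, 20, 8], true, 19),
  (94, [10], false, 21),
  (431, [10], true, 21),
  (98, [32], true, 23),
  (670, [32], false, 23),
  (333, [8, 20, 8], false, 23),
  (666, [8, 20, 8], true, 23),
  (117, [22], false, 27)]

def leviEntries4 : List (ℕ × List ℕ × Bool × ℕ) := [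
  (234, [22], true, 27),
  (144, [46], false, 27),
  (207, [46], true, 27),
  (270, [10, 22, 10], false, 27),
  (540, [10, 22, 10], true, 27),
  (178, [8], true, 30),
  (590, [8], false, 30),
  (176, [32], false, 30),
  (349, [32], true, 30),
  (342, [8, 20, 8], false, 30),
  (657, [8, 20, 8], true, 30),
  (104, [9], false, 32),
  (664, [9], true, 32),
  (106, [32], false, 34),
  (419, [32], true, 34),
  (414, [8, 20, 8], false, 34),
  (585, [8, 20, 8], true, 34),
  (126, [22], false, 38),
  (225, [22], true, 38),
  (153, [23], false, 38),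
  (198, [23], true, 38),
  (297, [10, 22, 10], true, 38),
  (513, [10, 22, 10], false, 38),
  (102, [9], true, 41),
  (420, [9], false, 41),
  (588, [11], true, 41),
  (663, [11], false, 41)]

def leviEntries5 : List (ℕ × List ℕ × Bool × ℕ) := [
  (100, [20], true, 41),
  (659, [20], false, 41),
  (204, [23], false, 41),
  (318, [23], true, 41),
  (418, [44], false, 41),
  (593, [44], true, 41),
  (231, [47], false, 41),
  (453, [47], true, 41),
  (88, [8, 20, 8], true, 41),
  (653, [8, 20, 8], false, 41),
  (173, [8, 44, 8], true, 41),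
  (586, [8, 44, 8], false, 41),
  (462, [11, 23, 11], true, 41),
  (519, [11, 23, 11], false, 41),
  (159, [11, 47, 11], false, 41),
  (525, [11, 47, 11], true, 41),
  (75, [23], false, 43),
  (447, [23], true, 43),
  (183, [32], false, 43),
  (339, [32], true, 43),
  (23, [44], false, 43),
  (259, [44], true, 43),
  (48, [47], false, 43),
  (393, [47], true, 43),
  (164, [8, 20, 8], true, 43),
  (568, [8, 20, 8], false, 43),
  (57, [11, 23, 11], false, 43)]

def leviEntries6 : List (ℕ × List ℕ × Bool × ℕ) := [
  (195, [11, 23, 11], true, 43),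
  (39, [11, 47, 11], false, 43),
  (645, [11, 47, 11], true, 43),
  (85, [8], true, 45),
  (656, [8], false, 45),
  (503, [31], false, 45),
  (508, [31], true, 45),
  (350, [32], false, 45),
  (661, [32], true, 45),
  (91, [8, 20, 8], true, 45),
  (668, [8, 20, 8], false, 45),
  (237, [9], true, 47),
  (285, [9], false, 47),
  (123, [32], false, 47),
  (399, [32], true, 47),
  (528, [33], false, 47),
  (723, [33], true, 47),
  (609, [34], false, 47),
  (642, [34], true, 47),
  (51, [35], false, 47),
  (714, [35], true, 47),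
  (338, [20], false, 49),
  (673, [20], true, 49),
  (582, [33], false, 49),
  (669, [33], true, 49),
  (182, [44], true, 49),
  (577, [44], false, 49)]

def leviEntries7 : List (ℕ × List ℕ × Bool × ℕ) := [
  (150, [47], false, 49),
  (291, [47], true, 49),
  (430, [8, 44, 8], false, 49),
  (581, [8, 44, 8], true, 49),
  (276, [11, 23, 11], false, 49),
  (705, [11, 23, 11], true, 49),
  (240, [11, 47, 11], false, 49),
  (687, [11, 47, 11], true, 49),
  (502, [44], false, 51),
  (509, [44], true, 51),
  (696, [47], true, 51),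
  (717, [47], false, 51),
  (325, [8, 20, 8], true, 51),
  (407, [8, 20, 8], false, 51),
  (114, [11, 23, 11], false, 51),
  (138, [11, 23, 11], true, 51),
  (444, [11, 47, 11], true, 51),
  (483, [11, 47, 11], false, 51),
  (167, [32], true, 53),
  (574, [32], false, 53),
  (129, [9], true, 55),
  (312, [9], false, 55),
  (555, [33], false, 55),
  (615, [33], true, 55),
  (60, [35], false, 55),
  (111, [35], true, 55),
  (24, [11, 47, 11], false, 55)]

def leviEntries8 : List (ℕ × List ℕ × Bool × ℕ) := [
  (498, [11, 47, 11], true, 55),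
  (109, [22], false, 57),
  (713, [22], true, 57),
  (136, [46], false, 57),
  (695, [46], true, 57),
  (28, [10, 22, 10], false, 57),
  (65, [10, 22, 10], true, 57),
  (217, [10, 46, 10], false, 57),
  (371, [10, 46, 10], true, 57),
  (170, [8], true, 59),
  (571, [8], false, 59),
  (321, [9], false, 63),
  (363, [9], true, 63),
  (120, [33], true, 63),
  (564, [33], false, 63),
  (477, [23], false, 69),
  (603, [23], true, 69),
  (369, [47], false, 69),
  (711, [47], true, 69),
  (108, [11, 23, 11], true, 69),
  (216, [11, 23, 11], false, 69),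
  (441, [23], false, 75),
  (639, [23], true, 75),
  (387, [47], false, 75),
  (693, [47], true, 75),
  (135, [11, 23, 11], true, 75),
  (189, [11, 23, 11], false, 75)]

def leviEntries9 : List (ℕ × List ℕ × Bool × ℕ) := [
  (327, [8], false, 77),
  (654, [8], true, 77),
  (408, [23], false, 77),
  (573, [23], true, 77),
  (87, [11, 23, 11], true, 77),
  (165, [11, 23, 11], false, 77),
  (411, [11, 47, 11], true, 77),
  (570, [11, 47, 11], false, 77),
  (330, [8, 44, 8], false, 79),
  (651, [8, 44, 8], true, 79),
  (84, [11, 23, 11], true, 81),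
  (168, [11, 23, 11], false, 81),
  (468, [22], false, 99),
  (612, [22], true, 99),
  (396, [23], false, 99),
  (684, [23], true, 99),
  (432, [46], false, 99),
  (621, [46], true, 99),
  (288, [47], false, 99),
  (549, [47], true, 99),
  (279, [10, 22, 10], true, 99),
  (558, [10, 22, 10], false, 99),
  (351, [11, 23, 11], true, 99),
  (702, [11, 23, 11], false, 99),
  (360, [22], false, 117),
  (720, [22], true, 117),
  (315, [23], false, 117)]

def leviEntries10 : List (ℕ × List ℕ × Bool × ℕ) := [
  (522, [23], true, 117),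
  (378, [46], false, 117),
  (675, [46], true, 117),
  (450, [47], false, 117),
  (630, [47], true, 117),
  (306, [10, 22, 10], true, 117),
  (531, [10, 22, 10], false, 117),
  (459, [11, 23, 11], false, 117),
  (594, [11, 23, 11], true, 117),
  (156, [23], false, 131),
  (366, [23], true, 131),
  (300, [11, 23, 11], false, 131),
  (681, [11, 23, 11], true, 131),
  (201, [11, 47, 11], false, 131),
  (726, [11, 47, 11], true, 131),
  (343, [20], false, 133),
  (416, [20], true, 133),
  (107, [44], false, 133),
  (175, [44], true, 133),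
  (534, [47], false, 133),
  (636, [47], true, 133),
  (331, [8, 20, 8], false, 133),
  (410, [8, 20, 8], true, 133),
  (381, [11, 23, 11], false, 133),
  (600, [11, 23, 11], true, 133),
  (127, [22], false, 135),
  (722, [22], true, 135)]

def leviEntries11 : List (ℕ × List ℕ × Bool × ℕ) := [
  (154, [46], false, 135),
  (677, [46], true, 135),
  (308, [10, 22, 10], true, 135),
  (514, [10, 22, 10], false, 135),
  (226, [10, 46, 10], false, 135),
  (362, [10, 46, 10], true, 135),
  (561, [33], true, 137),
  (690, [33], false, 137),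
  (309, [35], true, 137),
  (456, [35], false, 137),
  (228, [11, 23, 11], true, 137),
  (537, [11, 23, 11], false, 137),
  (132, [11, 47, 11], false, 137),
  (633, [11, 47, 11], true, 137),
  (210, [9], true, 141),
  (474, [9], false, 141),
  (465, [35], false, 141),
  (678, [35], true, 141),
  (105, [11, 47, 11], false, 141),
  (660, [11, 47, 11], true, 141),
  (227, [22], false, 145),
  (595, [22], true, 145),
  (200, [46], false, 145),
  (631, [46], true, 145),
  (299, [10, 22, 10], false, 145),
  (523, [10, 22, 10], true, 145),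
  (128, [10, 46, 10], false, 145)]

def leviEntries12 : List (ℕ × List ℕ × Bool × ℕ) := [
  (460, [10, 46, 10], true, 145),
  (282, [9], true, 149),
  (402, [9], false, 149),
  (384, [11], false, 149),
  (516, [11], true, 149),
  (66, [35], false, 151),
  (699, [35], true, 151),
  (438, [11, 23, 11], true, 153),
  (543, [11, 23, 11], false, 153),
  (30, [35], false, 157),
  (141, [35], true, 157),
  (12, [11, 47, 11], false, 157),
  (510, [11, 47, 11], true, 157),
  (218, [22], false, 159),
  (604, [22], true, 159),
  (191, [46], false, 159),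
  (640, [46], true, 159),
  (37, [10, 22, 10], true, 159),
  (56, [10, 22, 10], false, 159),
  (110, [10, 46, 10], false, 159),
  (478, [10, 46, 10], true, 159),
  (328, [11], false, 165),
  (413, [11], true, 165),
  (334, [8, 20, 8], true, 167),
  (425, [8, 20, 8], false, 167),
  (118, [22], false, 171),
  (704, [22], true, 171)]

def leviEntries13 : List (ℕ × List ℕ × Bool × ℕ) := [
  (145, [46], false, 171),
  (686, [46], true, 171),
  (271, [10, 22, 10], false, 171),
  (551, [10, 22, 10], true, 171),
  (235, [10, 46, 10], false, 171),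
  (353, [10, 46, 10], true, 171),
  (294, [35], true, 173),
  (471, [35], false, 173),
  (213, [11, 23, 11], true, 173),
  (552, [11, 23, 11], false, 173),
  (147, [11, 47, 11], false, 173),
  (618, [11, 47, 11], true, 173),
  (357, [11], false, 175),
  (624, [11], true, 175),
  (375, [35], false, 179),
  (390, [35], true, 179),
  (95, [9], false, 183),
  (187, [9], true, 183),
  (236, [22], false, 187),
  (613, [22], true, 187),
  (209, [46], false, 187),
  (622, [46], true, 187),
  (280, [10, 22, 10], true, 187),
  (542, [10, 22, 10], false, 187),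
  (119, [10, 46, 10], false, 187),
  (469, [10, 46, 10], true, 187),
  (273, [35], true, 189)]

def leviEntries14 : List (ℕ × List ℕ × Bool × ℕ) := [
  (627, [35], false, 189),
  (186, [11, 47, 11], false, 189),
  (579, [11, 47, 11], true, 189),
  (435, [11], true, 195),
  (708, [11], false, 195),
  (192, [35], false, 199),
  (222, [35], true, 199),
  (255, [11, 47, 11], false, 199),
  (267, [11, 47, 11], true, 199),
  (370, [22], false, 201),
  (479, [22], true, 201),
  (388, [46], false, 201),
  (443, [46], true, 201),
  (46, [10, 22, 10], false, 201),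
  (74, [10, 22, 10], true, 201),
  (605, [10, 46, 10], true, 201),
  (712, [10, 46, 10], false, 201),
  (303, [35], true, 209),
  (597, [35], false, 209),
  (174, [11, 47, 11], false, 209),
  (591, [11, 47, 11], true, 209),
  (354, [35], true, 211),
  (546, [35], false, 211),
  (336, [11, 47, 11], true, 211),
  (429, [11, 47, 11], false, 211),
  (25, [20], false, 215),
  (500, [20], true, 215)]

def leviEntries15 : List (ℕ × List ℕ × Bool × ℕ) := [
  (26, [44], false, 215),
  (499, [44], true, 215),
  (83, [8, 20, 8], true, 215),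
  (406, [8, 20, 8], false, 215),
  (14, [8, 44, 8], false, 215),
  (511, [8, 44, 8], true, 215),
  (352, [31], false, 217),
  (470, [31], true, 217),
  (190, [34], false, 217),
  (389, [34], true, 217),
  (379, [31], false, 219),
  (452, [31], true, 219),
  (47, [34], true, 219),
  (55, [34], false, 219),
  (163, [10, 46, 10], false, 219),
  (326, [10, 46, 10], true, 219),
  (614, [7], true, 223),
  (703, [7], false, 223),
  (348, [47], false, 227),
  (417, [47], true, 227),
  (93, [47], false, 229),
  (672, [47], true, 229),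
  (361, [22], false, 285),
  (461, [22], true, 285),
  (317, [10, 22, 10], true, 285),
  (532, [10, 22, 10], false, 285),
  (596, [10, 46, 10], true, 285)]

def leviEntries16 : List (ℕ × List ℕ × Bool × ℕ) := [
  (721, [10, 46, 10], false, 285),
  (155, [34], true, 295),
  (451, [34], false, 295),
  (632, [10, 22, 10], true, 295),
  (676, [10, 22, 10], false, 295),
  (199, [10, 46, 10], false, 295),
  (380, [10, 46, 10], true, 295),
  (397, [31], false, 297),
  (434, [31], true, 297),
  (316, [34], false, 297),
  (515, [34], true, 297),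
  (172, [10, 46, 10], false, 297),
  (344, [10, 46, 10], true, 297),
  (307, [10], false, 301),
  (524, [10], true, 301),
  (422, [20], true, 315),
  (589, [20], false, 315),
  (86, [8, 20, 8], true, 315),
  (412, [8, 20, 8], false, 315),
  (346, [8, 44, 8], true, 315),
  (665, [8, 44, 8], false, 315),
  (101, [10, 46, 10], false, 319),
  (415, [10, 46, 10], true, 319),
  (298, [10], true, 323),
  (533, [10], false, 323),
  (13, [44], false, 335),
  (512, [44], true, 335)]

def leviEntries17 : List (ℕ × List ℕ × Bool × ℕ) := [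
  (137, [34], false, 337),
  (442, [34], true, 337),
  (29, [34], false, 339),
  (73, [34], true, 339),
  (289, [10, 22, 10], false, 347),
  (560, [10, 22, 10], true, 347),
  (623, [34], true, 349),
  (685, [34], false, 349),
  (146, [10, 22, 10], true, 349),
  (433, [10, 22, 10], false, 349),
  (208, [10, 46, 10], false, 349),
  (398, [10, 46, 10], true, 349),
  (281, [34], true, 351),
  (550, [34], false, 351),
  (181, [10, 46, 10], false, 351),
  (335, [10, 46, 10], true, 351),
  (272, [10], true, 355),
  (559, [10], false, 355),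
  (290, [34], false, 371),
  (541, [34], true, 371),
  (92, [10, 46, 10], false, 371),
  (424, [10, 46, 10], true, 371),
  (340, [44], true, 379),
  (671, [44], false, 379),
  (89, [8, 20, 8], true, 379),
  (409, [8, 20, 8], false, 379),
  (257, [20], false, 385)]

def leviEntries18 : List (ℕ × List ℕ × Bool × ℕ) := [
  (268, [20], true, 385),
  (256, [44], false, 385),
  (269, [44], true, 385),
  (569, [8, 20, 8], false, 385),
  (649, [8, 20, 8], true, 385),
  (641, [34], true, 387),
  (694, [34], false, 387),
  (38, [34], true, 389),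
  (64, [34], false, 389),
  (169, [8, 20, 8], true, 397),
  (329, [8, 20, 8], false, 397),
  (578, [20], false, 401),
  (667, [20], true, 401),
  (97, [44], false, 401),
  (185, [44], true, 401),
  (575, [8, 20, 8], false, 401),
  (652, [8, 20, 8], true, 401),
  (428, [32], true, 403),
  (583, [32], false, 403),
  (166, [32], true, 405),
  (332, [32], false, 405),
  (587, [10, 46, 10], true, 415),
  (658, [10, 46, 10], false, 415),
  (103, [20], false, 423),
  (179, [20], true, 423),
  (572, [8, 20, 8], true, 423),
  (655, [8, 20, 8], false, 423)]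

def leviEntries : List (List (ℕ × List ℕ × Bool × ℕ)) := [leviEntries0, leviEntries1, leviEntries2, leviEntries3, leviEntries4, leviEntries5, leviEntries6, leviEntries7, leviEntries8, leviEntries9, leviEntries10, leviEntries11, leviEntries12, leviEntries13, leviEntries14, leviEntries15, leviEntries16, leviEntries17, leviEntries18]

def leviIdx0 : List ℕ := [
  1,
  2,
  6,
  86,
  3,
  4,
  87,
  30,
  19,
  17,
  9,
  13,
  336,
  458,
  410,
  5,
  54,
  46,
  18,
  14,
  10,
  44,
  60,
  156,
  216,
  404,
  406]

def leviIdx1 : List ℕ := [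
  94,
  222,
  462,
  334,
  0,
  0,
  62,
  0,
  0,
  90,
  342,
  494,
  164,
  0,
  0,
  48,
  0,
  0,
  92,
  392,
  418,
  158,
  0,
  0,
  182,
  0,
  0]

def leviIdx2 : List ℕ := [
  95,
  419,
  343,
  162,
  0,
  0,
  214,
  0,
  0,
  93,
  495,
  223,
  330,
  0,
  0,
  56,
  0,
  0,
  91,
  463,
  393,
  152,
  0,
  0,
  64,
  0,
  0]

def leviIdx3 : List ℕ := [
  88,
  58,
  408,
  254,
  166,
  450,
  248,
  144,
  484,
  28,
  172,
  480,
  426,
  102,
  368,
  50,
  500,
  104,
  39,
  136,
  454,
  132,
  510,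
  120,
  316,
  122,
  288]

def leviIdx4 : List ℕ := [
  236,
  218,
  344,
  215,
  0,
  0,
  204,
  0,
  0,
  108,
  350,
  376,
  230,
  0,
  0,
  176,
  0,
  0,
  126,
  296,
  324,
  210,
  0,
  0,
  310,
  0,
  0]

def leviIdx5 : List ℕ := [
  242,
  220,
  460,
  205,
  0,
  0,
  335,
  0,
  0,
  110,
  352,
  468,
  362,
  0,
  0,
  190,
  0,
  0,
  128,
  298,
  434,
  280,
  0,
  0,
  150,
  0,
  0]

def leviIdx6 : List ℕ := [
  89,
  420,
  160,
  249,
  506,
  208,
  255,
  496,
  226,
  40,
  444,
  146,
  398,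
  289,
  116,
  42,
  114,
  511,
  29,
  474,
  188,
  154,
  98,
  501,
  380,
  369,
  96]

def leviIdx7 : List ℕ := [
  243,
  414,
  340,
  384,
  0,
  0,
  163,
  0,
  0,
  129,
  438,
  320,
  284,
  0,
  0,
  138,
  0,
  0,
  111,
  470,
  372,
  312,
  0,
  0,
  360,
  0,
  0]

def leviIdx8 : List ℕ := [
  237,
  224,
  338,
  63,
  0,
  0,
  385,
  0,
  0,
  127,
  302,
  318,
  308,
  0,
  0,
  142,
  0,
  0,
  109,
  356,
  370,
  174,
  0,
  0,
  196,
  0,
  0]

def leviIdx9 : List ℕ := [
  15,
  11,
  7,
  78,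
  24,
  31,
  82,
  35,
  20,
  76,
  74,
  68,
  386,
  488,
  486,
  45,
  157,
  61,
  70,
  72,
  66,
  41,
  47,
  55,
  387,
  487,
  489]

def leviIdx10 : List ℕ := [
  112,
  354,
  476,
  378,
  0,
  0,
  194,
  0,
  0,
  264,
  374,
  472,
  326,
  0,
  0,
  175,
  0,
  0,
  262,
  464,
  478,
  191,
  0,
  0,
  358,
  0,
  0]

def leviIdx11 : List ℕ := [
  130,
  456,
  322,
  282,
  0,
  0,
  396,
  0,
  0,
  276,
  446,
  300,
  306,
  0,
  0,
  211,
  0,
  0,
  270,
  442,
  430,
  139,
  0,
  0,
  228,
  0,
  0]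

def leviIdx12 : List ℕ := [
  84,
  202,
  421,
  244,
  346,
  497,
  252,
  292,
  507,
  106,
  348,
  475,
  402,
  97,
  184,
  155,
  482,
  26,
  118,
  286,
  445,
  43,
  452,
  33,
  424,
  117,
  170]

def leviIdx13 : List ℕ := [
  266,
  412,
  357,
  400,
  0,
  0,
  364,
  0,
  0,
  268,
  428,
  303,
  229,
  0,
  0,
  281,
  0,
  0,
  234,
  388,
  225,
  57,
  0,
  0,
  366,
  0,
  0]

def leviIdx14 : List ℕ := [
  272,
  416,
  439,
  294,
  0,
  0,
  328,
  0,
  0,
  240,
  390,
  415,
  367,
  0,
  0,
  159,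
  0,
  0,
  258,
  440,
  471,
  177,
  0,
  0,
  327,
  0,
  0]

def leviIdx15 : List ℕ := [
  80,
  409,
  203,
  246,
  485,
  293,
  250,
  451,
  347,
  124,
  455,
  287,
  425,
  140,
  123,
  133,
  34,
  448,
  100,
  481,
  349,
  51,
  27,
  504,
  403,
  192,
  103]

def leviIdx16 : List ℕ := [
  260,
  469,
  441,
  382,
  0,
  0,
  332,
  0,
  0,
  238,
  461,
  391,
  206,
  0,
  0,
  153,
  0,
  0,
  274,
  435,
  417,
  143,
  0,
  0,
  307,
  0,
  0]

def leviIdx17 : List ℕ := [
  278,
  325,
  429,
  148,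
  0,
  0,
  314,
  0,
  0,
  256,
  377,
  413,
  359,
  0,
  0,
  313,
  0,
  0,
  232,
  345,
  389,
  49,
  0,
  0,
  207,
  0,
  0]

def leviIdx18 : List ℕ := [
  16,
  8,
  12,
  83,
  21,
  36,
  79,
  32,
  25,
  71,
  67,
  73,
  217,
  407,
  405,
  52,
  198,
  168,
  77,
  69,
  75,
  53,
  169,
  199,
  337,
  411,
  459]

def leviIdx19 : List ℕ := [
  131,
  301,
  443,
  329,
  0,
  0,
  149,
  0,
  0,
  271,
  323,
  447,
  151,
  0,
  0,
  178,
  0,
  0,
  277,
  431,
  457,
  290,
  0,
  0,
  309,
  0,
  0]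

def leviIdx20 : List ℕ := [
  113,
  479,
  375,
  333,
  0,
  0,
  401,
  0,
  0,
  263,
  473,
  355,
  361,
  0,
  0,
  212,
  0,
  0,
  265,
  477,
  465,
  304,
  0,
  0,
  231,
  0,
  0]

def leviIdx21 : List ℕ := [
  81,
  161,
  490,
  251,
  227,
  512,
  247,
  209,
  502,
  101,
  189,
  498,
  381,
  22,
  193,
  186,
  505,
  99,
  125,
  147,
  508,
  134,
  449,
  115,
  399,
  37,
  141]

def leviIdx22 : List ℕ := [
  279,
  319,
  432,
  397,
  0,
  0,
  295,
  0,
  0,
  233,
  339,
  394,
  65,
  0,
  0,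
  180,
  0,
  0,
  257,
  371,
  422,
  213,
  0,
  0,
  363,
  0,
  0]

def leviIdx23 : List ℕ := [
  261,
  373,
  466,
  365,
  0,
  0,
  379,
  0,
  0,
  275,
  321,
  436,
  311,
  0,
  0,
  291,
  0,
  0,
  239,
  341,
  492,
  181,
  0,
  0,
  165,
  0,
  0]

def leviIdx24 : List ℕ := [
  85,
  491,
  59,
  253,
  503,
  145,
  245,
  513,
  167,
  119,
  509,
  137,
  317,
  171,
  38,
  135,
  121,
  453,
  107,
  499,
  173,
  187,
  105,
  483,
  427,
  185,
  23]

def leviIdx25 : List ℕ := [
  273,
  437,
  299,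
  315,
  0,
  0,
  283,
  0,
  0,
  259,
  467,
  353,
  197,
  0,
  0,
  305,
  0,
  0,
  241,
  493,
  221,
  200,
  0,
  0,
  331,
  0,
  0]

def leviIdx26 : List ℕ := [
  267,
  423,
  351,
  195,
  0,
  0,
  383,
  0,
  0,
  235,
  395,
  219,
  183,
  0,
  0,
  201,
  0,
  0,
  269,
  433,
  297,
  179,
  0,
  0,
  285,
  0,
  0]

def leviIdx : List (List ℕ) := [leviIdx0, leviIdx1, leviIdx2, leviIdx3, leviIdx4, leviIdx5, leviIdx6, leviIdx7, leviIdx8, leviIdx9, leviIdx10, leviIdx11, leviIdx12, leviIdx13, leviIdx14, leviIdx15, leviIdx16, leviIdx17, leviIdx18, leviIdx19, leviIdx20, leviIdx21, leviIdx22, leviIdx23, leviIdx24, leviIdx25, leviIdx26]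

end CfsgLib.OmegaEightThree
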