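import Cfsg.Agent.Lib.OmegaEightThree.SylowTable
import Cfsg.Agent.Lib.OmegaEightThree.LeviTables
import Cfsg.Agent.Lib.OmegaEightThree.CoverTables

/-! Checks on the conjugation tables. -/

set_option autoImplicit false

namespace CfsgLib.OmegaEightThree

/-- Square, or not. -/
def sqM (s : Bool) (y : M8) : M8 := if s then M8.mul y y else y

/-- A vector moved by the cube. -/
def notCube (y : M8) : Bool :=
  ([0, 1, 2, 3, 4, 5, 6, 7] : List ℕ).any fun k =>
    !((y.mv (y.mv (y.mv (V8.dec (3 ^ k))))).beq (V8.dec (3 ^ k)))

def leviEntry (k : ℕ) : ℕ × List ℕ × Bool × ℕ :=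
  (leviEntries.getD (k / 27) []).getD (k % 27) (0, [], false, 0)

def chkLevi (k : ℕ) : Bool :=
  match leviEntry k with
  | (c, w, s, p) =>
    decide (c < 729) &&
    if k < 5 then c == hRoot.getD k 0
    else
      let y := hM (leviEntry p).1
      let g := wordM w
      decide (p < k) && w.all (fun i => decide (i < 48) &&
        (List.range 6).all fun a => decide ((leviConj.getD i []).getD a 0 < 729) &&
          M8.beq (M8.mul (genM i) (genM a)) (M8.mul (vM ((leviConj.getD i []).getD a 0)) (genM i))) &&
        M8.beq (M8.mul g (hM c)) (M8.mul (sqM s y) g)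

theorem levi_check : (List.range 513).all chkLevi = true := by decide +kernel

theorem leviIdx_check : (List.range 729).all (fun j =>
    let n := tabN leviIdx j
    if n = 0 then notCube (hM j) else decide (n ≤ 513) && (leviEntry (n - 1)).1 == j) = true := by
  decide +kernel

def entry (k : ℕ) : ℕ × ℕ × List ℕ × Bool × ℕ :=
  (entries.getD (k / 45) []).getD (k % 45) (0, 0, [], false, 0)

def rootM (a : ℕ) : M8 := hM (hRoot.getD a 0)

def codeM (e : ℕ × ℕ × List ℕ × Bool × ℕ) : M8 := M8.mul (vM e.1) (rootM e.2.1)

def repM (k : ℕ) : M8 := reps.getD k M8.one

def chkEntry (k : ℕ) : Bool :=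
  let e := entry k
  if k < 13 then M8.beq (codeM e) (repM k)
  else
    decide (e.2.2.2.2 < k) &&
      M8.beq (M8.mul (wordM e.2.2.1) (codeM e))
        (M8.mul (sqM e.2.2.2.1 (codeM (entry e.2.2.2.2))) (wordM e.2.2.1))

theorem entry_check0 : (List.range 506).all (fun i => chkEntry (0 + i)) = true := by decide +kernel

theorem entry_check1 : (List.range 506).all (fun i => chkEntry (506 + i)) = true := by decide +kernel

theorem entry_check2 : (List.range 506).all (fun i => chkEntry (1012 + i)) = true := by decide +kernel

theorem entry_check3 : (List.range 506).all (fun i => chkEntry (1518 + i)) = true := by decide +kernel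

theorem entry_check : (List.range 2024).all chkEntry = true := by
  simp only [List.all_eq_true, List.mem_range]
  intro k hk
  have key : ∀ o, (List.range 506).all (fun i => chkEntry (o + i)) = true → o ≤ k → k < o + 506 →
      chkEntry k = true := fun o h h1 h2 => by
    have := List.all_eq_true.1 h (k - o) (List.mem_range.2 (by omega))
    rwa [show o + (k - o) = k by omega] at this
  rcases lt_or_ge k 506 with h | h
  · exact key 0 entry_check0 (Nat.zero_le k) (by omega)
  rcases lt_or_ge k 1012 with h' | h'
  · exact key 506 entry_check1 h (by omega)
  rcases lt_or_ge k 1518 with h'' | h''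
  · exact key 1012 entry_check2 h' (by omega)
  · exact key 1518 entry_check3 h'' (by omega)

/-- one point of the check of the code index -/
def chkCode (a i : ℕ) : Bool :=
  let n := tabN (codeIdx.getD a []) i
  if n = 0 then (a == 0 && i == 0) || notCube (M8.mul (vM i) (rootM a))
  else decide (n ≤ 2024) && ((entry (n - 1)).1 == i && (entry (n - 1)).2.1 == a)

theorem code_check0 : (List.range 729).all (chkCode 0) = true := by decide +kernel

theorem code_check1 : (List.range 729).all (chkCode 1) = true := by decide +kernel

theorem code_check2 : (List.range 729).all (chkCode 2) = true := by decide +kernel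

theorem code_check3 : (List.range 729).all (chkCode 3) = true := by decide +kernel

theorem code_check4 : (List.range 729).all (chkCode 4) = true := by decide +kernel

theorem code_check : (List.range 5).all (fun a => (List.range 729).all fun i =>
    let n := tabN (codeIdx.getD a []) i
    if n = 0 then (a == 0 && i == 0) || notCube (M8.mul (vM i) (rootM a))
    else decide (n ≤ 2024) && ((entry (n - 1)).1 == i && (entry (n - 1)).2.1 == a)) = true := by
  rw [List.all_eq_true]
  intro a ha
  rw [List.mem_range] at ha
  show (List.range 729).all (chkCode a) = true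
  interval_cases a
  exacts [code_check0, code_check1, code_check2, code_check3, code_check4]

theorem rootM_zero : (M8.beq (rootM 0) M8.one) = true := by decide +kernel

theorem reps_good : (List.range 13).all (fun k => good (repM k) && !(M8.beq (repM k) M8.one) &&
    M8.red (repM k)) = true := by
  decide +kernel

end CfsgLib.OmegaEightThree
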