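import Cfsg.Agent.Lib.OmegaEightThree.Sylow
import Cfsg.Agent.Lib.OmegaEightThree.CoverTable

/-! Every element of order three of `Ω⁺₈(3)` is conjugate to one of thirteen, up to inversion. -/

set_option autoImplicit false

namespace CfsgLib.OmegaEightThree

open Matrix

theorem repM_spec {k : ℕ} (hk : k < 13) : good (repM k) = true ∧ repM k ≠ M8.one ∧ M8.red (repM k) = true := by
  have h := List.all_eq_true.1 reps_good k (List.mem_range.2 hk)
  simp only [Bool.and_eq_true, Bool.not_eq_true'] at h
  exact ⟨h.1.1, fun e => by rw [e, M8.beq_self] at h; simp at h, h.2⟩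

noncomputable def repO (k : ℕ) : O8p := ofGood (repM k)

theorem mat_repO {k : ℕ} (hk : k < 13) : mat (repO k) = toMat (repM k) := mat_ofGood (repM_spec hk).1

theorem repO_mem (k : ℕ) : repO k ∈ Om := ofGood_mem _

theorem repO_cube (k : ℕ) : repO k ^ 3 = 1 := ofGood_cube _

/-- Conjugate in `Ω` to one of the representatives or an inverse. -/
def Covered (x : O8p) : Prop :=
  ∃ g ∈ Om, ∃ k, k < 13 ∧ (g * x * g⁻¹ = repO k ∨ g * x * g⁻¹ = repO k ^ 2)

theorem Covered.of_conj {x g : O8p} (hg : g ∈ Om) (h : Covered (g * x * g⁻¹)) : Covered x := by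
  obtain ⟨a, ha, k, hk, he⟩ := h
  refine ⟨a * g, mul_mem ha hg, k, hk, ?_⟩
  rwa [show a * g * x * (a * g)⁻¹ = a * (g * x * g⁻¹) * a⁻¹ by group]

theorem Covered.sq {x : O8p} (h : Covered x) : Covered (x ^ 2) := by
  obtain ⟨a, ha, k, hk, he⟩ := h
  refine ⟨a, ha, k, hk, ?_⟩
  rw [← conj_pow]
  rcases he with he | he <;> rw [he]
  · exact Or.inr rfl
  · exact Or.inl (by rw [← pow_mul, show 2 * 2 = 3 + 1 from rfl, pow_add, repO_cube, one_mul, pow_one])

theorem mat_sqM (s : Bool) {x : O8p} {A : M8} (h : mat x = toMat A) :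
    mat (if s then x ^ 2 else x) = toMat (sqM s A) := by
  cases s with
  | false => simpa [sqM] using h
  | true => simp only [sqM, if_true]; rw [mat_sq, h, ← toMat_mul]

theorem exists_v' {i : ℕ} (hi : i < 729) : ∃ x ∈ Om, mat x = toMat (vM i) :=
  (exists_v i hi).imp fun _ h => ⟨V3_le h.1, h.2⟩

theorem covered_entry : ∀ k, k < 2024 → ∀ x : O8p, mat x = toMat (codeM (entry k)) → Covered x := by
  intro k
  induction k using Nat.strong_induction_on with
  | _ k ih =>
    intro hk x hx
    have h := List.all_eq_true.1 entry_check k (List.mem_range.2 hk)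
    unfold chkEntry at h
    simp only at h
    split at h
    · rename_i hlt
      refine ⟨1, one_mem _, k, hlt, Or.inl ?_⟩
      rw [one_mul, inv_one, mul_one]
      exact mat_injective (by rw [hx, M8.eq_of_beq h, mat_repO hlt])
    · simp only [Bool.and_eq_true, decide_eq_true_eq] at h
      set g := wordO (entry k).2.2.1
      refine Covered.of_conj (g := g) (wordO_mem _) ?_
      have hy : mat (g * x * g⁻¹) = toMat (sqM (entry k).2.2.2.1 (codeM (entry (entry k).2.2.2.2))) := by
        rw [mat_mul, mat_mul, mat_wordO, hx, ← toMat_mul, M8.eq_of_beq h.2, toMat_mul, ← mat_wordO,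
          mul_assoc, ← mat_mul, mul_inv_cancel, mat_one, mul_one]
      cases hs : (entry k).2.2.2.1 with
      | false =>
        rw [hs] at hy
        exact ih _ h.1 (by omega) _ (by simpa [sqM] using hy)
      | true =>
        rw [hs] at hy
        simp only [sqM, if_true] at hy
        have hp := List.all_eq_true.1 entry_check _ (List.mem_range.2 (show (entry k).2.2.2.2 < 2024 by omega))
        obtain ⟨y, hym⟩ : ∃ y : O8p, mat y = toMat (codeM (entry (entry k).2.2.2.2)) := by
          obtain ⟨v, -, hv⟩ : ∃ v ∈ Om, mat v = toMat (vM (entry (entry k).2.2.2.2).1) := by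
            rcases lt_or_ge (entry (entry k).2.2.2.2).1 729 with h729 | h729
            · exact exists_v' h729
            · refine ⟨1, one_mem _, ?_⟩
              have e : vTab.getD ((entry (entry k).2.2.2.2).1 / 27) [] = [] :=
                List.getD_eq_default _ _ (by rw [show vTab.length = 27 from rfl]; omega)
              rw [vM, tabM, e, List.getD_nil, toMat_one, mat_one]
          obtain ⟨w, hw⟩ : ∃ w : O8p, mat w = toMat (rootM (entry (entry k).2.2.2.2).2.1) := by
            unfold rootM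
            generalize hRoot.getD (entry (entry k).2.2.2.2).2.1 0 = j
            rcases lt_or_ge j 729 with h729 | h729
            · exact (exists_h j h729).imp fun _ h => h.2
            · refine ⟨1, ?_⟩
              have e : hTab.getD (j / 27) [] = [] :=
                List.getD_eq_default _ _ (by rw [show hTab.length = 27 from rfl]; omega)
              rw [hM, tabM, e, List.getD_nil, toMat_one, mat_one]
          exact ⟨v * w, by rw [mat_mul, hv, hw, codeM, toMat_mul]⟩
        have e : g * x * g⁻¹ = y ^ 2 := mat_injective (by rw [hy, mat_sq, hym, toMat_mul])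
        rw [e]
        exact (ih _ h.1 (by omega) y hym).sq

theorem mem_V3_of_levi {k : ℕ} (h : k < 48)
    (hall : ∀ a, a < 6 → (leviConj.getD k []).getD a 0 < 729 ∧
      M8.mul (genM k) (genM a) = M8.mul (vM ((leviConj.getD k []).getD a 0)) (genM k)) :
    ∀ v ∈ V3, genO k * v * (genO k)⁻¹ ∈ V3 := by
  refine normalizes_V3 fun a ha => ?_
  obtain ⟨hlt, e⟩ := hall a ha
  obtain ⟨w, hw, hwm⟩ := exists_v _ hlt
  have e2 : genO k * genO a = w * genO k := mat_injective (by
    rw [mat_mul, mat_mul, hwm, mat_genO, mat_genO, ← toMat_mul, ← toMat_mul, e])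
  rw [e2, mul_inv_cancel_right]; exact hw

theorem word_normalizes {w : List ℕ}
    (h : ∀ i ∈ w, ∀ v ∈ V3, genO i * v * (genO i)⁻¹ ∈ V3) : ∀ v ∈ V3, wordO w * v * (wordO w)⁻¹ ∈ V3 := by
  induction w with
  | nil => intro v hv; simpa [wordO] using hv
  | cons i w ih =>
    intro v hv
    have h1 := ih (fun j hj => h j (List.mem_cons_of_mem _ hj)) v hv
    have h2 := h i List.mem_cons_self _ h1
    rw [wordO, show genO i * wordO w * v * (genO i * wordO w)⁻¹ =
      genO i * (wordO w * v * (wordO w)⁻¹) * (genO i)⁻¹ by group]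
    exact h2

theorem toMat_one_of_cube {y : O8p} {A : M8} (h : mat y = toMat A) (hc : notCube A = true) : y ^ 3 ≠ 1 := by
  intro h3
  simp only [notCube, List.any_eq_true, Bool.not_eq_true'] at hc
  obtain ⟨n, -, hn⟩ := hc
  have e : A.mv (A.mv (A.mv (V8.dec (3 ^ n)))) = V8.dec (3 ^ n) := toVec_inj_get (by
    rw [toVec_mv, toVec_mv, toVec_mv, Matrix.mulVec_mulVec, Matrix.mulVec_mulVec, ← h, ← mat_mul,
      ← mat_mul, show y * y * y = y ^ 3 by rw [pow_succ, pow_two], h3, mat_one, Matrix.one_mulVec])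
    (mv_lt _ _) (get_dec_lt _)
  rw [e, V8.beq_self] at hn
  exact Bool.noConfusion hn

theorem leviEntry_bound {k : ℕ} (hk : k < 513) : (leviEntry k).1 < 729 := by
  have h := List.all_eq_true.1 levi_check k (List.mem_range.2 hk)
  obtain ⟨c, w, s, p, he⟩ : ∃ c w s p, leviEntry k = (c, w, s, p) := ⟨_, _, _, _, rfl⟩
  unfold chkLevi at h
  rw [he] at h ⊢
  simp only [Bool.and_eq_true, decide_eq_true_eq] at h
  exact h.1

theorem cube_prod (a b : O8p) :
    (a * b) ^ 3 = a * (b * a * b⁻¹) * (b ^ 2 * a * (b ^ 2)⁻¹) * b ^ 3 := by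
  simp only [pow_succ, pow_zero, one_mul]; group

theorem covered_over : ∀ k, k < 513 → ∀ v ∈ V3, ∀ t : O8p, mat t = toMat (hM (leviEntry k).1) →
    t ∈ H3 → (v * t) ^ 3 = 1 → v * t ≠ 1 → Covered (v * t) := by
  intro k
  induction k using Nat.strong_induction_on with
  | _ k ih =>
    intro hk v hv t ht htH h3 h1
    have h := List.all_eq_true.1 levi_check k (List.mem_range.2 hk)
    obtain ⟨c, w, s, p, he⟩ : ∃ c w s p, leviEntry k = (c, w, s, p) := ⟨_, _, _, _, rfl⟩
    unfold chkLevi at h
    rw [he] at h ht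
    simp only [Bool.and_eq_true, decide_eq_true_eq] at h ht
    obtain ⟨-, h⟩ := h
    split at h
    · rename_i hk5
      obtain ⟨i, hi, hvm⟩ := mem_V3 hv
      have hc : c = hRoot.getD k 0 := by simpa using h
      have hm : mat (v * t) = toMat (M8.mul (vM i) (rootM k)) := by
        rw [mat_mul, hvm, ht, rootM, hc, toMat_mul]
      have hcc := List.all_eq_true.1 (List.all_eq_true.1 code_check k (List.mem_range.2 hk5)) i
        (List.mem_range.2 hi)
      simp only at hcc
      split at hcc
      · rw [Bool.or_eq_true, Bool.and_eq_true, beq_iff_eq, beq_iff_eq] at hcc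
        rcases hcc with ⟨rfl, rfl⟩ | hcc
        · refine absurd (mat_injective ?_) h1
          rw [hm, toMat_mul, M8.eq_of_beq rootM_zero, vM_zero, toMat_one, one_mul, mat_one]
        · exact absurd h3 (toMat_one_of_cube hm hcc)
      · simp only [Bool.and_eq_true, decide_eq_true_eq, beq_iff_eq] at hcc
        refine covered_entry (tabN (codeIdx.getD k []) i - 1) (by omega) _ ?_
        rw [hm, codeM, hcc.2.1, hcc.2.2]
    · rw [Bool.and_eq_true, Bool.and_eq_true] at h
      obtain ⟨⟨hp, hw⟩, he'⟩ := h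
      have hp' : p < k := of_decide_eq_true hp
      have hW : ∀ i ∈ w, ∀ v ∈ V3, genO i * v * (genO i)⁻¹ ∈ V3 := by
        intro i hi
        have hwi := List.all_eq_true.1 hw i hi
        simp only [Bool.and_eq_true, decide_eq_true_eq, List.all_eq_true, List.mem_range] at hwi
        exact mem_V3_of_levi hwi.1 fun a ha => ⟨(hwi.2 a ha).1, M8.eq_of_beq (hwi.2 a ha).2⟩
      obtain ⟨u, hu, hum⟩ := exists_h _ (leviEntry_bound (show p < 513 by omega))
      set g := wordO w with hg
      refine Covered.of_conj (g := g) (wordO_mem _) ?_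
      have hv' := word_normalizes hW v hv
      rw [← hg] at hv'
      have hmat : g * t * g⁻¹ = if s then u ^ 2 else u := by
        refine mat_injective ?_
        rw [mat_mul, mat_mul, hg, mat_wordO, ht, ← toMat_mul, M8.eq_of_beq he', toMat_mul,
          ← mat_sqM s hum, ← mat_wordO, mul_assoc, ← mat_mul, mul_inv_cancel, mat_one, mul_one]
      have hconj : g * (v * t) * g⁻¹ = g * v * g⁻¹ * (g * t * g⁻¹) := by group
      have hn3 : (g * (v * t) * g⁻¹) ^ 3 = 1 := by rw [conj_pow, h3, mul_one, mul_inv_cancel]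
      have hn1 : g * (v * t) * g⁻¹ ≠ 1 := fun h => h1 (conj_eq_one_iff.1 h)
      rw [hconj, hmat] at hn3 hn1 ⊢
      set v' := g * v * g⁻¹
      cases s with
      | false =>
        simp only [if_false, Bool.false_eq_true] at hn3 hn1 ⊢
        exact ih p hp' (by omega) v' hv' u hum hu hn3 hn1
      | true =>
        simp only [if_true] at hn3 hn1 ⊢
        have hu3 : u ^ 3 = 1 := by
          have hp2 : (v' * u ^ 2) ^ 3 = v' * (u ^ 2 * v' * (u ^ 2)⁻¹) * (u ^ 4 * v' * (u ^ 4)⁻¹) * u ^ 6 := by
            rw [cube_prod, ← pow_mul, ← pow_mul]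
          have hV : v' * (u ^ 2 * v' * (u ^ 2)⁻¹) * (u ^ 4 * v' * (u ^ 4)⁻¹) ∈ V3 :=
            mul_mem (mul_mem hv' (conj_V3 (pow_mem hu 2) hv')) (conj_V3 (pow_mem hu 4) hv')
          rw [hp2] at hn3
          have h6 : u ^ 6 ∈ V3 := by
            rw [← inv_mul_cancel_left (v' * (u ^ 2 * v' * (u ^ 2)⁻¹) * (u ^ 4 * v' * (u ^ 4)⁻¹)) (u ^ 6), hn3,
              mul_one]
            exact inv_mem hV
          have h6' := V3_free h6 (H3_fix (pow_mem hu 6))
          have h27 : u ^ 729 = 1 := by
            have e := pow_card_eq_one' (G := H3) (x := ⟨u, hu⟩)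
            have hH : Nat.card H3 ∣ Nat.card U3 := Subgroup.card_dvd_of_le le_sup_right
            rw [card_U3] at hH
            have : Nat.card H3 ∣ 3 ^ 12 := by simpa using hH
            obtain ⟨m, hm12, hm⟩ := (Nat.dvd_prime_pow Nat.prime_three).1 this
            rw [hm] at e
            have e' : u ^ 3 ^ m = 1 := congrArg Subtype.val e
            have ho : orderOf u ∣ 6 := orderOf_dvd_of_pow_eq_one h6'
            have ho' : orderOf u ∣ 3 ^ m := orderOf_dvd_of_pow_eq_one e'
            obtain ⟨j, hj, hju⟩ := (Nat.dvd_prime_pow Nat.prime_three).1 ho'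
            have : j ≤ 1 := by
              by_contra hcon
              have h9 : 3 ^ 2 ∣ 6 := ((pow_dvd_pow 3 (show 2 ≤ j by omega)).trans (hju ▸ ho))
              norm_num at h9
            refine orderOf_dvd_iff_pow_eq_one.1 ?_
            rw [hju]
            exact (pow_dvd_pow 3 (show j ≤ 6 by omega)).trans (by norm_num)
          have e729 : (729 : ℕ) = 6 * 121 + 3 := by norm_num
          rw [e729, pow_add, pow_mul, h6', one_pow, one_mul] at h27
          exact h27
        have hinv : u ^ 2 = u⁻¹ := eq_inv_of_mul_eq_one_left (by rw [← pow_succ]; exact hu3)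
        have hz : (v' * u ^ 2) ^ 2 = u * v'⁻¹ * u⁻¹ * u := by
          have : (v' * u ^ 2) ^ 2 = (v' * u ^ 2)⁻¹ := eq_inv_of_mul_eq_one_left (by rw [← pow_succ]; exact hn3)
          rw [this, hinv]; group
        have hcov : Covered ((v' * u ^ 2) ^ 2) := by
          rw [hz]
          refine ih p hp' (by omega) _ (conj_V3 hu (inv_mem hv')) u hum hu ?_ ?_
          · rw [← hz, ← pow_mul, mul_comm, pow_mul, hn3, one_pow]
          · rw [← hz]
            intro e2
            exact hn1 (by have := hn3; rwa [pow_succ, e2, one_mul] at this)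
        have h22 := hcov.sq
        rwa [← pow_mul, show 2 * 2 = 3 + 1 from rfl, pow_add, hn3, one_mul, pow_one] at h22

theorem covered {x : O8p} (hx : x ∈ Om) (h3 : x ^ 3 = 1) (h1 : x ≠ 1) : Covered x := by
  obtain ⟨g, hg, hu⟩ := exists_conj_mem_U3 hx h3
  refine Covered.of_conj hg ?_
  set y := g * x * g⁻¹ with hy
  have hy3 : y ^ 3 = 1 := by rw [hy, conj_pow, h3, mul_one, mul_inv_cancel]
  have hy1 : y ≠ 1 := fun h => h1 (by rwa [hy, conj_eq_one_iff] at h)
  obtain ⟨v, hv, t, ht, hyv⟩ := mem_U3 hu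
  rw [hyv] at hy3 hy1 ⊢
  obtain ⟨j, hj, hm⟩ := mem_H3 ht
  have hc := List.all_eq_true.1 leviIdx_check j (List.mem_range.2 hj)
  simp only at hc
  split at hc
  · exfalso
    refine toMat_one_of_cube hm hc ?_
    have hp : (v * t) ^ 3 = v * (t * v * t⁻¹) * (t ^ 2 * v * (t ^ 2)⁻¹) * t ^ 3 := cube_prod v t
    have hV : v * (t * v * t⁻¹) * (t ^ 2 * v * (t ^ 2)⁻¹) ∈ V3 :=
      mul_mem (mul_mem hv (conj_V3 ht hv)) (conj_V3 (pow_mem ht 2) hv)
    rw [hp] at hy3
    refine V3_free ?_ (H3_fix (pow_mem ht 3))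
    rw [← inv_mul_cancel_left (v * (t * v * t⁻¹) * (t ^ 2 * v * (t ^ 2)⁻¹)) (t ^ 3), hy3, mul_one]
    exact inv_mem hV
  · simp only [Bool.and_eq_true, decide_eq_true_eq, beq_iff_eq] at hc
    refine covered_over (tabN leviIdx j - 1) (by omega) v hv t ?_ ht hy3 hy1
    rw [hc.2, hm]

end CfsgLib.OmegaEightThree
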