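import Cfsg.Agent.Lib.OmegaEightThree.Bil
import Cfsg.Agent.Lib.OmegaEightThree.Cover
import Cfsg.Agent.Lib.OmegaEightThree.AutTables

/-! An invariant of isometries under conjugation. -/

set_option autoImplicit false

namespace CfsgLib.OmegaEightThree

open Matrix

def beta (x : O8p) (v : I8 → ZMod 3) : ZMod 3 :=
  bil v (mat x *ᵥ (mat x *ᵥ v)) + bil v (mat x *ᵥ v) + bil v v

/-- Numbers of fixed vectors and of vectors with given value of the associated form. -/
noncomputable def invariant (x : O8p) : ℕ × ℕ × ℕ :=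
  (Nat.card {v // mat x *ᵥ v = v}, Nat.card {v // beta x v = 0}, Nat.card {v // beta x v = 1})

/-- The bijection of vectors given by an isometry. -/
noncomputable def actEquiv (g : O8p) : (I8 → ZMod 3) ≃ (I8 → ZMod 3) where
  toFun v := mat g *ᵥ v
  invFun v := mat g⁻¹ *ᵥ v
  left_inv := mat_inv_mulVec g
  right_inv := mat_mulVec_inv g

theorem invariant_conj (g x : O8p) : invariant (g * x * g⁻¹) = invariant x := by
  have hc : ∀ v, mat (g * x * g⁻¹) *ᵥ (mat g *ᵥ v) = mat g *ᵥ (mat x *ᵥ v) := fun v => by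
    rw [Matrix.mulVec_mulVec, Matrix.mulVec_mulVec, ← mat_mul, ← mat_mul, inv_mul_cancel_right]
  have hb : ∀ v, beta (g * x * g⁻¹) (mat g *ᵥ v) = beta x v := fun v => by
    simp only [beta, hc, bil_mat]
  have hinj : Function.Injective fun v => mat g *ᵥ v := (actEquiv g).injective
  refine (Prod.ext ?_ (Prod.ext ?_ ?_)).symm
  · exact Nat.card_congr ((actEquiv g).subtypeEquiv fun v =>
      ⟨fun h => by show mat (g * x * g⁻¹) *ᵥ (mat g *ᵥ v) = mat g *ᵥ v; rw [hc, h],
       fun h => hinj (by
        have h' : mat (g * x * g⁻¹) *ᵥ (mat g *ᵥ v) = mat g *ᵥ v := h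
        rwa [hc] at h')⟩)
  · exact Nat.card_congr ((actEquiv g).subtypeEquiv fun v => by
      show _ ↔ beta (g * x * g⁻¹) (mat g *ᵥ v) = 0; rw [hb])
  · exact Nat.card_congr ((actEquiv g).subtypeEquiv fun v => by
      show _ ↔ beta (g * x * g⁻¹) (mat g *ᵥ v) = 1; rw [hb])

theorem invariant_sq {x : O8p} (h3 : x ^ 3 = 1) : invariant (x ^ 2) = invariant x := by
  have h4 : ∀ v : I8 → ZMod 3, mat (x ^ 2) *ᵥ (mat (x ^ 2) *ᵥ v) = mat x *ᵥ v := fun v => by
    rw [Matrix.mulVec_mulVec, ← mat_mul, ← pow_add, show 2 + 2 = 3 + 1 from rfl, pow_add, h3, one_mul, pow_one]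
  have hx2 : ∀ v : I8 → ZMod 3, mat (x ^ 2) *ᵥ v = mat x *ᵥ (mat x *ᵥ v) := fun v => by
    rw [mat_sq, ← Matrix.mulVec_mulVec]
  have hb : ∀ v, beta (x ^ 2) v = beta x v := fun v => by
    rw [beta, beta, h4, hx2]; ring
  refine Prod.ext ?_ (Prod.ext ?_ ?_)
  · refine Nat.card_congr (Equiv.subtypeEquivRight fun v => ⟨fun h => ?_, fun h => ?_⟩)
    · rw [← h4 v, h, h]
    · rw [hx2, h, h]
  · exact Nat.card_congr (Equiv.subtypeEquivRight fun v => by rw [hb])
  · exact Nat.card_congr (Equiv.subtypeEquivRight fun v => by rw [hb])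

/-- Sum of three vectors. -/
def addV3 (u v w : V8) : V8 := ⟨u.a + v.a + w.a, u.b + v.b + w.b, u.c + v.c + w.c, u.d + v.d + w.d,
  u.e + v.e + w.e, u.f + v.f + w.f, u.g + v.g + w.g, u.h + v.h + w.h⟩

/-- Sum of three matrices. -/
def sum3 (A B C : M8) : M8 :=
  ⟨addV3 A.r0 B.r0 C.r0, addV3 A.r1 B.r1 C.r1, addV3 A.r2 B.r2 C.r2, addV3 A.r3 B.r3 C.r3,
    addV3 A.r4 B.r4 C.r4, addV3 A.r5 B.r5 C.r5, addV3 A.r6 B.r6 C.r6, addV3 A.r7 B.r7 C.r7⟩

theorem get_sum3 (A B C : M8) (i j : Fin 8) :
    ((sum3 A B C).get i).get j = (A.get i).get j + (B.get i).get j + (C.get i).get j := by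
  fin_cases i <;> fin_cases j <;> rfl

theorem toMat_sum3 (A B C : M8) : toMat (sum3 A B C) = toMat A + toMat B + toMat C := by
  ext i j
  simp [toMat, get_sum3]

/-- `G(x² + x + 1)`. -/
def betaMat (A : M8) : M8 := M8.mul M8.gramMat (sum3 (M8.mul A A) A M8.one)

theorem toMat_betaMat (A : M8) :
    toMat (betaMat A) = toMat M8.gramMat * (toMat A * toMat A + toMat A + toMat M8.one) := by
  rw [betaMat, toMat_mul, toMat_sum3, toMat_mul]

theorem beta_eq {x : O8p} {A : M8} (hx : mat x = toMat A) (u : V8) :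
    beta x (toVec u) = ((u.dot ((betaMat A).mv u) : ℕ) : ZMod 3) := by
  rw [dot_eq, toVec_mv, toMat_betaMat, toMat_one, beta, bil, bil, bil, hx, ← Matrix.mulVec_mulVec,
    Matrix.add_mulVec, Matrix.add_mulVec, ← Matrix.mulVec_mulVec, Matrix.one_mulVec, Matrix.mulVec_add,
    Matrix.mulVec_add, dotProduct_add, dotProduct_add]

def fixB (A : M8) (n : ℕ) : Bool := (A.mv (V8.dec n)).beq (V8.dec n)

def betaB (K : M8) (t n : ℕ) : Bool :=
  let v := V8.dec n
  (v.dot (K.mv v)).beq t

/-- Count the codes below `n` satisfying `p`. -/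
def cnt (p : ℕ → Bool) (n : ℕ) : ℕ := (List.range n).countP p

theorem card_fin_filter (n : ℕ) (p : ℕ → Bool) :
    Nat.card {k : Fin n // p k = true} = cnt p n := by
  classical
  rw [Nat.card_eq_fintype_card, Fintype.card_subtype, ← Finset.card_map Fin.valEmbedding, cnt,
    List.countP_eq_length_filter, ← List.toFinset_card_of_nodup ((List.nodup_range).filter _)]
  congr 1
  ext m
  simp only [Finset.mem_map, Finset.mem_filter, Finset.mem_univ, true_and, Fin.valEmbedding_apply,
    List.mem_toFinset, List.mem_filter, List.mem_range]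
  exact ⟨by rintro ⟨k, hk, rfl⟩; exact ⟨k.2, hk⟩, fun ⟨h1, h2⟩ => ⟨⟨m, h1⟩, h2, rfl⟩⟩

theorem card_vec {P : (I8 → ZMod 3) → Prop} (p : ℕ → Bool) (h : ∀ k : Fin 6561, P (vecOf k) ↔ p k = true) :
    Nat.card {v // P v} = cnt p 6561 := by
  rw [← card_fin_filter]
  exact (Nat.card_congr ((Equiv.ofBijective _ vecOf_bijective).subtypeEquiv
    (p := fun k : Fin 6561 => p k = true) fun k => (h k).symm)).symm

def invB (A : M8) : ℕ × ℕ × ℕ :=
  (cnt (fixB A) 6561, cnt (betaB (betaMat A) 0) 6561, cnt (betaB (betaMat A) 1) 6561)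

theorem invariant_eq {x : O8p} {A : M8} (hx : mat x = toMat A) : invariant x = invB A := by
  have hb : ∀ (t : ℕ), t < 3 → ∀ k : Fin 6561,
      beta x (vecOf k) = (t : ZMod 3) ↔ betaB (betaMat A) t k = true := by
    intro t ht k
    rw [vecOf, beta_eq hx, betaB, Nat.beq_eq, ZMod.natCast_eq_natCast_iff', Nat.mod_eq_of_lt ht,
      Nat.mod_eq_of_lt (show (V8.dec k).dot _ < 3 from Nat.mod_lt _ (by norm_num))]
  rw [invariant, invB, card_vec (fixB A) fun k => ?_, card_vec (betaB (betaMat A) 0) fun k => ?_,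
    card_vec (betaB (betaMat A) 1) fun k => ?_]
  · simpa using hb 1 (by norm_num) k
  · simpa using hb 0 (by norm_num) k
  · show mat x *ᵥ vecOf k = vecOf k ↔ _
    rw [vecOf, hx, ← toVec_mv, fixB]
    refine ⟨fun h => ?_, fun h => by rw [V8.eq_of_beq h]⟩
    rw [toVec_inj_get h (mv_lt _ _) (get_dec_lt _)]
    exact V8.beq_self _

theorem inv_check0 : decide (invB (repM 0) = invList.getD 0 (0, 0, 0)) = true := by decide +kernel

theorem inv_check1 : decide (invB (repM 1) = invList.getD 1 (0, 0, 0)) = true := by decide +kernel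

theorem inv_check2 : decide (invB (repM 2) = invList.getD 2 (0, 0, 0)) = true := by decide +kernel

theorem inv_check3 : decide (invB (repM 3) = invList.getD 3 (0, 0, 0)) = true := by decide +kernel

theorem inv_check4 : decide (invB (repM 4) = invList.getD 4 (0, 0, 0)) = true := by decide +kernel

theorem inv_check5 : decide (invB (repM 5) = invList.getD 5 (0, 0, 0)) = true := by decide +kernel

theorem inv_check6 : decide (invB (repM 6) = invList.getD 6 (0, 0, 0)) = true := by decide +kernel

theorem inv_check7 : decide (invB (repM 7) = invList.getD 7 (0, 0, 0)) = true := by decide +kernel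

theorem inv_check8 : decide (invB (repM 8) = invList.getD 8 (0, 0, 0)) = true := by decide +kernel

theorem inv_check9 : decide (invB (repM 9) = invList.getD 9 (0, 0, 0)) = true := by decide +kernel

theorem inv_check10 : decide (invB (repM 10) = invList.getD 10 (0, 0, 0)) = true := by decide +kernel

theorem inv_check11 : decide (invB (repM 11) = invList.getD 11 (0, 0, 0)) = true := by decide +kernel

theorem inv_check12 : decide (invB (repM 12) = invList.getD 12 (0, 0, 0)) = true := by decide +kernel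

theorem inv_check : (List.range 13).all (fun k => decide (invB (repM k) = invList.getD k (0, 0, 0))) = true := by
  rw [List.all_eq_true]
  intro k hk
  rw [List.mem_range] at hk
  interval_cases k
  exacts [inv_check0, inv_check1, inv_check2, inv_check3, inv_check4, inv_check5, inv_check6, inv_check7, inv_check8, inv_check9, inv_check10, inv_check11, inv_check12]

theorem invariant_rep {k : ℕ} (hk : k < 13) : invariant (repO k) = invList.getD k (0, 0, 0) := by
  have h := List.all_eq_true.1 inv_check k (List.mem_range.2 hk)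
  simp only [decide_eq_true_eq] at h
  exact (invariant_eq (mat_repO hk)).trans h

end CfsgLib.OmegaEightThree
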