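import Cfsg.Agent.Lib.OmegaEightThree.Aut
import Cfsg.Agent.Lib.OmegaEightThree.Invariant
import Cfsg.Agent.Lib.Geometry.D4Normal

/-! The thirteen classes of subgroups of order three and the action of automorphisms on them. -/

set_option autoImplicit false

namespace CfsgLib.OmegaEightThree

open CfsgLib.Geometry

/-- The representative subgroups. -/
noncomputable def CL (i : Fin 13) : Subgroup L8 := Subgroup.zpowers (repL i)

/-- Conjugacy. -/
def Rel (X Y : Subgroup L8) : Prop := ∃ l : L8, X.map (MulAut.conj l).toMonoidHom = Y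

theorem Rel.refl (X : Subgroup L8) : Rel X X := ⟨1, by ext; simp⟩

theorem map_conj_mul (X : Subgroup L8) (a b : L8) :
    (X.map (MulAut.conj a).toMonoidHom).map (MulAut.conj b).toMonoidHom = X.map (MulAut.conj (b * a)).toMonoidHom := by
  rw [Subgroup.map_map]
  congr 1
  ext x; simp [mul_assoc]

theorem Rel.trans {X Y Z : Subgroup L8} (h : Rel X Y) (h' : Rel Y Z) : Rel X Z := by
  obtain ⟨a, rfl⟩ := h
  obtain ⟨b, rfl⟩ := h'
  exact ⟨b * a, (map_conj_mul X a b).symm⟩

theorem Rel.symm {X Y : Subgroup L8} (h : Rel X Y) : Rel Y X := by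
  obtain ⟨a, rfl⟩ := h
  exact ⟨a⁻¹, by rw [map_conj_mul, inv_mul_cancel]; ext; simp⟩

theorem Rel.map {X Y : Subgroup L8} (h : Rel X Y) (α : MulAut L8) :
    Rel (X.map α.toMonoidHom) (Y.map α.toMonoidHom) := by
  obtain ⟨a, rfl⟩ := h
  refine ⟨α a, ?_⟩
  rw [Subgroup.map_map, Subgroup.map_map]
  congr 1
  ext x; simp

theorem zpowers_repL_sq {k : ℕ} (hk : k < 13) : Subgroup.zpowers (repL k ^ 2) = Subgroup.zpowers (repL k) := by
  refine le_antisymm (Subgroup.zpowers_le.2 (pow_mem (Subgroup.mem_zpowers _) 2))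
    (Subgroup.zpowers_le.2 ⟨2, ?_⟩)
  show (repL k ^ 2) ^ (2 : ℤ) = _
  have e4 : (repL k ^ 2) ^ 2 = repL k := by
    have e := pow_orderOf_eq_one (repL k)
    rw [order_repL hk] at e
    rw [← pow_mul, show 2 * 2 = 3 + 1 from rfl, pow_add, e, one_mul, pow_one]
  exact (zpow_natCast _ 2).trans e4

theorem rel_zpowers {x l : L8} {j : Fin 13} (h : l * x * l⁻¹ = repL j ∨ l * x * l⁻¹ = repL j ^ 2) :
    Rel (Subgroup.zpowers x) (CL j) := by
  refine ⟨l, ?_⟩
  rw [MonoidHom.map_zpowers]
  show Subgroup.zpowers (l * x * l⁻¹) = _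
  rcases h with h | h <;> rw [h]
  · rfl
  · exact zpowers_repL_sq j.2

theorem card_CL (i : Fin 13) : Nat.card (CL i) = 3 := by rw [CL, Nat.card_zpowers, order_repL i.2]

theorem exists_class {X : Subgroup L8} (hX : Nat.card X = 3) : ∃ i, Rel X (CL i) := by
  haveI : IsCyclic X := isCyclic_of_prime_card hX
  obtain ⟨⟨x, hxX⟩, hgen⟩ := IsCyclic.exists_generator (α := X)
  have hXe : X = Subgroup.zpowers x := by
    refine le_antisymm (fun y hy => ?_) (by rwa [Subgroup.zpowers_le])
    obtain ⟨k, hk⟩ := hgen ⟨y, hy⟩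
    exact ⟨k, congrArg Subtype.val hk⟩
  have ho : orderOf x = 3 := by rw [← Nat.card_zpowers, ← hXe, hX]
  obtain ⟨y, h3, h1, rfl⟩ := exists_lift ho
  obtain ⟨g, hg, k, hk, he⟩ := covered y.2 (congrArg Subtype.val h3) (fun h => h1 (Subtype.ext h))
  refine ⟨⟨k, hk⟩, hXe ▸ rel_zpowers (l := proj ⟨g, hg⟩) ?_⟩
  rw [← map_inv, ← map_mul, ← map_mul]
  rcases he with he | he
  · exact Or.inl (congrArg proj (Subtype.ext he))
  · refine Or.inr ?_
    rw [repL, ← map_pow]
    exact congrArg proj (Subtype.ext he)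

theorem inv_eq_of_rel {i j : Fin 13} (h : Rel (CL i) (CL j)) :
    invList.getD i (0, 0, 0) = invList.getD j (0, 0, 0) := by
  obtain ⟨l, hl⟩ := h
  obtain ⟨g, rfl⟩ := proj_surjective l
  have hmem : proj g * repL i * (proj g)⁻¹ ∈ Subgroup.zpowers (repL j) := by
    show _ ∈ CL j
    rw [← hl]; exact ⟨_, Subgroup.mem_zpowers _, rfl⟩
  obtain ⟨m, hm⟩ := mem_powers_iff_mem_zpowers.2 hmem
  have hmod : repL j ^ (m % 3) = proj g * repL i * (proj g)⁻¹ := by
    have e := pow_mod_orderOf (repL j) m
    rw [order_repL j.2] at e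
    exact e.trans hm
  rw [repL, repL, ← map_pow, ← map_inv, ← map_mul, ← map_mul] at hmod
  have he := eq_of_proj_eq (by rw [← pow_mul, mul_comm, pow_mul, repOm_cube, one_pow])
    (by rw [conj_pow, repOm_cube, mul_one, mul_inv_cancel]) hmod
  have he' : (repO j) ^ (m % 3) = g.1 * repO i * g.1⁻¹ := by
    have := congrArg Subtype.val he
    simpa [repOm] using this
  rw [← invariant_rep i.2, ← invariant_rep j.2, ← invariant_conj g.1 (repO i), ← he']
  rcases (by omega : m % 3 = 0 ∨ m % 3 = 1 ∨ m % 3 = 2) with h | h | h <;> rw [h]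
  · exfalso
    rw [h, pow_zero] at he'
    refine repOm_ne_one i.2 (Subtype.ext ?_)
    exact conj_eq_one_iff.1 he'.symm
  · rw [pow_one]
  · exact invariant_sq (repO_cube _)

/-- The class of a subgroup. -/
noncomputable def cls (X : Subgroup L8) : Fin 13 := Classical.epsilon fun i => Rel X (CL i)

theorem cls_spec {X : Subgroup L8} (hX : Nat.card X = 3) : Rel X (CL (cls X)) :=
  Classical.epsilon_spec (exists_class hX)

theorem card_map_aut (X : Subgroup L8) (α : MulAut L8) : Nat.card (X.map α.toMonoidHom) = Nat.card X :=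
  Subgroup.card_map_of_injective α.injective

noncomputable def autWord : List ℕ → (ℕ → MulAut L8) → MulAut L8
  | [], _ => 1
  | a :: w, f => f a * autWord w f

/-- A tabulated permutation. -/
def tab (p : List ℕ) (i : Fin 13) : Fin 13 := ⟨p.getD i 0 % 13, Nat.mod_lt _ (by norm_num)⟩

def genTab (a : ℕ) : List ℕ := match a with | 0 => permR | 1 => permD | _ => permT

def tabWord : List ℕ → Fin 13 → Fin 13
  | [], i => i
  | a :: w, i => tab (genTab a) (tabWord w i)

theorem genTab_check : (List.range 3).all (fun a => (List.range 13).all fun i =>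
    ((cert a).getD i (0, [], false)).1 == (genTab a).getD i 0) = true := by decide +kernel

theorem rel_gen {a : ℕ} (ha : a < 3) (i : Fin 13) :
    Rel ((CL i).map (autGen a).toMonoidHom) (CL (tab (genTab a) i)) := by
  obtain ⟨hlt, l, hl⟩ := autGen_conj ha i.2
  have he := List.all_eq_true.1 (List.all_eq_true.1 genTab_check a (List.mem_range.2 ha)) i.val (List.mem_range.2 i.2)
  rw [beq_iff_eq] at he
  rw [CL, MonoidHom.map_zpowers]
  refine rel_zpowers (l := l) ?_
  have hv : (tab (genTab a) i).val = ((cert a).getD i.val (0, [], false)).1 := by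
    show (genTab a).getD i.val 0 % 13 = _
    rw [← he, Nat.mod_eq_of_lt hlt]
  rw [hv]
  exact hl

/-- The automorphism of a word. -/
noncomputable def wordAut (w : List ℕ) : MulAut L8 := autWord w autGen

theorem rel_word : ∀ (w : List ℕ), (∀ a ∈ w, a < 3) → ∀ i : Fin 13,
    Rel ((CL i).map (wordAut w).toMonoidHom) (CL (tabWord w i))
  | [], _, i => by
    rw [show (CL i).map (wordAut []).toMonoidHom = CL i by ext; simp [wordAut, autWord]]
    exact Rel.refl _
  | a :: w, h, i => by
    have h1 := (rel_word w (fun b hb => h b (List.mem_cons_of_mem _ hb)) i).map (autGen a)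
    have h2 := rel_gen (h a List.mem_cons_self) (tabWord w i)
    refine Rel.trans ?_ h2
    rwa [Subgroup.map_map] at h1

/-- The word of a tabulated permutation. -/
def wordOf (k : Fin 24) : List ℕ := (closedPerms.getD k ([], [])).2

theorem wordOf_lt (k : Fin 24) : ∀ a ∈ wordOf k, a < 3 := by
  revert k; decide +kernel

/-- The twenty-four permutations. -/
def P24 (k : Fin 24) : Fin 13 → Fin 13 := tab (closedPerms.getD k ([], [])).1

theorem P24_eq (k : Fin 24) (i : Fin 13) : tabWord (wordOf k) i = P24 k i := by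
  revert k i; decide +kernel

theorem P24_injective : Function.Injective P24 := by
  have h : ∀ a b : Fin 24, (∀ i, P24 a i = P24 b i) → a = b := by decide +kernel
  exact fun a b e => h a b (congrFun e)

theorem separated : ∀ i j : Fin 13,
    (∀ k : Fin 24, invList.getD (P24 k i).val (0, 0, 0) = invList.getD (P24 k j).val (0, 0, 0)) → i = j := by
  decide +kernel

theorem CL_inj {i j : Fin 13} (h : Rel (CL i) (CL j)) : i = j := by
  refine separated i j fun k => inv_eq_of_rel ?_
  rw [← P24_eq, ← P24_eq]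
  exact ((rel_word _ (wordOf_lt k) i).symm.trans (h.map _)).trans (rel_word _ (wordOf_lt k) j)

theorem cls_eq {X : Subgroup L8} {i : Fin 13} (hX : Nat.card X = 3) (h : Rel X (CL i)) : cls X = i :=
  CL_inj ((cls_spec hX).symm.trans h)

/-- The action on the classes. -/
noncomputable def act13 (α : MulAut L8) (i : Fin 13) : Fin 13 := cls ((CL i).map α.toMonoidHom)

theorem rel_act13 (α : MulAut L8) (i : Fin 13) : Rel ((CL i).map α.toMonoidHom) (CL (act13 α i)) :=
  cls_spec (by rw [card_map_aut, card_CL])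

theorem act13_mul (α β : MulAut L8) (i : Fin 13) : act13 (α * β) i = act13 α (act13 β i) := by
  refine cls_eq (by rw [card_map_aut, card_CL]) (Rel.trans ?_ (rel_act13 α (act13 β i)))
  have := (rel_act13 β i).map α
  rwa [Subgroup.map_map] at this

theorem act13_one (i : Fin 13) : act13 1 i = i :=
  cls_eq (by rw [card_map_aut, card_CL]) (by
    rw [show (CL i).map (1 : MulAut L8).toMonoidHom = CL i by ext; simp]
    exact Rel.refl _)

/-- The permutation representation on the classes. -/
noncomputable def perm13 : MulAut L8 →* Equiv.Perm (Fin 13) where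
  toFun α :=
    { toFun := act13 α
      invFun := act13 α⁻¹
      left_inv := fun i => by rw [← act13_mul, inv_mul_cancel, act13_one]
      right_inv := fun i => by rw [← act13_mul, mul_inv_cancel, act13_one] }
  map_one' := Equiv.ext act13_one
  map_mul' α β := Equiv.ext (act13_mul α β)

theorem perm13_word (k : Fin 24) : ⇑(perm13 (wordAut (wordOf k))) = P24 k := funext fun i => by
  rw [← P24_eq]
  exact cls_eq (by rw [card_map_aut, card_CL]) (rel_word _ (wordOf_lt k) i)

theorem perm13_conj (l : L8) : perm13 (MulAut.conj l) = 1 := Equiv.ext fun i =>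
  cls_eq (by rw [card_map_aut, card_CL]) (Rel.symm ⟨l, rfl⟩)

theorem card_out : Nat.card (Cfsg.Out L8) = 24 := by
  obtain ⟨u⟩ := out_plus_four_odd (F := ZMod 3) (p := 3) (f := 1) Nat.prime_three (by norm_num) le_rfl (by simp)
  rw [Nat.card_congr u.toEquiv, Nat.card_prod]
  simp [Nat.card_eq_fintype_card, Fintype.card_perm]
  rfl

/-- The induced representation of the outer group. -/
noncomputable def permOut : Cfsg.Out L8 →* Equiv.Perm (Fin 13) :=
  QuotientGroup.lift (Cfsg.Inn L8) perm13 (by rintro _ ⟨l, rfl⟩; exact perm13_conj l)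

theorem permOut_mk (α : MulAut L8) : permOut (QuotientGroup.mk' _ α) = perm13 α := rfl

theorem permOut_props : Function.Injective permOut ∧ ∀ o, ∃ k : Fin 24, ⇑(permOut o) = P24 k := by
  haveI : Finite (Cfsg.Out L8) := Nat.finite_of_card_ne_zero (by rw [card_out]; norm_num)
  let f : Fin 24 → Cfsg.Out L8 := fun k => QuotientGroup.mk' _ (wordAut (wordOf k))
  have hf : ∀ k, ⇑(permOut (f k)) = P24 k := fun k => perm13_word k
  have hinj : Function.Injective f := fun a b h => P24_injective (by rw [← hf, ← hf, h])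
  have hsurj : Function.Surjective f :=
    (hinj.bijective_of_nat_card_le (by rw [card_out, Nat.card_fin])).2
  refine ⟨fun x y h => ?_, fun o => ?_⟩
  · obtain ⟨a, rfl⟩ := hsurj x
    obtain ⟨b, rfl⟩ := hsurj y
    exact congrArg f (P24_injective (by rw [← hf, ← hf, h]))
  · obtain ⟨a, rfl⟩ := hsurj o
    exact ⟨a, hf a⟩

end CfsgLib.OmegaEightThree
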