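import Cfsg.Agent.Lib.OmegaEightThree.Classes
import Cfsg.Agent.S5515

/-! Subgroups of order three of `PΩ⁺₈(3)` and their orbits under an extension by `S₃`. -/

set_option autoImplicit false

namespace CfsgLib.OmegaEightThree

open CfsgLib.Geometry

theorem main13 : ∃ Y : Fin 13 → Subgroup L8, (∀ i, Nat.card (Y i) = 3) ∧
    (∀ i j, (∃ g : L8, (Y i).map (MulAut.conj g).toMonoidHom = Y j) → i = j) ∧
    (∀ X : Subgroup L8, Nat.card X = 3 → ∃ i, ∃ g : L8, X.map (MulAut.conj g).toMonoidHom = Y i) :=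
  ⟨CL, card_CL, fun _ _ h => CL_inj h, fun _ hX => exists_class hX⟩

/-- The six products. -/
def six (a b : Fin 24) : List (Fin 13 → Fin 13) :=
  [id, P24 a, P24 a ∘ P24 a, P24 b, P24 a ∘ P24 b, P24 a ∘ P24 a ∘ P24 b]

/-- A point is least in its orbit. -/
def isMin (a b : Fin 24) (i : Fin 13) : Bool := (six a b).all fun g => decide (i ≤ g i)

theorem seven_check : ∀ a b : Fin 24, (∀ i, P24 a (P24 a (P24 a i)) = i) → (∀ i, P24 b (P24 b i) = i) →
    (∀ i, P24 b (P24 a (P24 b i)) = P24 a (P24 a i)) → (∃ i, P24 a i ≠ i) → (∃ i, P24 b i ≠ i) →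
      (Finset.univ.filter fun i => isMin a b i = true).card = 7 := by
  decide +kernel

theorem six_of_perm : ∀ σ : Equiv.Perm (Fin 3),
    σ = 1 ∨ σ = finRotate 3 ∨ σ = finRotate 3 * finRotate 3 ∨ σ = Equiv.swap 0 1 ∨
      σ = finRotate 3 * Equiv.swap 0 1 ∨ σ = finRotate 3 * finRotate 3 * Equiv.swap 0 1 := by
  decide +kernel

theorem rot_rel : finRotate 3 * finRotate 3 * finRotate 3 = 1 ∧
    Equiv.swap (0 : Fin 3) 1 * Equiv.swap 0 1 = 1 ∧
    Equiv.swap (0 : Fin 3) 1 * finRotate 3 * Equiv.swap 0 1 = finRotate 3 * finRotate 3 ∧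
    finRotate 3 ≠ 1 ∧ Equiv.swap (0 : Fin 3) 1 ≠ 1 := by
  decide +kernel

/-- An order-six subgroup of the outer group has seven orbits on the classes. -/
theorem seven_orbits (h : Equiv.Perm (Fin 3) →* Equiv.Perm (Fin 13)) (hinj : Function.Injective h)
    (hP : ∀ σ, ∃ k : Fin 24, ⇑(h σ) = P24 k) :
    ∃ r : Fin 7 → Fin 13, (∀ k l σ, h σ (r k) = r l → k = l) ∧ ∀ i, ∃ k σ, h σ i = r k := by
  classical
  obtain ⟨h1, h2, h3, h4, h5⟩ := rot_rel
  obtain ⟨a, ha⟩ := hP (finRotate 3)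
  obtain ⟨b, hb⟩ := hP (Equiv.swap 0 1)
  have hne : ∀ σ : Equiv.Perm (Fin 3), σ ≠ 1 → ∃ i, h σ i ≠ i := fun σ hσ => by
    by_contra hcon
    push Not at hcon
    exact hσ (hinj (by rw [map_one]; exact Equiv.ext hcon))
  have happ : ∀ (σ τ : Equiv.Perm (Fin 3)) i, h (σ * τ) i = h σ (h τ i) := fun σ τ i => by
    rw [map_mul]; rfl
  have hone : ∀ i, h 1 i = i := fun i => by rw [map_one]; rfl
  have hcard := seven_check a b
    (fun i => by rw [← ha, ← happ, ← happ, h1, hone])
    (fun i => by rw [← hb, ← happ, h2, hone])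
    (fun i => by rw [← ha, ← hb, ← happ, ← happ, ← happ, h3])
    (by rw [← ha]; exact hne _ h4) (by rw [← hb]; exact hne _ h5)
  set R := Finset.univ.filter fun i => isMin a b i = true with hR
  have hmem : ∀ i, i ∈ R ↔ ∀ σ, i ≤ h σ i := fun i => by
    simp only [hR, Finset.mem_filter, Finset.mem_univ, true_and, isMin, six, List.all_cons, List.all_nil,
      Bool.and_true, Bool.and_eq_true, decide_eq_true_eq, id_eq, Function.comp_apply]
    rw [← ha, ← hb]
    refine ⟨fun hh σ => ?_, fun hh => ⟨le_rfl, hh _, ?_, hh _, ?_, ?_⟩⟩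
    · obtain ⟨g0, g1, g2, g3, g4, g5⟩ := hh
      rcases six_of_perm σ with rfl | rfl | rfl | rfl | rfl | rfl <;> first | assumption | (simp only [happ, hone]; assumption) | (rw [hone])
    · rw [← happ]; exact hh _
    · rw [← happ]; exact hh _
    · rw [← happ, ← happ]; exact hh _
  refine ⟨fun k => R.orderEmbOfFin hcard k, fun k l σ he => ?_, fun i => ?_⟩
  · simp only at he
    have hk := (hmem _).1 (R.orderEmbOfFin_mem hcard k)
    have hl := (hmem _).1 (R.orderEmbOfFin_mem hcard l)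
    have e : h σ⁻¹ (R.orderEmbOfFin hcard l) = R.orderEmbOfFin hcard k := by
      rw [← he, ← happ, inv_mul_cancel, hone]
    exact (R.orderEmbOfFin hcard).injective (le_antisymm ((hk σ).trans he.le) ((hl σ⁻¹).trans e.le))
  · obtain ⟨σ, -, hσ⟩ := Finset.exists_min_image Finset.univ (fun σ => h σ i) Finset.univ_nonempty
    have hmin : h σ i ∈ R := (hmem _).2 fun τ => by
      rw [← happ]; exact hσ _ (Finset.mem_univ _)
    obtain ⟨k, hk⟩ : h σ i ∈ Set.range (R.orderEmbOfFin hcard) := by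
      rw [Finset.range_orderEmbOfFin]; exact hmin
    exact ⟨k, σ, hk.symm⟩

variable {G : Type*} [Group G] [Finite G]

/-- The seven orbits in an extension by `S₃`. -/
theorem main7 (L : Subgroup G) [L.Normal] (hC : Subgroup.centralizer (L : Set G) ≤ L) (e : L ≃* L8)
    (q : G ⧸ L ≃* Equiv.Perm (Fin 3)) :
    ∃ Y : Fin 7 → Subgroup G, (∀ i, Y i ≤ L ∧ Nat.card (Y i) = 3) ∧
      (∀ i j, (∃ g : G, (Y i).map (MulAut.conj g).toMonoidHom = Y j) → i = j) ∧
      ∀ X : Subgroup G, X ≤ L → Nat.card X = 3 →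
        ∃ i, ∃ g : G, X.map (MulAut.conj g).toMonoidHom = Y i := by
  set φ := Cfsg.Agent.S5515.act L e with hφ
  set f := perm13.comp φ with hf
  have hfL : L ≤ f.ker := fun x hx => by
    rw [MonoidHom.mem_ker, hf, MonoidHom.comp_apply, hφ,
      show x = ((⟨x, hx⟩ : L) : G) from rfl, Cfsg.Agent.S5515.act_coe, perm13_conj]
  have hker : ∀ g, f g = 1 → g ∈ L := by
    intro g hg
    have h1 : QuotientGroup.mk' (Cfsg.Inn L8) (φ g) = 1 := permOut_props.1 (by
      rw [permOut_mk, map_one]; exact hg)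
    obtain ⟨l, hl⟩ := (QuotientGroup.eq_one_iff _).1 h1
    obtain ⟨x, rfl⟩ := e.surjective l
    rw [← Cfsg.Agent.S5515.act_coe L e x] at hl
    have hcomm : φ ((x : G)⁻¹ * g) = 1 := by rw [map_mul, map_inv, ← hl, inv_mul_cancel]
    have hmem : (x : G)⁻¹ * g ∈ L := hC (Subgroup.mem_centralizer_iff.2 fun y hy => by
      have h := DFunLike.congr_fun hcomm (e ⟨y, hy⟩)
      rw [hφ, Cfsg.Agent.S5515.act_apply, MulAut.one_apply] at h
      have h' : ((x : G)⁻¹ * g) * y * ((x : G)⁻¹ * g)⁻¹ = y := congrArg Subtype.val (e.injective h)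
      exact (mul_inv_eq_iff_eq_mul.1 h').symm)
    simpa using mul_mem x.2 hmem
  let h : Equiv.Perm (Fin 3) →* Equiv.Perm (Fin 13) := (QuotientGroup.lift L f hfL).comp q.symm.toMonoidHom
  have hh : ∀ g : G, h (q g) = f g := fun g => by simp [h]
  have hinj : Function.Injective h := by
    rw [← MonoidHom.ker_eq_bot_iff, Subgroup.eq_bot_iff_forall]
    intro σ hσ
    obtain ⟨g, rfl⟩ : ∃ g : G, q g = σ := by
      obtain ⟨g, hg⟩ := QuotientGroup.mk_surjective (q.symm σ)
      exact ⟨g, by rw [hg, q.apply_symm_apply]⟩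
    rw [MonoidHom.mem_ker, hh] at hσ
    rw [(QuotientGroup.eq_one_iff g).2 (hker g hσ), map_one]
  have hsur : ∀ σ, ∃ g : G, q g = σ := fun σ => by
    obtain ⟨g, hg⟩ := QuotientGroup.mk_surjective (q.symm σ)
    exact ⟨g, by rw [hg, q.apply_symm_apply]⟩
  obtain ⟨r, hr, hcov⟩ := seven_orbits h hinj fun σ => by
    obtain ⟨g, rfl⟩ := hsur σ
    rw [hh]
    exact permOut_props.2 (QuotientGroup.mk' _ (φ g))
  let back : Subgroup L8 → Subgroup G := fun Z => (Z.map e.symm.toMonoidHom).map L.subtype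
  have hback : ∀ (g : G) Z, (back Z).map (MulAut.conj g).toMonoidHom = back (Z.map (φ g).toMonoidHom) := by
    intro g Z
    simp only [back, Subgroup.map_map]
    congr 1
    refine MonoidHom.ext fun z => ?_
    obtain ⟨y, rfl⟩ := e.surjective z
    simp only [MonoidHom.comp_apply, MulEquiv.coe_toMonoidHom, hφ, Cfsg.Agent.S5515.act_apply,
      e.symm_apply_apply, MulAut.conj_apply, Subgroup.coe_subtype]
    rfl
  have hbinj : Function.Injective back :=
    (Subgroup.map_injective L.subtype_injective).comp (Subgroup.map_injective e.symm.injective)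
  have hbcard : ∀ Z, Nat.card (back Z) = Nat.card Z := fun Z => by
    simp only [back]
    rw [Subgroup.card_map_of_injective L.subtype_injective, Subgroup.card_map_of_injective e.symm.injective]
  refine ⟨fun k => back (CL (r k)), fun k => ⟨Subgroup.map_subtype_le _, by rw [hbcard, card_CL]⟩, ?_, ?_⟩
  · rintro k l ⟨g, hg⟩
    rw [hback] at hg
    refine hr k l (q g) ?_
    rw [hh]
    exact cls_eq (by rw [card_map_aut, card_CL]) (hbinj hg ▸ Rel.refl _)
  · intro X hXL hX
    obtain ⟨Z, rfl⟩ : ∃ Z, X = back Z := ⟨(X.subgroupOf L).map e.toMonoidHom, by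
      simp only [back, Subgroup.map_map]
      rw [MonoidHom.comp_assoc, show e.symm.toMonoidHom.comp e.toMonoidHom = MonoidHom.id L by ext; simp, MonoidHom.comp_id,
        Subgroup.subgroupOf_map_subtype, inf_eq_left.2 hXL]⟩
    rw [hbcard] at hX
    obtain ⟨k, σ, hσ⟩ := hcov (cls Z)
    obtain ⟨g, rfl⟩ := hsur σ
    rw [hh] at hσ
    have hrel : Rel (Z.map (φ g).toMonoidHom) (CL (r k)) := by
      rw [← hσ]
      exact ((cls_spec hX).map (φ g)).trans (rel_act13 (φ g) (cls Z))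
    obtain ⟨l, hl⟩ := hrel
    obtain ⟨x, rfl⟩ := e.surjective l
    refine ⟨k, (x : G) * g, ?_⟩
    simp only
    rw [hback, ← hl]
    congr 1
    rw [Subgroup.map_map, map_mul φ, hφ, Cfsg.Agent.S5515.act_coe]
    rfl

end CfsgLib.OmegaEightThree
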