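import Cfsg.Agent.Lib.Geometry.D4Theta
import Mathlib.Data.ZMod.Basic

/-! Concrete `8 × 8` matrices over the field with three elements, for kernel computation. -/

set_option autoImplicit false

namespace CfsgLib.OmegaEightThree

/-- A vector with eight natural entries (read modulo three). -/
structure V8 where
  (a b c d e f g h : ℕ)

/-- A matrix given by its eight rows. -/
structure M8 where
  (r0 r1 r2 r3 r4 r5 r6 r7 : V8)

namespace V8

def get (v : V8) : Fin 8 → ℕ := ![v.a, v.b, v.c, v.d, v.e, v.f, v.g, v.h]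

def beq (u v : V8) : Bool :=
  u.a.beq v.a && u.b.beq v.b && u.c.beq v.c && u.d.beq v.d && u.e.beq v.e && u.f.beq v.f && u.g.beq v.g && u.h.beq v.h

theorem eq_of_beq {u v : V8} (h : beq u v = true) : u = v := by
  obtain ⟨a, b, c, d, e, f, g, k⟩ := u
  obtain ⟨a', b', c', d', e', f', g', k'⟩ := v
  simp only [beq, Nat.beq_eq, Bool.and_eq_true] at h
  obtain ⟨⟨⟨⟨⟨⟨⟨rfl, rfl⟩, rfl⟩, rfl⟩, rfl⟩, rfl⟩, rfl⟩, rfl⟩ := h
  rfl

theorem beq_self (v : V8) : beq v v = true := by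
  simp [beq, Nat.beq_eq]

def dot (u v : V8) : ℕ :=
  (u.a * v.a + u.b * v.b + u.c * v.c + u.d * v.d + u.e * v.e + u.f * v.f + u.g * v.g + u.h * v.h) % 3

/-- Decode eight base-three digits. -/
def dec (n : ℕ) : V8 :=
  ⟨n % 3, n / 3 % 3, n / 9 % 3, n / 27 % 3, n / 81 % 3, n / 243 % 3, n / 729 % 3, n / 2187 % 3⟩

/-- Encode. -/
def enc (v : V8) : ℕ :=
  v.a + 3 * v.b + 9 * v.c + 27 * v.d + 81 * v.e + 243 * v.f + 729 * v.g + 2187 * v.h

/-- Multiplication by the Gram matrix of the polar form. -/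
def gram (v : V8) : V8 := ⟨v.e, v.f, v.g, v.h, v.a, v.b, v.c, v.d⟩

def zero : V8 := ⟨0, 0, 0, 0, 0, 0, 0, 0⟩

end V8

namespace M8

def get (M : M8) : Fin 8 → V8 := ![M.r0, M.r1, M.r2, M.r3, M.r4, M.r5, M.r6, M.r7]

def beq (M N : M8) : Bool :=
  M.r0.beq N.r0 && M.r1.beq N.r1 && M.r2.beq N.r2 && M.r3.beq N.r3 && M.r4.beq N.r4 && M.r5.beq N.r5 && M.r6.beq N.r6 && M.r7.beq N.r7

theorem eq_of_beq {M N : M8} (h : beq M N = true) : M = N := by
  obtain ⟨a, b, c, d, e, f, g, k⟩ := M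
  obtain ⟨a', b', c', d', e', f', g', k'⟩ := N
  simp only [beq, Bool.and_eq_true] at h
  obtain ⟨⟨⟨⟨⟨⟨⟨h0, h1⟩, h2⟩, h3⟩, h4⟩, h5⟩, h6⟩, h7⟩ := h
  rw [V8.eq_of_beq h0, V8.eq_of_beq h1, V8.eq_of_beq h2, V8.eq_of_beq h3, V8.eq_of_beq h4, V8.eq_of_beq h5, V8.eq_of_beq h6, V8.eq_of_beq h7]

theorem beq_self (M : M8) : beq M M = true := by
  simp [beq, V8.beq_self]

def transpose (M : M8) : M8 :=
  ⟨⟨M.r0.a, M.r1.a, M.r2.a, M.r3.a, M.r4.a, M.r5.a, M.r6.a, M.r7.a⟩,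
   ⟨M.r0.b, M.r1.b, M.r2.b, M.r3.b, M.r4.b, M.r5.b, M.r6.b, M.r7.b⟩,
   ⟨M.r0.c, M.r1.c, M.r2.c, M.r3.c, M.r4.c, M.r5.c, M.r6.c, M.r7.c⟩,
   ⟨M.r0.d, M.r1.d, M.r2.d, M.r3.d, M.r4.d, M.r5.d, M.r6.d, M.r7.d⟩,
   ⟨M.r0.e, M.r1.e, M.r2.e, M.r3.e, M.r4.e, M.r5.e, M.r6.e, M.r7.e⟩,
   ⟨M.r0.f, M.r1.f, M.r2.f, M.r3.f, M.r4.f, M.r5.f, M.r6.f, M.r7.f⟩,
   ⟨M.r0.g, M.r1.g, M.r2.g, M.r3.g, M.r4.g, M.r5.g, M.r6.g, M.r7.g⟩,
   ⟨M.r0.h, M.r1.h, M.r2.h, M.r3.h, M.r4.h, M.r5.h, M.r6.h, M.r7.h⟩⟩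

def rowMul (r : V8) (N : M8) : V8 :=
  ⟨(r.a * N.r0.a + r.b * N.r1.a + r.c * N.r2.a + r.d * N.r3.a + r.e * N.r4.a + r.f * N.r5.a + r.g * N.r6.a + r.h * N.r7.a) % 3,
   (r.a * N.r0.b + r.b * N.r1.b + r.c * N.r2.b + r.d * N.r3.b + r.e * N.r4.b + r.f * N.r5.b + r.g * N.r6.b + r.h * N.r7.b) % 3,
   (r.a * N.r0.c + r.b * N.r1.c + r.c * N.r2.c + r.d * N.r3.c + r.e * N.r4.c + r.f * N.r5.c + r.g * N.r6.c + r.h * N.r7.c) % 3,
   (r.a * N.r0.d + r.b * N.r1.d + r.c * N.r2.d + r.d * N.r3.d + r.e * N.r4.d + r.f * N.r5.d + r.g * N.r6.d + r.h * N.r7.d) % 3,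
   (r.a * N.r0.e + r.b * N.r1.e + r.c * N.r2.e + r.d * N.r3.e + r.e * N.r4.e + r.f * N.r5.e + r.g * N.r6.e + r.h * N.r7.e) % 3,
   (r.a * N.r0.f + r.b * N.r1.f + r.c * N.r2.f + r.d * N.r3.f + r.e * N.r4.f + r.f * N.r5.f + r.g * N.r6.f + r.h * N.r7.f) % 3,
   (r.a * N.r0.g + r.b * N.r1.g + r.c * N.r2.g + r.d * N.r3.g + r.e * N.r4.g + r.f * N.r5.g + r.g * N.r6.g + r.h * N.r7.g) % 3,
   (r.a * N.r0.h + r.b * N.r1.h + r.c * N.r2.h + r.d * N.r3.h + r.e * N.r4.h + r.f * N.r5.h + r.g * N.r6.h + r.h * N.r7.h) % 3⟩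

def mul (M N : M8) : M8 :=
  ⟨rowMul M.r0 N, rowMul M.r1 N, rowMul M.r2 N, rowMul M.r3 N, rowMul M.r4 N, rowMul M.r5 N, rowMul M.r6 N, rowMul M.r7 N⟩

def mv (M : M8) (v : V8) : V8 :=
  ⟨M.r0.dot v, M.r1.dot v, M.r2.dot v, M.r3.dot v, M.r4.dot v, M.r5.dot v, M.r6.dot v, M.r7.dot v⟩

/-- Decode a matrix from the encodings of its rows. -/
def ofRows (a b c d e f g h : ℕ) : M8 :=
  ⟨V8.dec a, V8.dec b, V8.dec c, V8.dec d, V8.dec e, V8.dec f, V8.dec g, V8.dec h⟩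

def one : M8 := ofRows 1 3 9 27 81 243 729 2187

def gramMat : M8 := ofRows 81 243 729 2187 1 3 9 27

/-- The half Gram matrix. -/
def halfGram : M8 := ofRows 81 243 729 2187 0 0 0 0

end M8

/-- The index set of the natural module, in coordinates. -/
abbrev I8 : Type := Fin 4 ⊕ Fin 4

def ix : I8 → Fin 8
  | .inl k => ⟨k.val, by omega⟩
  | .inr k => ⟨4 + k.val, by omega⟩

def ix' : Fin 8 → I8 :=
  ![.inl 0, .inl 1, .inl 2, .inl 3, .inr 0, .inr 1, .inr 2, .inr 3]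

def ixEquiv : I8 ≃ Fin 8 := ⟨ix, ix', by decide, by decide⟩

theorem ix_ix' (k : Fin 8) : ix (ix' k) = k := ixEquiv.right_inv k

theorem sum_ix {A : Type*} [AddCommMonoid A] (f : Fin 8 → A) : ∑ i : I8, f (ix i) = ∑ k, f k :=
  Equiv.sum_comp ixEquiv f

def toVec (v : V8) : I8 → ZMod 3 := fun i => ((v.get (ix i) : ℕ) : ZMod 3)

def toMat (M : M8) : Matrix I8 I8 (ZMod 3) := Matrix.of fun i j => ((M.get (ix i)).get (ix j) : ZMod 3)

theorem get_mul (M N : M8) (i j : Fin 8) :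
    ((M8.mul M N).get i).get j = (∑ k, (M.get i).get k * (N.get k).get j) % 3 := by
  rw [Fin.sum_univ_eight]
  fin_cases i <;> fin_cases j <;> rfl

theorem toMat_mul (M N : M8) : toMat (M8.mul M N) = toMat M * toMat N := by
  ext i j
  rw [Matrix.mul_apply]
  simp only [toMat, Matrix.of_apply, get_mul, ZMod.natCast_mod, Nat.cast_sum, Nat.cast_mul]
  exact (sum_ix fun k => (((M.get (ix i)).get k : ℕ) : ZMod 3) * (((N.get k).get (ix j) : ℕ) : ZMod 3)).symm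

theorem toMat_one : toMat M8.one = 1 := by
  decide +kernel

theorem get_transpose (M : M8) (a b : Fin 8) : (M.transpose.get a).get b = (M.get b).get a := by
  fin_cases a <;> fin_cases b <;> simp [M8.get, M8.transpose, V8.get]

theorem toMat_transpose (M : M8) : toMat M.transpose = (toMat M).transpose := by
  ext i j
  exact congrArg (fun n : ℕ => (n : ZMod 3)) (get_transpose M (ix i) (ix j))

theorem get_mv (M : M8) (v : V8) (i : Fin 8) :
    (M.mv v).get i = (∑ k, (M.get i).get k * v.get k) % 3 := by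
  rw [Fin.sum_univ_eight]
  fin_cases i <;> rfl

theorem toVec_mv (M : M8) (v : V8) : toVec (M.mv v) = Matrix.mulVec (toMat M) (toVec v) := by
  funext i
  simp only [toVec, get_mv, ZMod.natCast_mod, Nat.cast_sum, Nat.cast_mul, Matrix.mulVec,
    dotProduct, toMat, Matrix.of_apply]
  exact (sum_ix fun k => (((M.get (ix i)).get k : ℕ) : ZMod 3) * ((v.get k : ℕ) : ZMod 3)).symm

theorem dot_eq (u v : V8) : ((u.dot v : ℕ) : ZMod 3) = dotProduct (toVec u) (toVec v) := by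
  simp only [dotProduct, toVec]
  rw [sum_ix fun k => ((u.get k : ℕ) : ZMod 3) * ((v.get k : ℕ) : ZMod 3), Fin.sum_univ_eight, V8.dot,
    ZMod.natCast_mod]
  simp [V8.get]

theorem get_dec_lt (n : ℕ) (k : Fin 8) : (V8.dec n).get k < 3 := by
  fin_cases k <;> exact Nat.mod_lt _ (by norm_num)

theorem mv_lt (M : M8) (v : V8) (k : Fin 8) : (M.mv v).get k < 3 := by
  fin_cases k <;> exact Nat.mod_lt _ (by norm_num)

theorem toVec_inj_get {u v : V8} (h : toVec u = toVec v) (hu : ∀ k, u.get k < 3) (hv : ∀ k, v.get k < 3) :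
    u = v := by
  have key : ∀ k : Fin 8, u.get k = v.get k := fun k => by
    have := congrFun h (ix' k)
    rw [toVec, toVec, ix_ix'] at this
    simpa [ZMod.natCast_eq_natCast_iff', Nat.mod_eq_of_lt (hu k), Nat.mod_eq_of_lt (hv k)] using this
  obtain ⟨a, b, c, d, e, f, g, k⟩ := u
  obtain ⟨a', b', c', d', e', f', g', k'⟩ := v
  exact V8.mk.injEq .. ▸ ⟨key 0, key 1, key 2, key 3, key 4, key 5, key 6, key 7⟩

/-- All entries are residues. -/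
def M8.red (M : M8) : Bool := M8.beq (M8.mul M M8.one) M

theorem lt_of_red {M : M8} (h : M.red = true) (i j : Fin 8) : (M.get i).get j < 3 := by
  rw [← M8.eq_of_beq h, get_mul]
  exact Nat.mod_lt _ (by norm_num)

theorem eq_of_toMat {A B : M8} (h : toMat A = toMat B) (hA : A.red = true) (hB : B.red = true) : A = B := by
  have key : ∀ k, A.get k = B.get k := fun k => toVec_inj_get (funext fun j => by
    have := congrFun (congrFun h (ix' k)) j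
    simp only [toMat, Matrix.of_apply, ix_ix'] at this
    exact this) (lt_of_red hA k) (lt_of_red hB k)
  obtain ⟨a, b, c, d, e, f, g, k⟩ := A
  obtain ⟨a', b', c', d', e', f', g', k'⟩ := B
  exact M8.mk.injEq .. ▸ ⟨key 0, key 1, key 2, key 3, key 4, key 5, key 6, key 7⟩

end CfsgLib.OmegaEightThree
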