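import Cfsg.Agent.Lib.OmegaEightThree.Cover

/-! The projective group. -/

set_option autoImplicit false

namespace CfsgLib.OmegaEightThree

open Matrix CfsgLib.Geometry

/-- The simple group. -/
noncomputable abbrev L8 := Oct.G8 (ZMod 3)

/-- The projection. -/
noncomputable def proj : Om →* L8 := QuotientGroup.mk' (Subgroup.center Om)

theorem proj_surjective : Function.Surjective proj := QuotientGroup.mk'_surjective _

theorem center_sq {z : Om} (hz : z ∈ Subgroup.center Om) : z ^ 2 = 1 := by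
  have hQ := (Oct.evenHyp8 (F := ZMod 3)).nondeg
  have hz' : omegaEquiv (Oct.Q (ZMod 3)) z ∈
      Subgroup.center (commutator (orth (Oct.Q (ZMod 3)))) :=
    Subgroup.mem_center_iff.2 fun w => by
      obtain ⟨w', rfl⟩ := (omegaEquiv (Oct.Q (ZMod 3))).surjective w
      rw [← map_mul, ← map_mul, Subgroup.mem_center_iff.1 hz w']
  obtain ⟨t, ht, htv⟩ := (mem_center_omega_iff hQ (by simp) _).1 hz'
  have hm : ∀ v : I8 → ZMod 3, mat z.1 *ᵥ v = t • v := htv
  refine Subtype.ext (mat_injective (Matrix.ext_of_mulVec_single fun i => ?_))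
  rw [SubgroupClass.coe_pow, mat_sq, ← Matrix.mulVec_mulVec, hm, hm, smul_smul, ht, one_smul]
  show _ = mat 1 *ᵥ _
  rw [mat_one, Matrix.one_mulVec]

theorem exists_center_of_proj {a b : Om} (h : proj a = proj b) :
    ∃ z ∈ Subgroup.center Om, a = z * b := by
  refine ⟨a * b⁻¹, ?_, by rw [inv_mul_cancel_right]⟩
  have h' : proj (a * b⁻¹) = 1 := by rw [map_mul, map_inv, h, mul_inv_cancel]
  rwa [proj, QuotientGroup.mk'_apply, QuotientGroup.eq_one_iff] at h'

theorem eq_of_proj_eq {a b : Om} (ha : a ^ 3 = 1) (hb : b ^ 3 = 1) (h : proj a = proj b) : a = b := by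
  obtain ⟨z, hz, rfl⟩ := exists_center_of_proj h
  have hc : Commute z b := (Subgroup.mem_center_iff.1 hz b).symm
  rw [hc.mul_pow, hb, mul_one, pow_succ, center_sq hz, one_mul] at ha
  rw [ha, one_mul]

theorem exists_lift {x : L8} (hx : orderOf x = 3) : ∃ y : Om, y ^ 3 = 1 ∧ y ≠ 1 ∧ proj y = x := by
  obtain ⟨y, rfl⟩ := proj_surjective x
  have h3 := pow_orderOf_eq_one (proj y)
  rw [hx] at h3
  have hc : y ^ 3 ∈ Subgroup.center Om := by
    rwa [← map_pow, proj, QuotientGroup.mk'_apply, QuotientGroup.eq_one_iff] at h3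
  have h6 : (y ^ 3) ^ 2 = 1 := center_sq hc
  have he : proj (y ^ 4) = proj y := by rw [map_pow, pow_succ, h3, one_mul]
  refine ⟨y ^ 4, ?_, fun h => ?_, he⟩
  · rw [← pow_mul, show 4 * 3 = 3 * 2 + 3 * 2 from rfl, pow_add, pow_mul, h6, one_mul]
  · rw [h, map_one] at he
    rw [← he, orderOf_one] at hx
    norm_num at hx

/-- The representatives as elements of `Ω`. -/
noncomputable def repOm (k : ℕ) : Om := ⟨repO k, repO_mem k⟩

theorem repOm_cube (k : ℕ) : repOm k ^ 3 = 1 := Subtype.ext (repO_cube k)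

theorem repOm_ne_one {k : ℕ} (hk : k < 13) : repOm k ≠ 1 := fun h => by
  have e : toMat (repM k) = toMat M8.one := by
    rw [← mat_repO hk, toMat_one, ← mat_one]; exact congrArg mat (congrArg Subtype.val h)
  exact (repM_spec hk).2.1 (eq_of_toMat e (repM_spec hk).2.2 (by decide +kernel))

/-- The image of a representative. -/
noncomputable def repL (k : ℕ) : L8 := proj (repOm k)

theorem order_repL {k : ℕ} (hk : k < 13) : orderOf (repL k) = 3 := by
  refine orderOf_eq_prime (by rw [repL, ← map_pow, repOm_cube, map_one]) fun h => ?_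
  exact repOm_ne_one hk (eq_of_proj_eq (repOm_cube k) (one_pow _) (by rw [map_one]; exact h))

end CfsgLib.OmegaEightThree
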