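import Cfsg.Agent.Lib.OmegaEightThree.SylowTable
import Mathlib.GroupTheory.Sylow

/-! A Sylow `3`-subgroup of `Ω⁺₈(3)` as a product of two tables. -/

set_option autoImplicit false

namespace CfsgLib.OmegaEightThree

open Matrix

/-- The translations. -/
noncomputable def V3 : Subgroup O8p := Subgroup.closure (Set.range fun a : Fin 6 => genO a)

/-- The second factor. -/
noncomputable def H3 : Subgroup O8p := Subgroup.closure (Set.range fun a : Fin 6 => genO (6 + a))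

/-- The generated subgroup. -/
noncomputable def U3 : Subgroup O8p := V3 ⊔ H3

theorem gen_mem_V3 {a : ℕ} (ha : a < 6) : genO a ∈ V3 := Subgroup.subset_closure ⟨⟨a, ha⟩, rfl⟩

theorem gen_mem_H3 {a : ℕ} (ha : a < 6) : genO (6 + a) ∈ H3 := Subgroup.subset_closure ⟨⟨a, ha⟩, rfl⟩

theorem V3_le : V3 ≤ Om := (Subgroup.closure_le _).2 (by rintro _ ⟨a, rfl⟩; exact genO_mem _)

theorem H3_le : H3 ≤ Om := (Subgroup.closure_le _).2 (by rintro _ ⟨a, rfl⟩; exact genO_mem _)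

theorem U3_le : U3 ≤ Om := sup_le V3_le H3_le

theorem exists_v : ∀ i, i < 729 → ∃ x ∈ V3, mat x = toMat (vM i) := by
  intro i
  induction i using Nat.strong_induction_on with
  | _ i ih =>
    intro hi
    rcases Nat.eq_zero_or_pos i with rfl | hpos
    · exact ⟨1, one_mem _, by rw [vM_zero, toMat_one, mat_one]⟩
    · obtain ⟨h1, h2, -, h4⟩ := pred hi hpos
      obtain ⟨x, hx, hm⟩ := ih (i - pPow (pFst i)) (by omega) (by omega)
      refine ⟨genO (pFst i) * x, mul_mem (gen_mem_V3 (pFst_lt i)) hx, ?_⟩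
      rw [mat_mul, hm, mat_genO, ← toMat_mul, (v_mul (pFst_lt i) (by omega)).2, h2]

theorem exists_h : ∀ j, j < 729 → ∃ x ∈ H3, mat x = toMat (hM j) := by
  intro j
  induction j using Nat.strong_induction_on with
  | _ j ih =>
    intro hj
    rcases Nat.eq_zero_or_pos j with rfl | hpos
    · exact ⟨1, one_mem _, by rw [hM_zero, toMat_one, mat_one]⟩
    · obtain ⟨h1, -, h3, h4⟩ := pred hj hpos
      obtain ⟨x, hx, hm⟩ := ih (j - pPow (pFst j)) (by omega) (by omega)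
      refine ⟨genO (6 + pFst j) * x, mul_mem (gen_mem_H3 (pFst_lt j)) hx, ?_⟩
      rw [mat_mul, hm, mat_genO, ← toMat_mul, (h_mul (pFst_lt j) (by omega)).2, h3]

theorem genO_inv (a : ℕ) : (genO a)⁻¹ = genO a * genO a := ofGood_inv _

theorem mem_V3 {x : O8p} (hx : x ∈ V3) : ∃ i, i < 729 ∧ mat x = toMat (vM i) := by
  have step : ∀ a, a < 6 → ∀ y : O8p, (∃ i, i < 729 ∧ mat y = toMat (vM i)) →
      ∃ i, i < 729 ∧ mat (genO a * y) = toMat (vM i) := by
    rintro a ha y ⟨i, hi, hy⟩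
    obtain ⟨hlt, e⟩ := v_mul ha hi
    exact ⟨_, hlt, by rw [mat_mul, hy, mat_genO, ← toMat_mul, e]⟩
  induction hx using Subgroup.closure_induction_left with
  | one => exact ⟨0, by norm_num, by rw [vM_zero, toMat_one, mat_one]⟩
  | mul_left g hg y _ ih =>
    obtain ⟨a, rfl⟩ := hg
    exact step a a.2 y ih
  | inv_mul_cancel g hg y _ ih =>
    obtain ⟨a, rfl⟩ := hg
    rw [genO_inv, mul_assoc]
    exact step a a.2 _ (step a a.2 y ih)

theorem mem_H3 {x : O8p} (hx : x ∈ H3) : ∃ i, i < 729 ∧ mat x = toMat (hM i) := by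
  have step : ∀ a, a < 6 → ∀ y : O8p, (∃ i, i < 729 ∧ mat y = toMat (hM i)) →
      ∃ i, i < 729 ∧ mat (genO (6 + a) * y) = toMat (hM i) := by
    rintro a ha y ⟨i, hi, hy⟩
    obtain ⟨hlt, e⟩ := h_mul ha hi
    exact ⟨_, hlt, by rw [mat_mul, hy, mat_genO, ← toMat_mul, e]⟩
  induction hx using Subgroup.closure_induction_left with
  | one => exact ⟨0, by norm_num, by rw [hM_zero, toMat_one, mat_one]⟩
  | mul_left g hg y _ ih =>
    obtain ⟨a, rfl⟩ := hg
    exact step a a.2 y ih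
  | inv_mul_cancel g hg y _ ih =>
    obtain ⟨a, rfl⟩ := hg
    rw [genO_inv, mul_assoc]
    exact step a a.2 _ (step a a.2 y ih)

theorem normalizes_V3 {g : O8p} (h : ∀ a, a < 6 → g * genO a * g⁻¹ ∈ V3) : ∀ v ∈ V3, g * v * g⁻¹ ∈ V3 := by
  intro v hv
  induction hv using Subgroup.closure_induction with
  | mem x hx => obtain ⟨a, rfl⟩ := hx; exact h a a.2
  | one => simp
  | mul x y _ _ hx hy => rw [show g * (x * y) * g⁻¹ = g * x * g⁻¹ * (g * y * g⁻¹) by group]; exact mul_mem hx hy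
  | inv x _ hx => rw [show g * x⁻¹ * g⁻¹ = (g * x * g⁻¹)⁻¹ by group]; exact inv_mem hx

theorem conj_V3 {h v : O8p} (hh : h ∈ H3) : v ∈ V3 → h * v * h⁻¹ ∈ V3 := by
  have hgen : ∀ a, a < 6 → ∀ v ∈ V3, genO (6 + a) * v * (genO (6 + a))⁻¹ ∈ V3 := by
    intro a ha v hv
    obtain ⟨i, hi, hm⟩ := mem_V3 hv
    obtain ⟨hlt, e⟩ := c_mul ha hi
    obtain ⟨w, hw, hwm⟩ := exists_v _ hlt
    have e2 : genO (6 + a) * v = w * genO (6 + a) := mat_injective (by
      rw [mat_mul, mat_mul, hm, hwm, mat_genO, ← toMat_mul, ← toMat_mul, e])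
    rw [e2, mul_inv_cancel_right]; exact hw
  induction hh using Subgroup.closure_induction_left generalizing v with
  | one => intro hv; simpa using hv
  | mul_left g hg y _ ih =>
    intro hv
    obtain ⟨a, rfl⟩ := hg
    have := hgen a a.2 _ (ih hv)
    simpa [mul_assoc] using this
  | inv_mul_cancel g hg y _ ih =>
    intro hv
    obtain ⟨a, rfl⟩ := hg
    have := hgen a a.2 _ (hgen a a.2 _ (ih hv))
    rw [genO_inv]
    simpa [mul_assoc] using this

theorem mem_U3 {x : O8p} (hx : x ∈ U3) : ∃ v ∈ V3, ∃ h ∈ H3, x = v * h := by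
  have hle : H3 ≤ Subgroup.normalizer (V3 : Set O8p) := fun h hh => by
    rw [Subgroup.mem_normalizer_iff]
    intro v
    refine ⟨fun hv => conj_V3 hh hv, fun hv => ?_⟩
    have := conj_V3 (inv_mem hh) hv
    simpa [mul_assoc] using this
  rw [U3, ← SetLike.mem_coe, Subgroup.coe_mul_of_right_le_normalizer_left _ _ hle] at hx
  obtain ⟨v, hv, h, hh, rfl⟩ := hx
  exact ⟨v, hv, h, hh, rfl⟩

/-- A translation fixing `fVec` is trivial. -/
theorem V3_free {x : O8p} (hx : x ∈ V3) (h : mat x *ᵥ toVec fVec = toVec fVec) : x = 1 := by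
  obtain ⟨i, hi, hm⟩ := mem_V3 hx
  rw [hm, ← toVec_mv] at h
  have h' := toVec_inj_get h (mv_lt _ _) (by decide)
  have hd := decV_vM hi
  rw [h'] at hd
  obtain rfl : i = 0 := hd.symm
  exact mat_injective (by rw [hm, vM_zero, toMat_one, mat_one])

theorem H3_fix {x : O8p} (hx : x ∈ H3) : mat x *ᵥ toVec fVec = toVec fVec := by
  obtain ⟨j, hj, hm⟩ := mem_H3 hx
  rw [hm, ← toVec_mv, hM_fix hj]

theorem card_U3 : Nat.card U3 = 531441 := by
  have hV : Nat.card V3 = 729 := by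
    have hv := fun i : Fin 729 => exists_v i i.2
    choose fv hfv hmv using hv
    rw [← Nat.card_fin 729]
    refine (Nat.card_eq_of_bijective (fun i => (⟨fv i, hfv i⟩ : V3)) ⟨fun a b h => Fin.ext ?_, ?_⟩).symm
    · have h1 : mat (fv a) = mat (fv b) := congrArg (fun x : V3 => mat x.1) h
      rw [hmv, hmv] at h1
      have h2 := toVec_inj_get (u := (vM a).mv fVec) (v := (vM b).mv fVec)
        (by rw [toVec_mv, toVec_mv, h1]) (mv_lt _ _) (mv_lt _ _)
      rw [← decV_vM a.2, ← decV_vM b.2, h2]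
    · rintro ⟨x, hx⟩
      obtain ⟨i, hi, hm⟩ := mem_V3 hx
      exact ⟨⟨i, hi⟩, Subtype.ext (mat_injective (by rw [hmv, hm]))⟩
  have hH : Nat.card H3 = 729 := by
    have hh := fun i : Fin 729 => exists_h i i.2
    choose fh hfh hmh using hh
    rw [← Nat.card_fin 729]
    refine (Nat.card_eq_of_bijective (fun i => (⟨fh i, hfh i⟩ : H3)) ⟨fun a b h => Fin.ext ?_, ?_⟩).symm
    · have h1 : mat (fh a) = mat (fh b) := congrArg (fun x : H3 => mat x.1) h
      rw [hmh, hmh] at h1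
      have h2 : ∀ e, (hM a).mv e = (hM b).mv e := fun e =>
        toVec_inj_get (by rw [toVec_mv, toVec_mv, h1]) (mv_lt _ _) (mv_lt _ _)
      rw [← decH_hM a.2, ← decH_hM b.2, h2, h2]
    · rintro ⟨x, hx⟩
      obtain ⟨i, hi, hm⟩ := mem_H3 hx
      exact ⟨⟨i, hi⟩, Subtype.ext (mat_injective (by rw [hmh, hm]))⟩
  let f : V3 × H3 → U3 := fun p =>
    ⟨p.1.1 * p.2.1, mul_mem (Subgroup.mem_sup_left p.1.2) (Subgroup.mem_sup_right p.2.2)⟩
  have hbij : Function.Bijective f := by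
    refine ⟨fun p q h => ?_, fun x => ?_⟩
    · have h1 : p.1.1 * p.2.1 = q.1.1 * q.2.1 := congrArg Subtype.val h
      have h2 : q.1.1⁻¹ * p.1.1 = q.2.1 * p.2.1⁻¹ := by
        calc q.1.1⁻¹ * p.1.1 = q.1.1⁻¹ * (p.1.1 * p.2.1) * p.2.1⁻¹ := by group
          _ = q.2.1 * p.2.1⁻¹ := by rw [h1]; group
      have h3 : q.1.1⁻¹ * p.1.1 = 1 := V3_free (mul_mem (inv_mem q.1.2) p.1.2)
        (by rw [h2]; exact H3_fix (mul_mem q.2.2 (inv_mem p.2.2)))
      have h4 : p.1.1 = q.1.1 := (inv_mul_eq_one.1 h3).symm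
      exact Prod.ext (Subtype.ext h4) (Subtype.ext (mul_left_cancel (h4 ▸ h1 : q.1.1 * p.2.1 = _)))
    · obtain ⟨v, hv, h, hh, he⟩ := mem_U3 x.2
      exact ⟨(⟨v, hv⟩, ⟨h, hh⟩), Subtype.ext he.symm⟩
  rw [← Nat.card_eq_of_bijective f hbij, Nat.card_prod, hV, hH]

/-- Every element of order three of `Ω⁺₈(3)` is conjugate into the table. -/
theorem exists_conj_mem_U3 {x : O8p} (hx : x ∈ Om) (hx3 : x ^ 3 = 1) :
    ∃ g ∈ Om, g * x * g⁻¹ ∈ U3 := by
  have hU : Nat.card (U3.subgroupOf Om) = 3 ^ (Nat.card Om).factorization 3 := by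
    rw [Nat.card_congr (Subgroup.subgroupOfEquivOfLe U3_le).toEquiv, card_U3, card_omega,
      show (9904359628800 : ℕ) = 3 ^ 12 * 18636800 by norm_num,
      Nat.factorization_mul (by norm_num) (by norm_num), Finsupp.add_apply,
      Nat.prime_three.factorization_pow, Finsupp.single_eq_same,
      Nat.factorization_eq_zero_of_not_dvd (by norm_num)]
    norm_num
  let P : Sylow 3 Om := Sylow.ofCard (U3.subgroupOf Om) hU
  have hp : IsPGroup 3 (Subgroup.zpowers (⟨x, hx⟩ : Om)) := fun y => ⟨1, by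
    obtain ⟨k, hk⟩ := y.2
    refine Subtype.ext ?_
    show (y : Om) ^ (3 ^ 1) = 1
    rw [← hk, pow_one]
    show ((⟨x, hx⟩ : Om) ^ k) ^ 3 = 1
    rw [← zpow_natCast, ← _root_.zpow_mul, mul_comm, _root_.zpow_mul, zpow_natCast,
      show (⟨x, hx⟩ : Om) ^ 3 = 1 from Subtype.ext hx3, _root_.one_zpow]⟩
  obtain ⟨Q, hQ⟩ := hp.exists_le_sylow
  obtain ⟨g, hg⟩ := MulAction.exists_smul_eq Om Q P
  refine ⟨g, g.2, ?_⟩
  have h : g * ⟨x, hx⟩ * g⁻¹ ∈ (P : Subgroup Om) := by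
    rw [← hg, Sylow.coe_subgroup_smul]
    exact Subgroup.smul_mem_pointwise_smul _ (MulAut.conj g) _ (hQ (Subgroup.mem_zpowers _))
  exact h

end CfsgLib.OmegaEightThree
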