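import Cfsg.Agent.Lib.OmegaEightThree.Group

/-! Checks on the tables of a Sylow `3`-subgroup of `Ω⁺₈(3)`. -/

set_option autoImplicit false

namespace CfsgLib.OmegaEightThree

def tabM (t : List (List M8)) (i : ℕ) : M8 := (t.getD (i / 27) []).getD (i % 27) M8.one

def tabN (t : List (List ℕ)) (i : ℕ) : ℕ := (t.getD (i / 27) []).getD (i % 27) 0

def vM (i : ℕ) : M8 := tabM vTab i

def hM (j : ℕ) : M8 := tabM hTab j

def pPow : ℕ → ℕ
  | 0 => 243
  | 1 => 81
  | 2 => 27
  | 3 => 9
  | 4 => 3
  | _ => 1

/-- Increment digit `a`. -/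
def vInc (a i : ℕ) : ℕ := if i / pPow a % 3 = 2 then i - 2 * pPow a else i + pPow a

/-- The first non-zero digit. -/
def pFst (i : ℕ) : ℕ :=
  if 243 ≤ i then 0 else if 81 ≤ i then 1 else if 27 ≤ i then 2 else if 9 ≤ i then 3 else
    if 3 ≤ i then 4 else 5

def hStep (a j : ℕ) : ℕ := tabN (hMove.getD a []) j

def vStep (a i : ℕ) : ℕ := tabN (vConj.getD a []) i

def fVec : V8 := ⟨0, 0, 0, 0, 1, 0, 0, 0⟩

def e5 : V8 := ⟨0, 0, 0, 0, 0, 1, 0, 0⟩

def e6 : V8 := ⟨0, 0, 0, 0, 0, 0, 1, 0⟩

/-- The index of a translation from the image of `fVec`. -/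
def decV (w : V8) : ℕ := 243 * w.b + 81 * w.c + 27 * w.d + 9 * w.f + 3 * w.g + w.h

/-- The index in the second table. -/
def decH (u w : V8) : ℕ := 243 * u.c + 81 * u.d + 27 * u.g + 9 * u.h + 3 * w.d + w.h

theorem all_729 {p : ℕ → Bool} (h0 : (List.range 243).all p = true)
    (h1 : (List.range 243).all (fun i => p (243 + i)) = true)
    (h2 : (List.range 243).all (fun i => p (486 + i)) = true) : (List.range 729).all p = true := by
  simp only [List.all_eq_true, List.mem_range] at h0 h1 h2 ⊢
  intro i hi
  rcases lt_or_ge i 243 with h | h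
  · exact h0 i h
  rcases lt_or_ge i 486 with h' | h'
  · have := h1 (i - 243) (by omega)
    rwa [show 243 + (i - 243) = i by omega] at this
  · have := h2 (i - 486) (by omega)
    rwa [show 486 + (i - 486) = i by omega] at this

def vCheckAt (i : ℕ) : Bool :=
  (List.range 6).all (fun a =>
    decide (vInc a i < 729) && M8.beq (M8.mul (genM a) (vM i)) (vM (vInc a i)))

theorem v_check0 : (List.range 243).all vCheckAt = true := by decide +kernel

theorem v_check1 : (List.range 243).all (fun i => vCheckAt (243 + i)) = true := by decide +kernel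

theorem v_check2 : (List.range 243).all (fun i => vCheckAt (486 + i)) = true := by decide +kernel

theorem v_check : (List.range 729).all (fun i => (List.range 6).all (fun a =>
    decide (vInc a i < 729) && M8.beq (M8.mul (genM a) (vM i)) (vM (vInc a i)))) = true := by
  exact all_729 v_check0 v_check1 v_check2

def hCheckAt (j : ℕ) : Bool :=
  (List.range 6).all (fun a =>
    decide (hStep a j < 729) && M8.beq (M8.mul (genM (6 + a)) (hM j)) (hM (hStep a j)))

theorem h_check0 : (List.range 243).all hCheckAt = true := by decide +kernel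

theorem h_check1 : (List.range 243).all (fun i => hCheckAt (243 + i)) = true := by decide +kernel

theorem h_check2 : (List.range 243).all (fun i => hCheckAt (486 + i)) = true := by decide +kernel

theorem h_check : (List.range 729).all (fun j => (List.range 6).all (fun a =>
    decide (hStep a j < 729) && M8.beq (M8.mul (genM (6 + a)) (hM j)) (hM (hStep a j)))) = true := by
  exact all_729 h_check0 h_check1 h_check2

def cCheckAt (i : ℕ) : Bool :=
  (List.range 6).all (fun a =>
    decide (vStep a i < 729) && M8.beq (M8.mul (genM (6 + a)) (vM i)) (M8.mul (vM (vStep a i)) (genM (6 + a))))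

theorem c_check0 : (List.range 243).all cCheckAt = true := by decide +kernel

theorem c_check1 : (List.range 243).all (fun i => cCheckAt (243 + i)) = true := by decide +kernel

theorem c_check2 : (List.range 243).all (fun i => cCheckAt (486 + i)) = true := by decide +kernel

theorem c_check : (List.range 729).all (fun i => (List.range 6).all (fun a =>
    decide (vStep a i < 729) && M8.beq (M8.mul (genM (6 + a)) (vM i)) (M8.mul (vM (vStep a i)) (genM (6 + a))))) = true := by
  exact all_729 c_check0 c_check1 c_check2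

theorem dec_check : (List.range 729).all (fun i =>
    (decV ((vM i).mv fVec)).beq i && (decH ((hM i).mv e5) ((hM i).mv e6)).beq i && ((hM i).mv fVec).beq fVec) = true := by
  decide +kernel

theorem pred_check : (List.range 729).all (fun i => i == 0 ||
    (decide (pPow (pFst i) ≤ i) && (vInc (pFst i) (i - pPow (pFst i)) == i) &&
      (hStep (pFst i) (i - pPow (pFst i)) == i) && decide (0 < pPow (pFst i)))) = true := by
  decide +kernel

theorem zero_check : (M8.beq (vM 0) M8.one && M8.beq (hM 0) M8.one) = true := by decide +kernel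

theorem vM_zero : vM 0 = M8.one := M8.eq_of_beq (Bool.and_eq_true_iff.1 zero_check).1

theorem hM_zero : hM 0 = M8.one := M8.eq_of_beq (Bool.and_eq_true_iff.1 zero_check).2

theorem v_mul {a i : ℕ} (ha : a < 6) (hi : i < 729) :
    vInc a i < 729 ∧ M8.mul (genM a) (vM i) = vM (vInc a i) := by
  have h := List.all_eq_true.1 (List.all_eq_true.1 v_check i (List.mem_range.2 hi)) a (List.mem_range.2 ha)
  simp only [Bool.and_eq_true, decide_eq_true_eq] at h
  exact ⟨h.1, M8.eq_of_beq h.2⟩

theorem h_mul {a j : ℕ} (ha : a < 6) (hj : j < 729) :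
    hStep a j < 729 ∧ M8.mul (genM (6 + a)) (hM j) = hM (hStep a j) := by
  have h := List.all_eq_true.1 (List.all_eq_true.1 h_check j (List.mem_range.2 hj)) a (List.mem_range.2 ha)
  simp only [Bool.and_eq_true, decide_eq_true_eq] at h
  exact ⟨h.1, M8.eq_of_beq h.2⟩

theorem c_mul {a i : ℕ} (ha : a < 6) (hi : i < 729) :
    vStep a i < 729 ∧ M8.mul (genM (6 + a)) (vM i) = M8.mul (vM (vStep a i)) (genM (6 + a)) := by
  have h := List.all_eq_true.1 (List.all_eq_true.1 c_check i (List.mem_range.2 hi)) a (List.mem_range.2 ha)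
  simp only [Bool.and_eq_true, decide_eq_true_eq] at h
  exact ⟨h.1, M8.eq_of_beq h.2⟩

theorem decV_vM {i : ℕ} (hi : i < 729) : decV ((vM i).mv fVec) = i := by
  have h := List.all_eq_true.1 dec_check i (List.mem_range.2 hi)
  simp only [Bool.and_eq_true, Nat.beq_eq] at h
  exact h.1.1

theorem decH_hM {j : ℕ} (hj : j < 729) : decH ((hM j).mv e5) ((hM j).mv e6) = j := by
  have h := List.all_eq_true.1 dec_check j (List.mem_range.2 hj)
  simp only [Bool.and_eq_true, Nat.beq_eq] at h
  exact h.1.2

theorem hM_fix {j : ℕ} (hj : j < 729) : (hM j).mv fVec = fVec := by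
  have h := List.all_eq_true.1 dec_check j (List.mem_range.2 hj)
  simp only [Bool.and_eq_true] at h
  exact V8.eq_of_beq h.2

theorem pred {i : ℕ} (hi : i < 729) (h0 : 0 < i) :
    pPow (pFst i) ≤ i ∧ vInc (pFst i) (i - pPow (pFst i)) = i ∧
      hStep (pFst i) (i - pPow (pFst i)) = i ∧ 0 < pPow (pFst i) := by
  have h := List.all_eq_true.1 pred_check i (List.mem_range.2 hi)
  simp only [Bool.or_eq_true, Bool.and_eq_true, beq_iff_eq, decide_eq_true_eq] at h
  obtain ⟨⟨⟨h1, h2⟩, h3⟩, h4⟩ := h.resolve_left (by omega)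
  exact ⟨h1, h2, h3, h4⟩

theorem pFst_lt (i : ℕ) : pFst i < 6 := by unfold pFst; split_ifs <;> omega

end CfsgLib.OmegaEightThree
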